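import Cfsg.Agent.H27.MS2

/-! S5899: a kit of elementary facts about the interface structures. -/

set_option autoImplicit false
set_option linter.unusedVariables false
set_option linter.unusedSectionVars false

namespace H12.MS
open Cfsg Subgroup H18 H17.GS H28.S H2.GW
open H19 hiding eq_bot_mono
open H28.NG hiding Hyp Uniq Ch
open H29.PU (bm JJ_le_bm bm_le nrm_bm)
open H9 (JJ MaxAb)
open H27.MS H12.MS

universe u
variable {G : Type u} [Group G] [Finite G] {N Q T T' X V V₀ S Y E L R B : Subgroup G} {a b g m v : G} {n : ℕ}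

theorem hcj (g : G) (S : Subgroup G) : H27.cj g S = cj g S := rfl

theorem cj_bm (g : G) (S : Subgroup G) : cj g (bm 2 S) = bm 2 (cj g S) :=
  H29.PU.map_bm (f := (MulAut.conj g).toMonoidHom) (MulAut.conj g).injective S

theorem cj_Zs (g : G) (S : Subgroup G) : cj g (Zs S) = Zs (cj g S) := cj_OZ g S

theorem nsol_J (h : ¬ Sol X) (g : G) : ¬ Sol (cj g X) := fun k => h (cj_inv_cj g X ▸ sol_J k g⁻¹)

theorem sol_of_der' (h : Sol ⁅X, X⁆) : Sol X := by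
  have : Group.IsSolvable (commutator X) := Cfsg.Agent.S0810.solv_congr
    ((commutator X).equivMapOfInjective X.subtype X.subtype_injective) (map_subtype_commutator X ▸ h)
  exact solvable_of_ker_le_range (commutator X).subtype (Abelianization.of) (by simp)

/-! ### `Fr` -/
theorem H27.MS.Fr.QN (h : Fr N Q T) : Q ≤ N := h.nq.le
theorem H27.MS.Fr.TN (h : Fr N Q T) : T ≤ N := h.syl.le
theorem H27.MS.Fr.le (h : Fr N Q T) : Q ≤ T := (le_Oc h.nq h.pg).trans (Oc_le_hall h.syl)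
theorem H27.MS.Fr.fr (h : Fr N Q T) (l : X ≤ N) (k : N ≤ X ⊔ Q) : X = N := by_contra fun n =>
  h.ns (sol_mono (sol_sup h.pg.sol (h.sol X (l.lt_of_ne n)) (l.trans h.nq.norm)) (sup_comm X Q ▸ k))
theorem H27.MS.Fr.nle (h : Fr N Q T) : ¬ N ≤ Q := fun k => h.ns (sol_mono h.pg.sol k)
theorem H27.MS.Fr.nT (h : Fr N Q T) : ¬ N ≤ T := fun k => h.ns (sol_mono h.syl.pi.sol k)
theorem H27.MS.Fr.eq_of (h : Fr N Q T) (l : X ≤ N) (k : ¬ Sol X) : X = N := by_contra fun n => k (h.sol X (l.lt_of_ne n))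
theorem H27.MS.Fr.of_sol (h : Fr N Q T) (l : X ⊴ N) (k : Sol X) : X ≤ Q := (h.smp X l).resolve_right fun e => h.ns (e ▸ k)
theorem H27.MS.Fr.of_pg (h : Fr N Q T) (l : X ⊴ N) (k : H19.PG 2 X) : X ≤ Q := h.of_sol l k.sol
theorem H27.MS.Fr.oc (h : Fr N Q T) : Oc {2} N = Q :=
  le_antisymm (h.of_pg (Oc_normal _ _) (Oc_pi _ _)) (le_Oc h.nq h.pg)
theorem H27.MS.Fr.perf (h : Fr N Q T) : ⁅N, N⁆ = N := (h.smp _ (der_normal N)).resolve_left fun k =>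
  h.ns (sol_of_der' (sol_mono h.pg.sol k))
theorem H27.MS.Fr.syl' (h : Fr N Q T) (k : Syl 2 T' N) : Fr N Q T' := { h with syl := k }
theorem H27.MS.Fr.J (h : Fr N Q T) (g : G) : Fr (cj g N) (cj g Q) (cj g T) where
  pg := h.pg.J g
  nq := h.nq.J g
  syl := h.syl.J g
  ns := nsol_J h.ns g
  sol X l := cj_cj_inv g X ▸ sol_J (h.sol _ (by rw [← cj_lt_cj (g := g), cj_cj_inv]; exact l)) g
  smp X l := (h.smp _ (cj_inv_cj g N ▸ l.J g⁻¹)).imp le_cj_iff.2 fun e => by rw [← e, cj_cj_inv]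
theorem H27.MS.Fr.conj (h : Fr N Q T) (hg : g ∈ N) : Fr N Q (cj g T) := h.syl' (h.syl.Jmem hg)
/-- a subgroup of `N` not contained in `Q` has normal closure `N` -/
theorem H27.MS.Fr.kc (h : Fr N Q T) (l : X ≤ N) (k : ¬ X ≤ Q) : Kc X N = N :=
  (h.smp _ ⟨Kc_le_of l le_normalizer, Kc_norm⟩).resolve_left fun j => k (le_Kc.trans j)

/-! ### `Sec` -/
theorem H27.MS.Sec.ker (s : Sec N Q V₀ V) (h : Fr N Q T) : N ⊓ Cm V₀ V ≤ Q :=
  (h.smp _ (inf_normal_of_norm' (norms_Cm s.n0 s.nV))).resolve_right fun e => s.nc (e.ge.trans inf_le_right)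
theorem H27.MS.Sec.mem (s : Sec N Q V₀ V) (h : Fr N Q T) (h1 : g ∈ N) (h2 : g ∈ Cm V₀ V) : g ∈ Q := s.ker h ⟨h1, h2⟩
theorem H27.MS.Sec.ker' (s : Sec N Q ⊥ V) (h : Fr N Q T) : N ⊓ C(V) ≤ Q := Cm_bot (W := V) ▸ s.ker h
theorem H27.MS.Sec.cq' (s : Sec N Q ⊥ V) : Q ≤ C(V) := Cm_bot (W := V) ▸ s.cq
theorem H27.MS.Sec.nc' (s : Sec N Q ⊥ V) : ¬ N ≤ C(V) := Cm_bot (W := V) ▸ s.nc
theorem H27.MS.Sec.ab (s : Sec N Q ⊥ V) : Abelem 2 V :=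
  ⟨comm_iff_der.2 (le_bot_iff.1 s.ea.ab), fun v p => by rw [sq]; exact s.ea.sq v p⟩
theorem sec_bot (h : Abelem 2 V) (h1 : N ≤ N(V)) (h2 : Q ≤ C(V)) (h3 : ¬ N ≤ C(V)) : Sec N Q ⊥ V :=
  ⟨ea_bot h, h1, nbot, Cm_bot (W := V) ▸ h2, Cm_bot (W := V) ▸ h3⟩
theorem H27.MS.Sec.J (s : Sec N Q V₀ V) (g : G) : Sec (cj g N) (cj g Q) (cj g V₀) (cj g V) :=
  ⟨s.ea.J g, cj_norm g V ▸ cj_mono g s.nV, cj_norm g V₀ ▸ cj_mono g s.n0, cj_Cm g V₀ V ▸ cj_mono g s.cq,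
    by rw [← cj_Cm, cj_le_cj]; exact s.nc⟩

/-! ### types -/
theorem iv_J : Iv (cj g N) (cj g Q) a ↔ Iv N Q (g⁻¹ * a * g) := by
  simp only [Iv, mem_cj, mul_assoc, mul_inv_cancel_left]
theorem H27.MS.Iv.J (h : Iv N Q a) (g : G) : Iv (cj g N) (cj g Q) (g * a * g⁻¹) := iv_J.2 (by simpa [mul_assoc] using h)
theorem H27.MS.Iso.J {X : Type} [Group X] (h : Iso N Q X) (g : G) : Iso (cj g N) (cj g Q) X := by
  obtain ⟨π, p, q⟩ := h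
  refine ⟨π.comp (cjEquiv g N).symm.toMonoidHom, p.comp (cjEquiv g N).symm.surjective, fun x => ?_⟩
  obtain ⟨y, rfl⟩ := (cjEquiv g N).surjective x
  rw [MonoidHom.comp_apply, MulEquiv.coe_toMonoidHom, MulEquiv.symm_apply_apply, q]
  exact conj_mem_cj.symm
theorem H27.MS.Pe.J (h : Pe N Q) (g : G) : Pe (cj g N) (cj g Q) :=
  let ⟨F, a, b, p, c, d, e, f⟩ := h; ⟨F, a, b, p, c, d, e, f.J g⟩
theorem H27.MS.Ps.J (h : Ps N Q) (g : G) : Ps (cj g N) (cj g Q) :=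
  let ⟨F, a, b, p, c, d, f⟩ := h; ⟨F, a, b, p, c, d, f.J g⟩
theorem H27.MS.Po.J (h : Po N Q) (g : G) : Po (cj g N) (cj g Q) :=
  let ⟨F, a, b, p, c, d, f⟩ := h; ⟨F, a, b, p, c, d, f.J g⟩
private theorem trJ {h : G} (k : h * (g⁻¹ * a * g) * h⁻¹ * (g⁻¹ * b * g)⁻¹ ∈ Q) :
    g * h * g⁻¹ * a * (g * h * g⁻¹)⁻¹ * b⁻¹ ∈ cj g Q := mem_cj.2 (by convert k using 1; group)
theorem H27.MS.One.J (h : One N Q) (g : G) : One (cj g N) (cj g Q) := fun a b p q =>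
  let ⟨x, c, d⟩ := h _ _ (iv_J.1 p) (iv_J.1 q); ⟨_, conj_mem_cj.2 c, trJ d⟩
theorem H27.MS.Be.J (h : Be N Q T E) (g : G) : Be (cj g N) (cj g Q) (cj g T) (cj g E) where
  mem a := by
    rw [mem_cj, h.mem, mem_cj, mem_cj]; simp only [mul_assoc, mul_inv_cancel_left]
  cen := cj_Cm g Q E ▸ cj_mono g h.cen
  dim := by simpa only [card_cj, cj_inj] using h.dim
  sqE t p := mem_cj.2 (by convert h.sqE _ (mem_cj.1 p) using 1; group)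
  sq := h.sq.imp (congrArg _) fun k x p y q r => mem_cj.2 (by
    convert k _ (mem_cj.1 p) _ (mem_cj.1 q) (by convert mem_cj.1 r using 1; group) using 1; group)
  tr a b p q := let ⟨x, c, d⟩ := h.tr _ _ (iv_J.1 p) (iv_J.1 q)
    ⟨_, by rw [← cj_norm, ← cj_inf]; exact conj_mem_cj.2 c, trJ d⟩
  se x p a q r := by
    rw [← cj_norm] at r ⊢
    exact mem_cj.2 (h.se _ (mem_cj.1 p) _ (iv_J.1 q) (by convert mem_cj.1 r using 1; group))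
  gen X a b c p q r s t u v w := by
    rw [cj_le_iff, cj_sup, cj_inv_cj]
    exact h.gen _ _ _ _ (iv_J.1 p) (iv_J.1 q) (fun k => r (mem_cj.2 (by convert k using 1; group))) (iv_J.1 s)
      (mt mem_cj.2 t) (mem_cj_inv.2 (by simpa [mul_assoc] using u)) (mem_cj_inv.2 (by simpa [mul_assoc] using v))
      (mem_cj_inv.2 (by simpa [mul_assoc] using w))
  idx := by rw [← cj_norm, ← cj_inf]; simpa only [card_cj] using h.idx
  lb V₀ V s := by simpa only [card_cj] using h.lb (cj g⁻¹ V₀) (cj g⁻¹ V) (by simpa only [cj_inv_cj] using s.J g⁻¹)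
theorem H27.MS.Kl.J (h : Kl N Q T) (g : G) : Kl (cj g N) (cj g Q) (cj g T) where
  po := h.po.J g
  card := by simpa only [card_cj] using h.card
  sq t p := mem_cj.2 (by convert h.sq _ (mem_cj.1 p) using 1; group)
  tr a b p q := let ⟨x, c, d⟩ := h.tr _ _ (iv_J.1 p) (iv_J.1 q)
    ⟨_, by rw [← cj_norm, ← cj_inf]; exact conj_mem_cj.2 c, trJ d⟩
theorem H27.MS.Di.J (h : Di N Q T n) (g : G) : Di (cj g N) (cj g Q) (cj g T) n where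
  po := h.po.J g
  two := h.two
  card := by simpa only [card_cj] using h.card
  ex := let ⟨a, b, p, q, r, s⟩ := h.ex
    ⟨_, _, p.J g, q.J g, by rw [← cj_zpowers, ← cj_zpowers, ← cj_sup, ← cj_sup, ← r], by
      rw [conj_mul, conj_pow]; exact conj_mem_cj.2 s⟩
theorem H27.MS.Eb.J {e : ℕ} (h : Eb V₀ V a e) (g : G) : Eb (cj g V₀) (cj g V) (g * a * g⁻¹) e := by
  rw [Eb, ← cj_zpowers, ← cj_Cm, ← cj_inf, card_cj, card_cj]; exact h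

/-! ### `Hy`, `Lc` -/
theorem H27.MS.Hy.chN (h : Hy G) (h1 : R ≠ ⊥) (h2 : H19.PG 2 R) : H28.NG.Ch N(R) :=
  ⟨ne_bot_mono (le_Oc (normalIn_norm R) h2) h1, h.chr R h1 h2⟩
theorem H27.MS.Hy.chC (h : Hy G) (h1 : R ≠ ⊥) (h2 : Abelem 2 R) : H28.NG.Ch C(R) := by
  haveI : Fact (Nat.Prime 2) := ⟨Nat.prime_two⟩
  have := h.chr R h1 (ab_pg h2)
  refine ⟨ne_bot_mono (le_Oc ⟨ab_cent h2, cent_le_norm R⟩ (ab_pg h2)) h1, ?_⟩
  rw [Oc2] at this ⊢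
  exact H28.IsCharP.of_normal this (cent_le_norm R) (norm_le_norm_cent R)
theorem H27.MS.Hy.ch1 (h : Hy G) (h1 : v ≠ 1) (h2 : v * v = 1) : H28.NG.Ch C[v] :=
  cent_zpowers v ▸ h.chC (ne_bot_of_mem (mem_zpowers v) h1) (abelem_zp h2)
/-- no proper nontrivial normal subgroups -/
theorem H27.MS.Hy.ntop (h : Hy G) (h1 : R ≠ ⊥) (h2 : H19.PG 2 R) : N(R) ≠ ⊤ := fun e => by
  have := h.simple
  rcases (normalizer_eq_top_iff.1 e).eq_bot_or_eq_top with k | k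
  · exact h1 k
  obtain ⟨Q, -, -, c⟩ := h.ex
  exact c (sol_mono (k ▸ h2.sol) le_top)
theorem H27.MS.Lc.syl' (h : Lc N Q T) (k : Syl 2 T' N) : Lc N Q T' := { h with syl := k }
theorem H27.MS.Lc.conj (h : Lc N Q T) (hg : g ∈ N) : Lc N Q (cj g T) := h.syl' (h.syl.Jmem hg)
theorem H27.MS.Lc.J (h : Lc N Q T) (g : G) : Lc (cj g N) (cj g Q) (cj g T) where
  toFr := h.toFr.J g
  hy := h.hy
  q0 := by simpa using h.q0
  chr := cj_cent g Q ▸ cj_mono g h.chr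
  eQ := by rw [← cj_Oc, h.eQ]
  mx X l := (h.mx _ (cj_le_iff.1 l)).imp (fun e => by rw [← e, cj_cj_inv]) cj_eq_top.1
  nrm X p q := by
    rw [← cj_inj (g := g⁻¹), cj_norm, cj_inv_cj]
    exact h.nrm _ (by simpa using p) (cj_inv_cj g N ▸ q.J g⁻¹)
theorem H27.MS.Lc.nQ (h : Lc N Q T) : N(Q) = N := h.nrm Q h.q0 h.nq
/-- a `2`-local subgroup containing `N` is `N` -/
theorem H27.MS.Lc.eqN (h : Lc N Q T) (h1 : R ≠ ⊥) (h2 : H19.PG 2 R) (h3 : N ≤ N(R)) : N(R) = N :=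
  (h.mx _ h3).resolve_right (h.hy.ntop h1 h2)
theorem H27.MS.Tc.J (h : Tc N Q T) (g : G) : Tc (cj g N) (cj g Q) (cj g T) where
  l7 := Iso.J h.l7 g
  cen := by rw [← cj_Zs, ← cj_cent]; exact cj_mono g h.cen
  idx := by rw [← cj_bm, ← cj_norm, ← cj_inf, card_cj, card_cj]; exact h.idx
  four := let ⟨A, a, b, c, d⟩ := h.four
    ⟨cj g A, a.map (MulAut.conj g).injective, by rw [← cj_sup, card_cj, card_cj, b],
      by rw [← cj_bm, ← cj_sup]; exact cj_mono g c,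
      by rw [← cj_bm, ← cj_sup, ← cj_norm, ← cj_norm, ← cj_inf, ← cj_inf, d]⟩

/-! ### `Mn`, `Gn` -/
theorem H27.MS.Mn.J (h : Mn S Y) (g : G) : Mn (cj g S) (cj g Y) where
  hz := h.hz
  syl := h.syl.Jtop g
  ab := abelem_J h.ab g
  eY := by rw [← cj_Zs, ← cj_norm, ← cj_Kc, ← h.eY]
  YQ := by rw [← cj_norm, ← cj_Oc, ← cj_Zs]; exact cj_mono g h.YQ
  YB := cj_bm g S ▸ cj_mono g h.YB
  NB := by rw [← cj_bm, ← cj_norm, ← cj_norm]; exact cj_mono g h.NB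
  max R a b c := by
    rw [← cj_norm, cj_le_iff, cj_norm] at c
    have := h.max _ (by simpa) (b.J _) c
    rwa [← cj_norm, ← le_cj_iff, cj_norm] at this
  star L T a b c := by
    have := cj_mono g (h.star _ _ (cj_le_iff.1 (cj_bm g S ▸ a)) (b.J g⁻¹) (c.J _))
    simpa only [cj_sup, cj_inf, cj_cent, cj_norm, cj_Kc, cj_Ohm1, cj_cj_inv] using this
  nz := by rw [← cj_Zs, ← cj_cent, ← cj_norm, cj_le_cj]; exact h.nz
theorem H27.MS.Gn.b1' (h : Gn S Y) (hv : v ∈ Y) : ∃ m ∈ N(Y), cj m (bm 2 S) ≤ C[v] := h.b1 v hv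
theorem H27.MS.Gn.comm' (h : Gn S Y) (h1 : cj g Y ≤ N(Y)) (h2 : Y ≤ N(cj g Y)) : cj g Y ≤ C(Y) := h.comm g h1 h2
theorem H27.MS.Gn.J (h : Gn S Y) (g : G) : Gn (cj g S) (cj g Y) where
  toMn := h.toMn.J g
  b1 v p := let ⟨m, a, b⟩ := h.b1' (mem_cj.1 p)
    ⟨g * m * g⁻¹, cj_norm g Y ▸ conj_mem_cj.2 a, by
      have := cj_mono g b
      rw [cj_cent1, cj_cj] at this
      rw [hcj, ← cj_bm, cj_cj]
      simpa [mul_assoc] using this⟩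
  rk A a b := by
    have := h.rk _ (le_cj_iff.1 (cj_norm g Y ▸ a)) (abelem_J b _)
    rw [← card_cj g (Y ⊓ _), ← card_cj g (_ ⊓ C(Y))] at this
    simpa only [card_cj g⁻¹, card_cj g Y, cj_inf, cj_cent, cj_cj_inv] using this
  tvC t u a b c := by
    have := h.tvC _ (g⁻¹ * u * g⁻¹⁻¹) (cj_inv_cj g Y ▸ a.J g⁻¹)
      (by rw [← cj_inv_cj g Y, ← H2.GW.cj_cm]; exact conj_mem_cj.2 b) (mt (conj_eq_one_iff (a := g⁻¹)).1 c)
    rwa [← cj_cent1, ← le_cj_iff, cj_norm] at this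
  hypC X a b := by
    have := h.hypC _ (le_cj_iff.1 a) (by simpa only [card_cj] using b)
    rwa [← cj_cent, ← le_cj_iff, cj_norm] at this
  comm x a b := by
    have e : cj x (cj g Y) = cj g (cj (g⁻¹ * x * g) Y) := by rw [cj_cj, cj_cj]; simp [mul_assoc]
    rw [hcj, e, ← cj_norm, cj_le_cj] at a b
    rw [hcj, e, ← cj_cent, cj_le_cj]
    exact h.comm' a b
theorem H27.MS.Tl.J (h : Tl S Y Q) (g : G) : Tl (cj g S) (cj g Y) (cj g Q) where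
  toGn := h.toGn.J g
  lc := by rw [← cj_Zs, ← cj_cent]; exact h.lc.J g
  nq := by rw [cj_le_cj]; exact h.nq
theorem H27.MS.Gn.conj (h : Gn S Y) (hm : m ∈ N(Y)) : Gn (cj m S) Y := by
  simpa only [cj_of_mem_norm hm] using h.J m

theorem bm_wc2 (h : Syl 2 S ⊤) (hT : H19.PG 2 T) (h1 : cj a (bm 2 S) ≤ T) (h2 : cj b (bm 2 S) ≤ T) :
    cj a (bm 2 S) = cj b (bm 2 S) := by
  obtain ⟨g, -, k⟩ := h.scj_le le_top hT
  have e {a} (p : cj a (bm 2 S) ≤ T) : cj g (cj a (bm 2 S)) = bm 2 S := by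
    rw [cj_cj]; exact bm_wc (cj_cj g a _ ▸ (cj_mono g p).trans k)
  exact cj_inj.1 ((e h1).trans (e h2).symm)
/-- a `2`-group containing `B` normalizes it -/
theorem bm_nrm (h : Syl 2 S ⊤) (hT : H19.PG 2 T) (h1 : bm 2 S ≤ T) : T ≤ N(bm 2 S) := fun _ p =>
  mem_norm_iff_cj.2 ((bm_wc2 h hT (cj_le_of_mem p h1) ((cj_one _).trans_le h1)).trans (cj_one _))

section Mn
variable (h : Mn S Y)
include h
theorem H27.MS.Mn.hy : Hy G := h.hz.toHy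
theorem H27.MS.Mn.conj (hm : m ∈ N(Y)) : Mn (cj m S) Y := by simpa only [cj_of_mem_norm hm] using h.J m
theorem H27.MS.Mn.pg : H19.PG 2 Y := ab_pg h.ab
theorem H27.MS.Mn.Bpg : H19.PG 2 (bm 2 S) := h.syl.pi.of_le bm_le
theorem H27.MS.Mn.YS : Y ≤ S := h.YB.trans bm_le
theorem H27.MS.Mn.ZY : Zs S ≤ Y := le_Kc.trans h.eY.ge
theorem H27.MS.Mn.pgM (hT : H19.PG 2 T) (h1 : bm 2 S ≤ T) : T ≤ N(Y) := (bm_nrm h.syl hT h1).trans h.NB
theorem H27.MS.Mn.SM : S ≤ N(Y) := h.pgM h.syl.pi bm_le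
theorem H27.MS.Mn.sM : Syl 2 S N(Y) := h.syl.of_le h.SM le_top
theorem H27.MS.Mn.NS : N(S) ≤ N(Y) := (nrm_bm le_rfl).trans h.NB
theorem H27.MS.Mn.OM (h1 : bm 2 S ≤ L) : Oc {2} L ≤ N(Y) := by
  obtain ⟨T, a, b⟩ := h.Bpg.exists_syl h1
  exact (Oc_le_hall a).trans (h.pgM a.pi b)
theorem H27.MS.Mn.Y0 : Y ≠ ⊥ := fun k => h.nz (k ▸ nbot)
theorem H27.MS.Mn.Z0 : Zs S ≠ ⊥ := h.syl.pi.Ohm1_center_ne_bot (ne_bot_mono h.YS h.Y0)
theorem H27.MS.Mn.ZlY : Zs S < Y := h.ZY.lt_of_ne fun j => h.nz (j ▸ cent_le_norm _)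
theorem H27.MS.Mn.mx (h1 : X ≠ ⊥) (h2 : X ≤ Y) (h3 : N(Y) ≤ N(X)) : N(X) ≤ N(Y) := h.max X h1 (h.pg.of_le h2) h3
theorem H27.MS.Mn.memZ (hv : v ∈ Y) (k : v ∈ C(S)) : v ∈ Zs S :=
  H19.mem_Ohm1 (mem_inf.2 ⟨h.YS hv, k⟩) (sq v ▸ sq_one h.ab hv)
theorem H27.MS.Mn.ncY : ¬ N(Y) ≤ C(Y) := fun k => h.ZlY.not_ge fun _ p => h.memZ p (cents_symm (h.SM.trans k) p)
theorem H27.MS.Mn.Zc (h1 : X ≠ ⊥) (h2 : X ≤ Y) (h3 : S ≤ N(X)) : ∃ w ∈ X, w ≠ 1 ∧ ¬ C[w] ≤ N(Y) := by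
  obtain ⟨w, a, b⟩ := exists_ne_one ((h.pg.of_le h2).meet_cent h.syl.pi h3 h1)
  exact ⟨w, a.1, b, mt (cent_le_cent1 (h.memZ (h2 a.1) a.2)).trans h.nz⟩
end Mn

theorem H27.MS.Gn.tr (h : Gn S Y) (h1 : v ∈ Y) (h2 : v ∈ cj g Y) : ∃ c ∈ C[v], cj g Y = cj c Y := by
  obtain ⟨m, a, b⟩ := h.b1' h1
  obtain ⟨n, a', b'⟩ := h.b1' (mem_cj.1 h2)
  obtain ⟨T, p, q⟩ := (h.Bpg.J m).exists_syl b
  obtain ⟨c, r, s⟩ := p.scj_le (K := cj g (cj n (bm 2 S))) (by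
    rw [cj_le_iff, cj_cent1, inv_inv]; exact b') ((h.Bpg.J _).J _)
  rw [cj_cj, cj_cj] at s
  have := h.NB (mem_norm_iff_cj.2 ((cj_mul m⁻¹ _ _).trans (cj_eq_iff.1 (bm_wc2 h.syl p.pi q s)).symm))
  refine ⟨c⁻¹, inv_mem r, cj_eq_iff.1 ?_⟩
  rw [cj_cj]
  exact cj_of_mem_norm (by simpa [mul_assoc] using mul_mem (mul_mem a this) (inv_mem a'))

theorem H27.MS.Gn.eq_of (h : Gn S Y) (h1 : v ∈ Y) (h2 : v ∈ cj g Y) (k : C[v] ≤ N(Y)) : g ∈ N(Y) := by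
  obtain ⟨c, a, b⟩ := h.tr h1 h2
  exact mem_norm_iff_cj.2 (b.trans (cj_of_mem_norm (k a)))

/-- `O₂(C(v)) ≤ M` for `v ∈ Y` -/
theorem H27.MS.Gn.OC (h : Gn S Y) (hv : v ∈ Y) : Oc {2} C[v] ≤ N(Y) :=
  let ⟨m, a, b⟩ := h.b1' hv; (h.toMn.conj a).OM (cj_bm m S ▸ b)

end H12.MS
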