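import Cfsg.Agent.H4.SC9
import Cfsg.Agent.H12.AC0

/-! The dihedral configuration is impossible if `T ≤ [H, H]` for some `H ≤ N(T)`. -/

set_option autoImplicit false
set_option linter.unusedVariables false
set_option linter.unusedSectionVars false

namespace H12.AC
open H9 hiding zj
open H29.PU hiding Rk1 Vx Crit crit Am Bad W5 T2 le_C_of_normal
open Cfsg Subgroup H28 H28.GC H29 H29.BB
open H4.SC (DG Ds)
open scoped commutatorElement

universe u
variable {X : Type u} [Group X] [Finite X] {G H T : Subgroup X} {v z : X}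

theorem dg_false (k : DG G T z v) (nT : H ≤ 𝐍 T) (der : T ≤ ⁅H, H⁆) : False := by
  obtain ⟨l, ρ, s⟩ := k.ds
  have cj' : ∀ g ∈ H, Ds G T (g * z * g⁻¹) (g * l * g⁻¹) (g * v * g⁻¹) (g * ρ * g⁻¹) := fun g hg => by
    simpa only [cj_eq_self (nT hg)] using s.conj' g
  have j : ∀ {z l a ρ z' l' a' ρ'}, Ds G T z l a ρ → Ds G T z' l' a' ρ' → JJ 2 (T ⊓ 𝐜 z') ≤ 𝐜 z := fun s s' =>
    s'.JT ▸ s.JT.le.trans ((JJ_le 2 _).trans inf_le_right)
  refine s.aρ (sign (der k.vT) s.two (fun g hg => s.nl' ⟨?_, ?_⟩) fun g hg n => ?_)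
  · simpa using conj_mem_of_mem_normalizer (inv_mem (nT hg)) k.vT
  · have := mem_c.1 (j (cj' g hg) s (s.memJ k))
    refine mem_c.2 ?_
    calc _ = g⁻¹ * (v * (g * z * g⁻¹)) * g := by group
      _ = _ := by rw [this]; group
  · have s' := cj' g hg
    have ne : g * z * g⁻¹ ≠ z := fun e => n (mem_normalizer_of_cj_le (by
      rw [cj_zpowers, zpowers_le]
      rw [e] at s'
      have := s.all _ (s'.dg _ (mem_zpowers _))
      rwa [← mul_assoc, mul_mem_cancel_left (s.all _ s'.da)] at this))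
    have c : ∀ {u}, DG G T (g * z * g⁻¹) u → u ∈ 𝐜 v := fun d =>
      s.comm2 (s'.reb' d) ne.symm (j s s' (s'.memJ d)) (j s' s (s.lJ s.hρ))
    have := mem_c.1 ((mul_mem_cancel_left (c s'.da)).1 (c (s'.dg _ s'.hρ)))
    refine mem_c.2 ?_
    calc _ = g⁻¹ * (v * (g * ρ * g⁻¹)) * g := by group
      _ = _ := by rw [← this]; group

end H12.AC
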