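/-
Standard components of type `L₄(2) = A₈`: the group generated by the doubled root groups (a copy of `H3.LN`).
-/
import Cfsg.Agent.H12.AE2
import Cfsg.Agent.H12.AE5
import Cfsg.Agent.H3.LN1

set_option autoImplicit false
set_option linter.unusedSectionVars false

namespace H12.A8.K
open Cfsg Subgroup H19 H28.CY H28.SF H28.SA H22 H3.LN Matrix SemidirectProduct
open scoped commutatorElement

universe u v
variable {m : ℕ} {F : Type v} [Field F] [Finite F] [CharP F 2] {G : Type u} [Group G] [Finite G] {π : SL m F →* G}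
  {a b c d i j : Fin m} {r s : F} {g h t x y p q : G} {B X : Subgroup G} {θ : Fin m → Fin m → F → G} {α : F}

theorem typ8 (h4 : m = 4) (hq : Nat.card F = 2) (h2 : ∀ u : F, u = 0 ∨ u = 1) : H12.SF.TyP (LL m F) (UU m F) (Gm m F) ρ0 := by
  have hm : 3 ≤ m := by omega
  obtain ⟨z, hz⟩ : ∃ z : Fin m, (z : ℕ) = 0 := ⟨⟨0, by omega⟩, rfl⟩
  obtain ⟨b, hb⟩ : ∃ z : Fin m, (z : ℕ) = 1 := ⟨⟨1, by omega⟩, rfl⟩
  have hz' := z.val_rev
  have cm : ∀ {A : Subgroup (GX m F)} {g h}, inl g ∈ A → inl h ∈ A → inl (g * h * g⁻¹ * h⁻¹) ∈ ⁅A, A⁆ := fun h1 h2 => by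
    simpa [commutatorElement_def] using commutator_mem_commutator h1 h2
  obtain ⟨N, k, D, e1, e2, e3, l1, l2, l3, l4, l5⟩ := nums hm
  have p := fun x y => Nat.pow_lt_pow_iff_right (n := x) (m := y) (two_le (F := F))
  have o1 := ou_ne (F := F)
  have o2 : (1 : Ou F).1 = 1 := rfl
  have o3 : (ou 1 g2 : Ou F).1 = 1 := rfl
  refine ⟨fun A B => ca hm, fun α h => ?_,
    ⟨_, inl_UU.2 (tv_mem1 (a := z) (b := b) (u := 1) (by omega)), _, inl_UU.2 (tv_mem1 (a := b) (b := z.rev) (u := 1) (by omega)),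
      by rw [← map_mul, ← tv_add, CharTwo.add_self_eq_zero, tv_zero, map_one],
      by rw [← map_mul, ← tv_add, CharTwo.add_self_eq_zero, tv_zero, map_one], fun e => ?_⟩,
    ⟨(Lv m F (m - m / 2)).map inl, map_mono (Lv_mono (by omega)), fun α h => mem_norm_of fun _ ⟨x, hx, e⟩ => ?_, fun _ ⟨x, hx, e⟩ => ?_, ?_⟩,
    fun α β aa bb _ => ?_, ⟨MonoidHom.mk' (fun o => ou o.1 1) fun _ _ => Prod.ext rfl (mul_one _).symm, fun y α β yy aa bb e => ?_⟩⟩
  · obtain ⟨u, rfl⟩ := (mem_ZU hm hz).1 h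
    rw [← mul_one u, ← tv_chain (b := b) (by omega) (by omega) (by omega)]
    exact cm (inl_UU.2 (tv_mem1 (by omega))) (inl_UU.2 (tv_mem1 (by omega)))
  · rw [← map_mul, ← map_mul, inl_inj, ← mul_inv_eq_iff_eq_mul, ← mul_inv_eq_one, tv_chain (by omega) (by omega) (by omega)] at e
    simpa using tv_one (by omega) e
  · obtain ⟨g, hg, o, -, rfl⟩ := mem_S.1 h
    exact ⟨_, Lv_cj hg (ac_Lv o hx), by rw [map_mul, map_mul, map_inv, ← δ_inl, e]; group⟩
  · rw [← e, ← map_mul, show x * x = 1 from Units.ext ?_, map_one]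
    have := (Nl.mul hx hx).eq_zero (by omega)
    rwa [show (x.1 - 1) * (x.1 - 1) = x.1 * x.1 - 1 + (1 + 1) - (x.1 + x.1) by noncomm_ring, add2, add2, sub_zero, add_zero,
      sub_eq_zero] at this
  · rw [card_map_of_injective inl_injective, card_Lv (by omega)]
    subst h4
    rw [hq]; decide
  · have key : ∀ α : GX m F, α * α = 1 → 16 ≤ EE (LL m F) α := fun α aa => by
      refine le_of_not_gt fun k => (Nat.pow_lt_pow_left k two_ne_zero).not_ge ?_
      subst h4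
      rcases ee_sq hm aa with h | h | h
      · exact le_trans (by rw [hq]; decide) h.2
      · rw [h.2, hq]; decide
      · exact absurd (RingEquiv.ext fun u => by rcases h2 u with rfl | rfl <;> simp) h.1
    refine .inl (lt_of_lt_of_le ?_ (Nat.mul_le_mul (key α aa) (key β bb)))
    rw [card_UU, hq, h4]; decide
  · have k0 : ∀ o p : Ou F, ou o.1 1 = ou p.1 1 ↔ o.1 = p.1 := fun o p => ⟨congrArg Prod.fst, fun e => e ▸ rfl⟩
    have k1 : ∀ o : Ou F, ou o.1 1 = 1 ↔ o.1 = 1 := fun o => k0 o 1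
    change (¬ ou (ρ0 y).1 1 = 1 → ou (ρ0 α).1 1 = ou (ρ0 β).1 1) ∧ (ou (ρ0 y).1 1 = 1 → ρ0 y ≠ 1 → ou (ρ0 α).1 1 = ou (ρ0 β).1 1 → _)
    rw [k0, k1]
    have s : ∀ {α : GX m F}, α * α = 1 → (ρ0 α).1 * (ρ0 α).1 = 1 := fun h => ou_sq (by rw [← map_mul, h, map_one])
    have u := inv_uq (s aa) (τ := (ρ0 β).1)
    have := s bb
    have e' := congrArg (· ^ 2) e
    simp only [mul_pow] at e'
    have ha := ee_sq hm aa; have hb := ee_sq hm bb; have hy := ee_sq hm yy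
    rw [e3, e2, e1] at ha hb hy
    have pm := m.even_or_odd
    have q0 := fun x => pow_pos (Nat.card_pos (α := F)) x
    have key : ∀ x y w E, Nat.card F ^ x ≤ E → E * Nat.card F ^ y = Nat.card F ^ w * Nat.card F ^ w → x + y ≤ w + w := fun x y w E h1 h2 =>
      (Nat.pow_le_pow_iff_right two_le).1 (by rw [pow_add, pow_add, ← h2]; exact Nat.mul_le_mul_right _ h1)
    have key' : ∀ x y w, Nat.card F ^ x * Nat.card F ^ y = Nat.card F ^ w * Nat.card F ^ w → x + y = w + w := fun x y w h =>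
      Nat.pow_right_injective (two_le (F := F)) (by simp only [pow_add, h])
    refine ⟨fun h => ?_, fun h1 h2 h3 => ?_⟩
    · rw [((hy.resolve_left fun k => h (k.1 ▸ o2)).resolve_left fun k => h (k.1 ▸ o3)).2] at e'
      rcases ha with ha | ha | ha <;> rcases hb with hb | hb | hb <;>
        try exact (congrArg Prod.fst ha.1).trans (congrArg Prod.fst hb.1).symm
      · have := key _ _ _ _ ha.2 (hb.2 ▸ e'); omega
      · have := key' _ _ _ (ha.2 ▸ hb.2 ▸ e'); rcases pm with h | h <;> simp [h] at l3 l4 <;> omega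
      · have := key _ _ _ _ hb.2 (ha.2 ▸ (mul_comm _ _).trans e'); omega
      · have := key' _ _ _ (ha.2 ▸ hb.2 ▸ e'); rcases pm with h | h <;> simp [h] at l3 l4 <;> omega
      · exact u ha.1 this hb.1
    · rw [((hy.resolve_left fun k => h2 k.1).resolve_right fun k => k.1 h1).2] at e'
      rcases ha with ha | ha | ha <;> rcases hb with hb | hb | hb <;> try exact ha.1.trans hb.1.symm
      · have := key _ _ _ _ ha.2 (hb.2 ▸ e'); omega
      · exact (hb.1 (h3 ▸ ha.1 ▸ o2)).elim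
      · have := key _ _ _ _ hb.2 (ha.2 ▸ (mul_comm _ _).trans e'); omega
      · exact (hb.1 (h3 ▸ ha.1 ▸ o3)).elim
      · exact (ha.1 (h3 ▸ hb.1 ▸ o2)).elim
      · exact (ha.1 (h3 ▸ hb.1 ▸ o3)).elim
      · have := key' _ _ _ (ha.2 ▸ hb.2 ▸ e'); rcases pm with h | h <;> simp [h] at l3 l4 <;> omega

theorem aut8 (h4 : m = 4) (hq : Nat.card F = 2) (h2 : ∀ u : F, u = 0 ∨ u = 1) :
    ∃ (U Γ : Subgroup (MulAut (ProjectiveSpecialLinearGroup (Fin m) F))) (ρ : MulAut (ProjectiveSpecialLinearGroup (Fin m) F) →* Ou F),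
    Ty (Inn _) U Γ ρ ∧ H12.SF.TyP (Inn _) U Γ ρ := by
  have hm : 3 ≤ m := by omega
  obtain ⟨ρ, hρ⟩ := ex_rho (F := F) hm
  have κ := cov (F := F) hm
  have τ := ty (F := F) hm
  exact ⟨_, _, ρ, map_LL (F := F) ▸ κ.ty (hρ ▸ τ), map_LL (F := F) ▸ H12.SF.cov_typ κ (hρ ▸ τ) (hρ ▸ typ8 h4 hq h2)⟩

section
variable (T : Tht π t θ α)
include T
variable (S : S2 π t)
include S
theorem tV (h : i ≠ j) (z : QA α) : t * V π θ i j z * t⁻¹ = V π θ i j (star z) := by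
  have e := T.tj i j z.im h
  rw [mul_inv_eq_iff_eq_mul, mul_assoc, ← inv_mul_eq_iff_eq_mul, S.ti, ← mul_assoc] at e
  rw [V_eq h, V_eq h, S.ti, ← mul_assoc, ← S.tπ, mul_assoc, mul_assoc, ← mul_assoc t, e]
  simp [xs_add, mul_assoc, CharTwo.neg_eq]
theorem CN : C[t] ≤ N(GG π θ) := fun h hh => mem_norm_of fun x hx =>
  (show GG π θ ≤ (GG π θ).comap (MulAut.conj h).toMonoidHom from sup_le (fun x hx => mem_sup_left (conj_mem_of_norm (S.ct hh) hx))
    ((closure_le _).2 (by rintro _ ⟨a, b, v, k, rfl⟩; exact T.nor h hh a b v k))) hx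
theorem odd : PiG {2}ᶜ C(GG π θ) := by_contra fun n => by
  obtain ⟨k, kB, kk, k1, kt⟩ := fix_inv S.tt (norm_le_norm_cent _ (CN T S (mem_cent1_self t))) n
  obtain rfl := (S.rk k (cent_mono le_sup_left kB) kk kt).resolve_left k1
  obtain ⟨a, -⟩ := ex3 S.hm ⟨0, by have := S.hm; omega⟩ ⟨0, by have := S.hm; omega⟩
  obtain ⟨b, h, -⟩ := ex3 S.hm a a
  have := T.tj b a 1 h
  rw [mem_cent.1 kB _ (θG h), mul_inv_cancel_right, left_eq_mul] at this
  exact one_ne_zero (S.x_one h this)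

/-- the split case -/
theorem split (h4 : m = 4) (hq : Nat.card F = 2) (h2 : ∀ u : F, u = 0 ∨ u = 1) {β : F} (hβ : β ^ 2 = α + 1 * β) (nX : X.Normal)
    (sX : IsSimpleGroup X) (l : π.range ≤ X) : ∃ Ψ : SL m F →* G, Md Ψ ∧ Ψ.range ≤ C(cj t Ψ.range) ∧ Ψ.range ≤ X ∧
      ∃ P, Syl 2 P Ψ.range ∧ Syl 2 (P ⊔ cj t P) X := by
  have hm := S.hm
  have two : (2 : F) = 0 := CharTwo.two_eq_zero
  obtain ⟨Ψ, hΨ⟩ := ex_hom hm (fun a b r => V π θ a b (⟨β * r, r⟩ : QA α))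
    (fun a b r s => by rw [← V_add T]; congr 1; ext <;> simp [mul_add])
    (fun h h' h1 h2 _ _ => V_comm T h h' h1 h2 _ _) fun h1 h2 h3 r s => by
      rw [V_chain T h1 h2 h3]; congr 1; ext <;> simp
      exacts [by linear_combination r * s * hβ + (α + β) * r * s * two - β * r * s * two + β * r * s * two - β * r * s * two,
        by linear_combination β * r * s * two]
  have e0 : ∀ r s : F, (⟨β * r, r⟩ : QA α) * star ⟨β * s, s⟩ = 0 := fun r s => by
    ext <;> simp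
    exacts [by linear_combination r * s * hβ + β * r * s * two, by ring]
  have cm : ∀ a b r, a ≠ b → ∀ c d s, c ≠ d → ¬ (a = d ∧ b = c) →
      Commute (V π θ a b (⟨β * r, r⟩ : QA α)) (V π θ c d (star ⟨β * s, s⟩ : QA α)) := fun a b r h c d s h' n => by
    by_cases e : a = d
    · subst e
      exact (commutatorElement_eq_one_iff_commute.1 (by
        rw [V_chain T h' (fun e => n ⟨rfl, e.symm⟩) h, mul_comm, e0, V0 T])).symm
    by_cases e' : b = c
    · subst e'; exact commutatorElement_eq_one_iff_commute.1 (by rw [V_chain T h e h', e0, V0 T])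
    · exact V_comm T h h' e e' _ _
  have mt : ∀ a b r, a ≠ b → V π θ a b (star ⟨β * r, r⟩ : QA α) ∈ cj t Ψ.range := fun a b r h => by
    rw [← tV T S h, ← hΨ a b r h]; exact conj_mem_cj.2 ⟨_, rfl⟩
  have c : Ψ.range ≤ C(cj t Ψ.range) := rg_le fun a b r h => cents_symm (H := cj t Ψ.range) (K := zpowers _) (by
    rw [cent_zpowers, ← range_J]
    refine rg_le fun c d s h' => mem_cent1.2 ?_
    change t * Ψ _ * t⁻¹ * _ = _ * (t * Ψ _ * t⁻¹)
    rw [hΨ _ _ _ h, hΨ _ _ _ h', tV T S h']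
    by_cases e : a = d ∧ b = c
    · obtain ⟨rfl, rfl⟩ := e
      obtain ⟨p, p1, p2⟩ := ex3 hm a b
      have e : (star ⟨β * s, s⟩ : QA α) = star ⟨β * s, s⟩ * star ⟨β * 1, 1⟩ := by
        ext <;> simp
        exacts [by linear_combination -s * hβ - (β + α) * s * two, by linear_combination β * s * two]
      have k1 := cm a b r h b p s p2.symm fun e => p1 e.1.symm
      have k2 := cm a b r h p a 1 p1 fun e => p2 e.2.symm
      rw [e, ← V_chain T p2.symm h' p1]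
      exact (((k1.mul_right k2).mul_right k1.inv_right).mul_right k2.inv_right).symm
    · exact (cm a b r h c d s h' e).symm) (mem_zpowers _)
  have eG : Ψ.range ⊔ cj t Ψ.range = GG π θ := by
    have l1 : Ψ.range ≤ GG π θ := rg_le fun a b r h => hΨ a b r h ▸ VG h _
    have l2 : π.range ≤ Ψ.range ⊔ cj t Ψ.range := rg_le fun a b r h => by
      have := mul_mem_sup (show _ ∈ Ψ.range from ⟨_, hΨ a b r h⟩) (mt a b r h)
      rwa [← V_add T, show (⟨β * r, r⟩ : QA α) + star ⟨β * r, r⟩ = ⟨r, 0⟩ by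
        ext <;> simp; linear_combination β * r * two, Vx T h] at this
    refine le_antisymm (sup_le l1 (cj_le_of_mem_norm (CN T S (mem_cent1_self t)) l1)) (sup_le l2 ((closure_le _).2 ?_))
    rintro _ ⟨a, b, r, h, rfl⟩
    have := mem_sup_left (T := cj t Ψ.range) (show _ ∈ Ψ.range from ⟨_, hΨ a b r h⟩)
    rwa [V_eq h, mul_mem_cancel_left (l2 ⟨_, rfl⟩)] at this
  obtain ⟨a, -⟩ := ex3 hm ⟨0, by omega⟩ ⟨0, by omega⟩
  obtain ⟨b, h, -⟩ := ex3 hm a a
  have M : Md Ψ := md_of hm (l := xs b a 1) fun e => by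
    have := tV T S h (⟨β * 1, 1⟩ : QA α)
    rw [← hΨ b a 1 h, e, mul_one, mul_inv_cancel, show (star ⟨β * 1, 1⟩ : QA α) = ⟨β * 1, 1⟩ + ⟨1, 0⟩ by
      ext <;> simp [CharTwo.neg_eq], V_add T, ← hΨ b a 1 h, e, one_mul, Vx T h] at this
    exact one_ne_zero (S.x_one h this.symm)
  obtain ⟨U, Γ, ρ, τ, τ'⟩ := aut8 h4 hq h2
  obtain ⟨f, φ, -⟩ := M.ex_f
  have := H11.psl_simple (ι := Fin m) (F := F) (by simpa)
  have LX := (le_sup_left.trans eG.le).trans (H3.LN.GX T hm nX l)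
  refine ⟨Ψ, M, c, LX, H12.SF.pe ⟨τ, τ', φ, S.tt, c, by rw [G0, eG]; exact CN T S, fun g => φ.pm (fun J hJ => (H17.GS.simple_iff.1
    (MonoidHom.ofInjective (conj_inj hm)).symm.isSimpleGroup).2 J hJ.le hJ.norm) c, by rw [G0, eG]; exact odd T S⟩ nX ⟨sX, fun k => ?_⟩ LX⟩
  obtain ⟨a, ha, b, hb, -, -, ne⟩ := τ'.nc
  obtain ⟨x, hx, rfl⟩ := φ.sur a (τ.UI ha)
  obtain ⟨y, hy, rfl⟩ := φ.sur b (τ.UI hb)
  exact ne (by rw [← φ.mul _ (le_normalizer hx) _ (le_normalizer hy), ← φ.mul _ (le_normalizer hy) _ (le_normalizer hx),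
    show x * y = y * x from congrArg Subtype.val (k.is_comm.comm ⟨x, LX hx⟩ ⟨y, LX hy⟩)])

/-- the field case -/
theorem field [Fact (∀ r : F, r ^ 2 ≠ α + 1 * r)] (nX : X.Normal) (pX : X ≤ ⁅X, X⁆) (l : π.range ≤ X) :
    ¬ PRankLE 2 2 X ∧ ∃ (P : Sylow 2 X) (Q : Sylow 2 (ProjectiveSpecialLinearGroup (Fin m) (QA α))), Nonempty (P.1 ≃* Q.1) := by
  have hm := S.hm
  obtain ⟨Ψ, hΨ⟩ := ex_hom (F := QA α) hm (V π θ) (V_add T) (fun h h' h1 h2 => V_comm T h h' h1 h2) (V_chain T)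
  have eG : Ψ.range = GG π θ := le_antisymm (rg_le fun a b r h => hΨ a b r h ▸ VG h _)
    (sup_le (rg_le fun a b r h => ⟨_, (hΨ a b _ h).trans (Vx T h)⟩) ((closure_le _).2 (by
      rintro _ ⟨a, b, r, h, rfl⟩; exact ⟨_, (hΨ a b ⟨0, r⟩ h).trans (by simp [V_eq h])⟩)))
  obtain ⟨a, -⟩ := ex3 hm ⟨0, by omega⟩ ⟨0, by omega⟩
  obtain ⟨b, h, -⟩ := ex3 hm a a
  have M : Md Ψ := md_of hm (l := xs b a ⟨1, 0⟩) fun e => one_ne_zero (S.x_one h (((hΨ b a _ h).trans (Vx T h)).symm.trans e))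
  obtain ⟨U, Γ, ρ, hρ, τ, -, ⟨e⟩, k⟩ := aut (F := QA α) hm
  obtain ⟨f, φ, hf⟩ := M.ex_f
  have tN : t ∈ N(Ψ.range) := eG ▸ CN T S (mem_cent1_self t)
  have act : Act Ψ t (SemidirectProduct.inl 1 * δ m (ou starRingAut 1)) := fun l =>
    (show ⊤ ≤ ((MulAut.conj t).toMonoidHom.comp Ψ).eqLocus (Ψ.comp (rs _).toMonoidHom) from (sl_top fun a b z h => by
      change t * Ψ _ * t⁻¹ = Ψ (rs _ _)
      rw [ι_inj (ι_rs.trans (show _ = ι (xs a b (star z)) by rw [ι_xs, ac_tv1, one_mul, inv_one, mul_one]; rfl)),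
        hΨ _ _ _ h, hΨ _ _ _ h, tV T S h]).ge) (mem_top l)
  obtain ⟨k1, k2⟩ := k (f t) (φ.mul.sq tN S.tt) (by
    rw [(hf t tN _).2 act, hρ, map_mul, ρ_inl, ρ_δ, one_mul]
    exact fun e => by simpa [ou] using congrArg (·.re) (DFunLike.congr_fun e (⟨0, 1⟩ : QA α)))
  obtain ⟨P, hP, ⟨e'⟩⟩ := fe' τ φ (eG ▸ odd T S) S.tt S.t1 (eG ▸ CN T S) nX pX (eG ▸ H3.LN.GX T hm nX l) k1 k2
  obtain ⟨P, rfl⟩ := hP.exists_sylow
  obtain ⟨Q, rfl⟩ := τ.sylU.exists_sylow
  let E := (MonoidHom.ofInjective (conj_inj (F := QA α) hm)).symm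
  exact ⟨rank M (by rw [card_QA]; nlinarith [two_le (F := F)]) (eG ▸ H3.LN.GX T hm nX l), P, Q.mapSurjective (f := E.toMonoidHom) E.surjective, ⟨((P.1.equivMapOfInjective _ (subtype_injective _)).trans e').trans
    ((Q.1.equivMapOfInjective _ (subtype_injective _)).symm.trans (E.subgroupMap Q.1))⟩⟩
end

end H12.A8.K
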