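/-
Fusion systems on a Sylow `p`-subgroup of `G₂(q)`: torus elements in the failure-of-factorization situation.
-/
import Cfsg.Agent.H29.TD5
import Cfsg.Agent.H2.G0

set_option autoImplicit false
set_option linter.unusedSectionVars false

namespace H12.GE
open Subgroup H25 H25.FS Cfsg H29.Rp H29.PU H8.PU MatrixGroups Matrix H13.SL2
open H29.TD (ti_of kk_append al_append)
universe u
variable {p : ℕ} [hp : Fact p.Prime]

/-- the diagonal matrix -/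
def dg {F : Type*} [Field F] (m : Fˣ) : SL(2, F) := ⟨!![(m : F)⁻¹, 0; 0, m], by simp [det_fin_two]⟩

theorem mv {F : Type*} [Field F] (a b : SL(2, F)) (v : Fin 2 → F) : a.1 *ᵥ (b.1 *ᵥ v) = (a * b).1 *ᵥ v := mulVec_mulVec _ _ _
theorem cv {F : Type*} [Field F] (a : Matrix (Fin 2) (Fin 2) F) (v : Fin 2 → F) (j : Fin 2) :
    (a *ᵥ v) j = a j 0 * v 0 + a j 1 * v 1 := by simp [mulVec, dotProduct]

theorem lin {G U : Type*} [Group G] [Finite G] [AddCommGroup U] [Module (ZMod p) U] {ρ : Representation (ZMod p) G U}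
    {T : Subgroup G} (p2 : p ≠ 2) (hT : H28.IsSylowIn p T ⊤) {F : Type} [Field F] [Fintype F] (hF : Fintype.card F = Nat.card T)
    (h0 : T ≠ ⊥) (E : Nat2 ρ ⊤ F) :
    (∃ g ∈ nz T, (∀ u ∉ fix ρ T, ∀ u' ∉ fix ρ T, ∃ n : ℕ, -ρ (g ^ n) u + u' ∈ fix ρ T) ∧
      ∀ t ∈ T, ∀ u, ρ g (ρ t (ρ g u) - ρ g u) = ρ t u - u) ∧
    (∃ i ∈ nz T, ∀ t u, ρ i (ρ t u - u) = -(ρ t u - u)) ∧ ∀ c ∈ fix ρ T, ∃ t ∈ T, ∃ u, -c + (ρ t u - u) ∈ fix ρ ⊤ := by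
  let φ := topEquiv.symm.trans E.π
  obtain ⟨m, hm⟩ := hT.isPGroup.exists_card_eq
  have : CharP F p := charP_of_card_eq_prime_pow (hF.trans hm)
  obtain ⟨k, -, e⟩ := (map_top_of_surjective φ.toMonoidHom φ.surjective ▸ hT.map φ.toMonoidHom).exists_conj sylow_upper
  let Φ := φ.trans (MulAut.conj k)
  let Ψ : U →+ (Fin 2 → F) := (mulVecLin k.1).toAddMonoidHom.comp E.ψ
  have hΨ : ∀ u, Ψ u = k.1 *ᵥ E.ψ u := fun _ => rfl
  have kk : ∀ v : Fin 2 → F, (k⁻¹).1 *ᵥ (k.1 *ᵥ v) = v := fun v => by rw [mv, inv_mul_cancel]; exact one_mulVec v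
  have eq : ∀ g u, Ψ (ρ g u) = (Φ g).1 *ᵥ Ψ u := fun g u => by
    rw [hΨ, hΨ, E.equi ⟨g, mem_top g⟩, show Φ g = k * E.π ⟨g, mem_top g⟩ * k⁻¹ from rfl, ← mv, ← mv, kk]
  have ke : ∀ u, Ψ u = 0 → u ∈ fix ρ ⊤ := fun u h => (E.ker u).1 (by rw [← kk (E.ψ u), ← hΨ, h, mulVec_zero])
  have on : ∀ v, ∃ u, Ψ u = v := fun v => let ⟨u, h⟩ := E.surj ((k⁻¹).1 *ᵥ v); ⟨u, by
    rw [hΨ, h, mv, mul_inv_cancel]; exact one_mulVec v⟩
  have mT : ∀ g, g ∈ T ↔ ∃ a, Φ g = x a := fun g => by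
    rw [← mem_upper, ← e]
    exact ⟨fun h => conj_mem_cj k (mem_map_of_mem _ h), fun h => by
      obtain ⟨s, h1, h2⟩ := conj_mem_cj_iff.1 h
      exact φ.injective h2 ▸ h1⟩
  have rm : ∀ g h u, ρ g (ρ h u) = ρ (g * h) u := fun g h u => by rw [map_mul]; rfl
  let i := Φ.symm (-1)
  have ic : ∀ g, i * g = g * i := fun g => Φ.injective (by simp [i])
  have wi : ∀ t u, ρ i (ρ t u - u) = -(ρ t u - u) := fun t u => by
    have := ke (ρ i u + u) (by rw [map_add, eq]; simp [i, neg_mulVec]) t (mem_top t)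
    rw [map_add, rm, ← ic, ← rm] at this
    rw [map_sub]
    linear_combination (norm := module) this
  have z0 : ∀ d, Ψ d = 0 → ρ i d = -d → d = 0 := fun d h h' => by
    have : (2 : ZMod p) ≠ 0 := fun c =>
      p2 ((Nat.prime_dvd_prime_iff_eq hp.out Nat.prime_two).1 ((ZMod.natCast_eq_zero_iff 2 p).1 c))
    refine (smul_eq_zero.1 ?_).resolve_left this
    rw [ke d h i (mem_top i)] at h'
    linear_combination (norm := module) h'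
  have t1 : Φ.symm (x 1) ∈ T := (mT _).2 ⟨1, by simp⟩
  have fT : ∀ u, u ∈ fix ρ T ↔ Ψ u 1 = 0 := fun u => ⟨fun h => by
    have := congrFun (eq (Φ.symm (x 1)) u) 0
    rw [h _ t1] at this
    simpa [mulVec, dotProduct] using this, fun h t ht => by
    obtain ⟨a, ha⟩ := (mT t).1 ht
    refine sub_eq_zero.1 (z0 _ ?_ (wi t u))
    rw [map_sub, eq, ha]
    ext j; fin_cases j <;> simp [mulVec, dotProduct, h]⟩
  obtain ⟨μ, hμ⟩ := IsCyclic.exists_monoid_generator (α := Fˣ)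
  obtain ⟨g, hg⟩ := Φ.surjective (dg μ)
  refine ⟨⟨g, mem_nz_of_conj_mem fun t ht => ?_, fun u hu u' hu' => ?_, fun t ht u => ?_⟩,
    ⟨i, mem_nz_of_conj_mem fun t ht => by rwa [ic, mul_inv_cancel_right], wi⟩, fun c hc => ?_⟩
  · obtain ⟨a, ha⟩ := (mT t).1 ht
    refine (mT _).2 ⟨((μ : F)⁻¹) ^ 2 * a, ?_⟩
    rw [map_mul, map_mul, map_inv, ha, hg, mul_inv_eq_iff_eq_mul]
    refine Subtype.ext (show (dg μ).1 * (x a).1 = (x _).1 * (dg μ).1 from ?_)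
    ext i j; fin_cases i <;> fin_cases j <;> simp [dg, Matrix.mul_apply]
    field_simp
  · rw [fT] at hu hu'
    have k : ∀ n : ℕ, Ψ (ρ (g ^ n) u) 1 = μ ^ n * Ψ u 1 := fun n => by
      induction n with
      | zero => simp
      | succ n ih => rw [pow_succ', ← rm, eq, hg, cv, ih]; simp [dg]; ring
    obtain ⟨n, hn⟩ := hμ (Units.mk0 _ (div_ne_zero hu' hu))
    refine ⟨n, (fT _).2 ?_⟩
    have := congrArg Units.val hn
    simp only [Units.val_pow_eq_pow_val, Units.val_mk0] at this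
    rw [map_add, map_neg, Pi.add_apply, Pi.neg_apply, k, this]
    field_simp; ring
  · obtain ⟨a, ha⟩ := (mT t).1 ht
    refine sub_eq_zero.1 (z0 _ ?_ ?_)
    · ext j
      simp only [map_sub, eq, ha, hg, cv, Pi.sub_apply]
      fin_cases j <;> simp [dg]
      field_simp; ring
    · rw [map_sub, wi, rm, ic, ← rm, wi, map_neg]; abel
  · obtain ⟨u, hu⟩ := on ![0, Ψ c 0]
    refine ⟨_, t1, u, ke _ ?_⟩
    rw [fT] at hc
    ext j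
    simp only [map_add, map_neg, map_sub, eq, hu, cv, Pi.sub_apply, Pi.add_apply, Pi.neg_apply, Φ.apply_symm_apply]
    fin_cases j <;> simp [hc]

variable {Γ : Type u} [Group Γ] [Finite Γ] {S P A B H X Y C : Subgroup Γ} {g u : Γ}

/-- a generator `g` of the torus, the central involution `i`, and the fixed points of `SL₂` on `X / Y` -/
structure FT (S P A X Y C : Subgroup Γ) : Prop where
  tor : ∃ g ∈ A, g ∈ nz (ai S P) ∧ (∀ x ∈ X, x ∉ C → ∀ x' ∈ X, x' ∉ C → ∃ n : ℕ, (g ^ n * x * (g ^ n)⁻¹)⁻¹ * x' ∈ C) ∧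
    ∀ t ∈ S, t ∈ nz P → ∀ x ∈ X, (g * (t * (g * x * g⁻¹) * t⁻¹ * (g * x * g⁻¹)⁻¹) * g⁻¹)⁻¹ * (t * x * t⁻¹ * x⁻¹) ∈ Y
  inv : ∃ i ∈ A, i ∈ nz (ai S P) ∧ ∀ t ∈ S, t ∈ nz P → ∀ x ∈ X, i * (t * x * t⁻¹ * x⁻¹) * i⁻¹ * (t * x * t⁻¹ * x⁻¹) ∈ Y
  fx : ∀ c ∈ C, ∃ t ∈ S, t ∈ nz P ∧ ∃ x ∈ X, ∀ g ∈ A,
    g * (c⁻¹ * (t * x * t⁻¹ * x⁻¹)) * g⁻¹ * (c⁻¹ * (t * x * t⁻¹ * x⁻¹))⁻¹ ∈ Y

theorem ft (p2 : p ≠ 2) (l1 l2 : List (Subgroup Γ)) (e : Es p S P A) (gn : Gen S P A) (BS : B ≤ S) (Bn : B ≤ nz P)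
    (cB : CC B B P) (pB : ∀ b ∈ B, b ^ p ∈ P) (YC : Y ≤ C) (CX : C ≤ X) (XP : X ≤ P) (nX : A ≤ nz X) (nY : A ≤ nz Y)
    (cP : CC P X Y) (pX : ∀ x ∈ X, x ^ p ∈ Y) (cC : CC B C Y) (le : C.relIndex X ≤ P.relIndex B) (a1 : Al P A l1)
    (a2 : Al P A l2) (hb : ∃ b ∈ B, b ∉ P ∧ Ch b X P l1 ∧ Ch b (fr P) Y l2) : FT S P A X Y C := by
  obtain ⟨b, b1, b2, b3, b4⟩ := hb
  have PA : P ≤ A := (le_ai_self P).trans e.PA
  have BA : B ≤ ai S P := (le_inf BS Bn).trans (inf_nz_le_ai S P)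
  have YX := YC.trans CX
  have sec : ∀ Y0 ≤ X, A ≤ nz Y0 → CC P X Y0 → (∀ x ∈ X, x ^ p ∈ Y0) → Nonempty (SecRep p A X Y0) := fun Y0 h1 h2 h3 h4 =>
    exists_secRep (XP.trans PA) h1 nX h2 (commutator_le.2 fun x hx => h3 x (XP hx)) h4
  obtain ⟨R⟩ := sec Y YX nY cP pX
  obtain ⟨H, hH⟩ := e.ti
  have PK : ∀ {Y0}, CC P X Y0 → ai P P ≤ stab X Y0 := fun h =>
    ai_le (fun s hs => mem_stab'.2 ⟨nX (PA hs.1), h s hs.1⟩) ((cz_anti XP).trans (cz_le_stab _ _))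
  have hk : ∀ a : A, R.f a = 1 ↔ a.1 ∈ stab X Y := fun a => (R.f_eq_one a).trans
    ⟨fun h => mem_stab'.2 ⟨nX a.2, h⟩, fun h => (mem_stab'.1 h).2⟩
  have nK : A ≤ nz (stab X Y) := fun g hg => mem_nz_stab (nX hg) (mem_nz_inf (nX hg) (nY hg))
  have KH : ∀ k ∈ A, k ∈ stab X Y → k ∈ H := fun k h1 h2 => by
    have bA := e.nA (BA b1)
    have m1 := kk_mem (fun Z hZ => (a1.all Z hZ).2 bA) (Bn b1) b3
    have m2 := kk_mem (fun Z hZ => (a2.all Z hZ).2 bA) (nY bA) b4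
    have cm : ∀ {Z : Subgroup Γ}, k ∈ nz Z → b ∈ Z → k * b * k⁻¹ * b⁻¹ ∈ Z := fun h h' =>
      mul_mem (conj_mem_of_mem_nz h h') (inv_mem h')
    have := e.kkP (l := l1 ++ X :: Y :: l2) (al_append a1 ⟨⟨XP, nX⟩, ⟨YX.trans XP, nY⟩, a2⟩) (show k * b * k⁻¹ * b⁻¹ ∈ _ from
      ⟨cm (le_nz_self A h1) bA, (kk_append (fr P) X l1 (Y :: l2) P).ge ⟨cm (kk_nz (fun Z hZ => (a1.all Z hZ).2 h1) (nX h1) (e.An h1)) m1, by
          simpa [mul_assoc] using mul_mem h2 (conj_mem_of_mem_nz (nK bA) (inv_mem h2)),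
        cm (kk_nz (fun Z hZ => (a2.all Z hZ).2 h1) (nz_le_nz_fr P (e.An h1)) (nY h1)) m2⟩⟩)
    exact hH.ti k h1 b (BA b1) (fun c => b2 (e.mem (BS b1) c)) (by simpa using mul_mem (ai_mono e.le P this) (BA b1))
  have KT : ∀ u ∈ ai S P, u ∈ stab X Y → u ∈ ai P P := fun u h1 h2 => by_contra fun c => hH.ne fun g hg =>
    ti_of e.toAu hH hg h1 c (KH _ (conj_mem_of_mem_nz (le_nz_self A hg) (e.nA h1)) (conj_mem_of_mem_nz (nK hg) h2))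
  have hm : ∀ a : A, R.f a ∈ R.im H → a.1 ∈ H := fun a ⟨d, h1, h2⟩ => by
    have := KH _ (d⁻¹ * a).2 ((hk (d⁻¹ * a)).1 (by rw [map_mul, map_inv, h2, inv_mul_cancel]))
    exact (mul_mem_cancel_left (inv_mem (show d.1 ∈ H from h1))).1 this
  have hT : H28.IsSylowIn p (R.im (ai S P)) ⊤ := H28.isSylowIn_iff.2 ⟨le_top, H28.isPGroup_iff_mem.2 (by
      rintro _ ⟨a, ha, rfl⟩
      obtain ⟨n, hn⟩ := pel_ai e.pg a.1 ha
      exact ⟨n, map_pow R.f a _ ▸ (hk _).2 (PK cP (cz_le_ai _ _ hn))⟩),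
    fun c => e.syl.2 (((relIndex_top_right (R.im (ai S P))).subst c).trans (index_map_dvd _ R.surj))⟩
  have ne : ∀ t (h : t ∈ S) (h' : t ∈ nz P), t ∉ P → R.f ⟨t, e.mA h h'⟩ ≠ 1 := fun t h h' n c =>
    n (e.mem h (KT t (mem_ai_of_mem h h') ((hk _).1 c)))
  have mT : ∀ t (h : t ∈ S) (h' : t ∈ nz P), R.f ⟨t, e.mA h h'⟩ ∈ R.im (ai S P) := fun t h h' => R.mem_im (mem_ai_of_mem h h')
  have bB : R.f ⟨b, e.nA (BA b1)⟩ ∈ R.im B := R.mem_im b1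
  have BT : R.im B ≤ R.im (ai S P) := map_mono (comap_mono BA)
  have B0 : R.im B ≠ ⊥ := fun c => ne b (BS b1) (Bn b1) b2 (mem_bot.1 (c ▸ bB))
  have TH : R.im (ai S P) ≤ R.im H := map_mono (comap_mono hH.le)
  have sp : H28.SPE p (R.im H) := H28.spe_of_sylow (fun c => hH.ne fun a ha => hm ⟨a, ha⟩ (c ▸ mem_top _))
    (hT.mono TH le_top) (fun c => B0 (le_bot_iff.1 (c ▸ BT))) fun Q q1 q2 n hn => by
      obtain ⟨⟨a, ha⟩, a1⟩ := ne_bot_iff_exists_ne_one.1 q2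
      obtain ⟨a, ha', rfl⟩ := q1 ha
      obtain ⟨n, rfl⟩ := R.surj n
      have := TH (q1 (conj_mem_of_mem_nz hn ha))
      rw [← map_inv, ← map_mul, ← map_mul] at this
      exact R.mem_im (ti_of e.toAu hH n.2 ha' (fun c => a1 (Subtype.ext ((hk a).2 (PK cP c)))) (hm _ this))
  have c1 : Nat.card C ≤ Nat.card (fix R.ρ (R.im B)) * Nat.card Y :=
    R.card_le CX YC fun w hw => (R.mem_fix_im (BA.trans e.nA) (CX hw)).2 fun a ha => cC a ha w hw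
  have c2 : P.relIndex B ≤ Nat.card (R.im B) := by
    choose d d1 d2 using fun w : R.im B => w.2
    refine idx_le' (fun w => (d w).1) fun b hb => ⟨⟨_, R.mem_im (g := ⟨b, e.nA (BA hb)⟩) hb⟩, ?_⟩
    refine e.mem (mul_mem (inv_mem (BS (d1 _))) (BS hb)) (KT _ (mul_mem (inv_mem (BA (d1 _))) (BA hb))
      ((hk ((d _)⁻¹ * ⟨b, e.nA (BA hb)⟩)).1 ?_))
    rw [map_mul, map_inv, d2, inv_mul_cancel]
  have c3 := ((mul_comm _ _).trans (H1.relIndex_mul_card CX)).trans R.card_eq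
  obtain ⟨T, t1, t2, t3⟩ := exists_rt_sylow R.faith sp (X := R.im B) (H28.isElementaryAbelian_iff.2 ⟨by
      rintro _ ⟨a, ha, rfl⟩ _ ⟨b, hb, rfl⟩
      rw [← commutatorElement_eq_one_iff_mul_comm, ← map_commutatorElement, hk]
      exact PK cP (le_ai_self P (cB _ hb _ ha)), by
      rintro _ ⟨a, ha, rfl⟩; rw [← map_pow, hk]; exact PK cP (le_ai_self P (pB _ ha))⟩) B0
    (Nat.le_of_mul_le_mul_right (c3.ge.trans ((Nat.mul_le_mul c1 (le.trans c2)).trans_eq (by ring))) Nat.card_pos)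
  obtain ⟨k, -, rfl⟩ := hT.exists_conj t1
  rw [rt_cj_iff] at t2
  have c4 := card_le_of_le BT
  replace c1 := c1.trans (Nat.mul_le_mul_right _ (Nat.card_mono (Set.toFinite _)
    (t2.fix_le (BT bB) (ne b (BS b1) (Bn b1) b2) bB)))
  rw [t2.card] at c3
  have c5 : Nat.card (R.im (ai S P)) ≤ C.relIndex X := Nat.le_of_mul_le_mul_left
    (((mul_rotate _ _ _).symm.trans c3.symm).le.trans (Nat.mul_le_mul_right _ c1)) (Nat.mul_pos Nat.card_pos Nat.card_pos)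
  have c6 : Nat.card (fix R.ρ (R.im (ai S P))) * Nat.card Y ≤ Nat.card C := Nat.le_of_mul_le_mul_right
    (((by ring : _ = _).trans c3.symm).le.trans (Nat.mul_le_mul_left _ (le.trans (c2.trans c4)))) Nat.card_pos
  have e1 : R.im B = R.im (ai S P) := eq_of_le_of_card_ge BT (c5.trans (le.trans c2))
  let C' : Subgroup Γ :=
    { carrier := {x | x ∈ X ∧ R.ι x ∈ fix R.ρ (R.im (ai S P))}
      one_mem' := ⟨one_mem _, R.one ▸ zero_mem _⟩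
      mul_mem' := fun h h' => ⟨mul_mem h.1 h'.1, R.mul _ h.1 _ h'.1 ▸ add_mem h.2 h'.2⟩
      inv_mem' := fun h => ⟨inv_mem h.1, R.inv h.1 ▸ neg_mem h.2⟩ }
  have CC' : C ≤ C' := fun w hw => ⟨CX hw, e1 ▸ (R.mem_fix_im (BA.trans e.nA) (CX hw)).2 fun a ha => cC a ha w hw⟩
  have e2 : C = C' := eq_of_le_of_card_ge CC' ((R.card_le (W := C') (fun _ h => h.1) (YC.trans CC') fun _ h => h.2).trans c6)
  obtain ⟨F, _, _, hF, ⟨E⟩⟩ := nat2_of_sylow R.faith hT t2 (top_unique fun g _ => by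
    obtain ⟨g, rfl⟩ := R.surj g
    obtain ⟨a, ha, c⟩ := gn (((H28.nclIn (R.im (ai S P)) ⊤).comap R.f).map A.subtype)
      (fun s hs => ⟨⟨s, e.nA hs⟩, H28.le_nclIn _ _ (R.mem_im hs), rfl⟩) (le_nz_iff.2 (by
        rintro g hg _ ⟨a, ha, rfl⟩
        refine ⟨⟨g, hg⟩ * a * ⟨g, hg⟩⁻¹, ?_, rfl⟩
        rw [SetLike.mem_coe, mem_comap, map_mul, map_mul, map_inv]
        exact conj_mem_of_mem_nz (H28.le_normalizer_nclIn _ _ (mem_top _)) ha)) g.2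
    exact Subtype.ext c ▸ ha) fun c => t3 fun g _ => (congrArg nz (mem_nz.1 (c (mem_top k)))).ge (c (mem_top g))
  have mC : ∀ x ∈ X, x ∈ C ↔ R.ι x ∈ fix R.ρ (R.im (ai S P)) := fun x hx => e2 ▸ ⟨fun h => h.2, fun h => ⟨hx, h⟩⟩
  have lift : ∀ γ ∈ nz (R.im (ai S P)), ∃ a : A, R.f a = γ ∧ a.1 ∈ nz (ai S P) := fun γ hγ => by
    obtain ⟨a, rfl⟩ := R.surj γ
    let X' := ((R.im (ai S P)).comap R.f).map A.subtype
    have mX : ∀ a : A, a.1 ∈ X' ↔ R.f a ∈ R.im (ai S P) := fun a => mem_map_iff_mem A.subtype_injective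
    obtain ⟨k, ⟨k, hk, rfl⟩, c⟩ := e.cjX (X := X') (fun s hs => (mX ⟨s, e.nA hs⟩).2 (R.mem_im hs)) (map_subtype_le _) a.2 (by
      rintro _ ⟨s, hs, rfl⟩
      refine (mX (a * ⟨s, e.nA hs⟩ * a⁻¹)).2 ?_
      rw [map_mul, map_mul, map_inv]
      exact conj_mem_of_mem_nz hγ (R.mem_im hs))
    obtain ⟨s, hs, es⟩ := hk
    refine ⟨s⁻¹ * k * a, by rw [map_mul, map_mul, map_inv, es, inv_mul_cancel, one_mul], ?_⟩
    rw [cj_cj] at c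
    simpa [mul_assoc] using mul_mem (inv_mem (le_nz_self (ai S P) (show s.1 ∈ _ from hs))) (mem_nz_of_le c)
  have cm : ∀ t (h1 : t ∈ S) (h2 : t ∈ nz P), ∀ x ∈ X, t * x * t⁻¹ * x⁻¹ ∈ X ∧
      R.ι (t * x * t⁻¹ * x⁻¹) = R.ρ (R.f ⟨t, e.mA h1 h2⟩) (R.ι x) - R.ι x := fun t h1 h2 x hx =>
    ⟨R.comm_mem (e.mA h1 h2) hx, R.comm ⟨t, e.mA h1 h2⟩ hx⟩
  obtain ⟨⟨g, g1, g2, g3⟩, ⟨i, i1, i2⟩, f⟩ := lin p2 hT hF (fun c => B0 (le_bot_iff.1 (c ▸ BT))) E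
  obtain ⟨g, rfl, g0⟩ := lift g g1
  obtain ⟨i, rfl, i0⟩ := lift i i1
  refine ⟨⟨g, g.2, g0, fun x hx n x' hx' n' => ?_, fun t h1 h2 x hx => ?_⟩, ⟨i, i.2, i0, fun t h1 h2 x hx => ?_⟩, fun c hc => ?_⟩
  · obtain ⟨n, k⟩ := g2 _ (mt (mC x hx).2 n) _ (mt (mC x' hx').2 n')
    have m := conj_mem_of_mem_nz (nX (g ^ n).2) hx
    refine ⟨n, (mC _ (mul_mem (inv_mem m) hx')).2 ?_⟩
    rwa [R.mul _ (inv_mem m) _ hx', R.inv m, ← R.equi (g ^ n) x hx, map_pow]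
  · have m := conj_mem_of_mem_nz (nX g.2) hx
    obtain ⟨m1, k1⟩ := cm t h1 h2 _ m
    obtain ⟨m2, k2⟩ := cm t h1 h2 _ hx
    have m3 := conj_mem_of_mem_nz (nX g.2) m1
    rw [← R.ker _ (mul_mem (inv_mem m3) m2), R.mul _ (inv_mem m3) _ m2, R.inv m3, ← R.equi g _ m1, k1, k2, ← R.equi g _ hx,
      g3 _ (mT t h1 h2), neg_add_cancel]
  · obtain ⟨m2, k2⟩ := cm t h1 h2 _ hx
    have m3 := conj_mem_of_mem_nz (nX i.2) m2
    rw [← R.ker _ (mul_mem m3 m2), R.mul _ m3 _ m2, ← R.equi i _ m2, k2, i2, neg_add_cancel]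
  · obtain ⟨_, ⟨s, hs, rfl⟩, w, k⟩ := f _ ((mC c (CX hc)).1 hc)
    obtain ⟨x, hx, rfl⟩ := R.onto w
    obtain ⟨t, ht, ag⟩ := mem_ai'.1 (show s.1 ∈ _ from hs)
    obtain ⟨m2, k2⟩ := cm t ht.1 ht.2 _ hx
    have m := mul_mem (inv_mem (CX hc)) m2
    refine ⟨t, ht.1, ht.2, x, hx, (R.mem_fix_im le_rfl m).1 ?_⟩
    rwa [R.im_top, R.mul _ (inv_mem (CX hc)) _ m2, R.inv (CX hc), k2, R.equi _ x hx, ← ag x (XP hx), ← R.equi s x hx]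

theorem fi (p2 : p ≠ 2) : H2.G.FI Γ p := fun S P A B C e gn BS Bn BP cB pB CP cP pP cC le => by
  obtain ⟨b, b1, b2⟩ := SetLike.not_le_iff_exists.1 BP
  obtain ⟨-, ⟨i, i1, i2, i3⟩, f⟩ := ft p2 [] [] e gn BS Bn cB pB bot_le CP le_rfl e.An (fun g _ => nz_bot g) cP pP cC le trivial
    trivial ⟨b, b1, b2, cm_nz (Bn b1), fun y hy => by simp [mem_bot.1 hy]⟩
  refine ⟨⟨i, i1, i2, fun t h1 h2 x hx => eq_inv_of_mul_eq_one_left (i3 t h1 h2 x hx)⟩, fun c hc => ?_⟩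
  obtain ⟨t, h1, h2, x, hx, k⟩ := f c hc
  exact ⟨t, h1, h2, x, hx, fun g hg => mul_inv_eq_one.1 (k g hg)⟩

end H12.GE
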