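/-
Fusion systems on a Sylow `p`-subgroup of `G₂(q)`, `p ≥ 5`: Frattini subgroups, characteristic subgroups, automorphisms.
-/
import Cfsg.Agent.H25.GC0

set_option autoImplicit false
set_option linter.unusedSectionVars false
set_option linter.unusedSimpArgs false

namespace H12.GE
open Subgroup H25 H25.FS H25.GC H25.GC.Gc
open H8.PU hiding Co
universe u v
variable {K : Type v} [Field K] [Finite K] {Γ : Type u} [Group Γ] [Finite Γ] {p : ℕ} [Fact p.Prime]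
  {S P A X Y : Subgroup Γ} {ev : Gc K →* Γ} {g w : Γ} {c : Gc K}

/-- coordinates on `S` in characteristic `≥ 5` -/
structure C5 (S : Subgroup Γ) (ev : Gc K →* Γ) : Prop extends Co S ev where
  t2 : (2 : K) ≠ 0
  t3 : (3 : K) ≠ 0
theorem c5_of [CharP K p] (h : Co S ev) (hp : 5 ≤ p) : C5 S ev :=
  ⟨h, fun e => by have := Nat.le_of_dvd two_pos ((CharP.cast_eq_zero_iff K p 2).1 (by simpa using e)); omega,
    fun e => by have := Nat.le_of_dvd three_pos ((CharP.cast_eq_zero_iff K p 3).1 (by simpa using e)); omega⟩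

macro "g5" h:term:max "[" ls:Lean.Parser.Tactic.simpLemma,* "]" loc:(Lean.Parser.Tactic.location)? : tactic =>
  `(tactic| gs (C5.toCo $h) [$ls,*] $[$loc]?)
macro "b5" h:term:max hx:ident c:ident hc:ident : tactic => `(tactic| gb (C5.toCo $h) $hx $c $hc)
macro "gr5" h:term:max : tactic => `(tactic| (have := C5.t2 $h; have := C5.t3 $h; grind))
/-- polynomial identities, one of them with a hint -/
macro "l5 " t:term : tactic => `(tactic| ((repeat' apply And.intro) <;> first | ring1 | linear_combination $t:term))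

/-- leading coefficients of an automorphism of `S` -/
def Lc (ev : Gc K →* Γ) (g : Γ) (k l : K) (φ : K ≃+* K) : Prop := ∀ c c', g * ev c * g⁻¹ = ev c' →
  c'.a = k * φ c.a ∧ c'.u = l * φ c.u ∧ (c.a = 0 → c.u = 0 → c'.s = l * k * φ c.s ∧ (c.s = 0 → c'.r = l * k ^ 2 * φ c.r ∧
    (c.r = 0 → c'.v = l * k ^ 3 * φ c.v ∧ (c.v = 0 → c'.z = l ^ 2 * k ^ 3 * φ c.z))))

namespace C5
variable (h : C5 S ev)
include h
theorem up {Y' : Subgroup (Gc K)} (hY : Y ≤ X) (k : ∀ c ∈ Y', ∃ w ∈ X, w⁻¹ * ev c ∈ Y) : Y'.map ev ≤ X := by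
  rintro _ ⟨c, hc, rfl⟩
  obtain ⟨w, hw, e⟩ := k c hc
  exact (mul_mem_cancel_left (inv_mem hw)).1 (hY e)
/-- an upper bound for an index by a coordinate -/
theorem idx (hX : X ≤ S) {ι : Type*} [Finite ι] (f : Gc K → ι)
    (k : ∀ c c', ev c ∈ X → ev c' ∈ X → f c = f c' → (ev c)⁻¹ * ev c' ∈ Y) : Y.relIndex X ≤ Nat.card ι := by
  classical
  refine idx_le' (fun i => if e : ∃ c, ev c ∈ X ∧ f c = i then ev e.choose else 1) fun b hb => ?_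
  obtain ⟨c, -, rfl⟩ := h.ex (hX hb)
  have e : ∃ c', ev c' ∈ X ∧ f c' = f c := ⟨c, hb, rfl⟩
  exact ⟨f c, by rw [dif_pos e]; exact k _ _ e.choose_spec.1 hb e.choose_spec.2⟩
/-- `Z₁ = [c, Z₂]` for `c ∉ Q₂` -/
theorem Zle (hc : c.u ≠ 0) (k : ∀ v, ev c * ev (xv v) * (ev c)⁻¹ * (ev (xv v))⁻¹ ∈ X) : (Z1 K).map ev ≤ X :=
  h.up bot_le fun d hd => ⟨_, k (d.z / c.u), by
    rw [mem_bot, inv_mul_eq_one, cm_eq]; g5 h [] at hd; g5 h [hd]; field_simp; cg⟩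
/-- `Z₁ = [c, Z₃]` for `c ∈ Z₄ \ Z₃` -/
theorem Zle' (h1 : c.a = 0) (h2 : c.u = 0) (hc : c.s ≠ 0) (k : ∀ r, ev c * ev (xr r) * (ev c)⁻¹ * (ev (xr r))⁻¹ ∈ X) :
    (Z1 K).map ev ≤ X := h.up bot_le fun d hd => ⟨_, k (-d.z / (3 * c.s)), by
  have := h.t3
  rw [mem_bot, inv_mul_eq_one, cm_eq]; g5 h [] at hd; g5 h [hd, h1, h2]; field_simp; cg⟩
/-- `Z₂ = Z₁ [c, Z₃]` for `c ∉ Q₁` -/
theorem Z2le (hZ : (Z1 K).map ev ≤ X) (hc : c.a ≠ 0) (k : ∀ r, ev c * ev (xr r) * (ev c)⁻¹ * (ev (xr r))⁻¹ ∈ X) :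
    (Z2 K).map ev ≤ X := h.up hZ fun d hd => ⟨_, k (-d.v / (3 * c.a)), by
  have := h.t3
  g5 h [] at hd; g5 h [hd]; field_simp; cg⟩
/-- `Z₃ = Z₂ [c, Z₄]` for `c ∉ Q₁` -/
theorem Z3le (hZ : (Z2 K).map ev ≤ X) (hc : c.a ≠ 0) (k : ∀ s, ev c * ev (xs s) * (ev c)⁻¹ * (ev (xs s))⁻¹ ∈ X) :
    (Z3 K).map ev ≤ X := h.up hZ fun d hd => ⟨_, k (-d.r / (2 * c.a)), by
  have := h.t2
  g5 h [] at hd; g5 h [hd]; field_simp; cg⟩
theorem frZ1 (hP : IsPGroup p P) (h2 : (Z2 K).map ev ≤ P) (hS : P ≤ S) (hQ : ¬ P ≤ (Q2 K).map ev) : (Z1 K).map ev ≤ fr P := by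
  obtain ⟨u, hu, k⟩ := SetLike.not_le_iff_exists.1 hQ
  obtain ⟨c, -, rfl⟩ := h.ex (hS hu)
  exact h.Zle (c := c) (by g5 h [] at k; exact k) fun z => cm_fr hP hu (h2 (by g5 h []))
theorem frZ2 (hP : IsPGroup p P) (h3 : (Z3 K).map ev ≤ P) (hS : P ≤ S) (hQ : ¬ P ≤ (Q1 K).map ev)
    (hZ : (Z1 K).map ev ≤ fr P) : (Z2 K).map ev ≤ fr P := by
  obtain ⟨u, hu, k⟩ := SetLike.not_le_iff_exists.1 hQ
  obtain ⟨c, -, rfl⟩ := h.ex (hS hu)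
  exact h.Z2le hZ (c := c) (by g5 h [] at k; exact k) fun z => cm_fr hP hu (h3 (by g5 h []))
theorem fr1 (hS : IsPGroup p S) : (Z1 K).map ev ≤ fr ((Q1 K).map ev) :=
  h.Zle' (c := xs 1) rfl rfl one_ne_zero fun _ => cm_fr (hS.to_le (h.le _)) (by g5 h []) (by g5 h [])
theorem fr2 (hS : IsPGroup p S) : (Z3 K).map ev ≤ fr ((Q2 K).map ev) := by
  have cm : ∀ c c' : Gc K, c.u = 0 → c'.u = 0 → ev c * ev c' * (ev c)⁻¹ * (ev c')⁻¹ ∈ fr ((Q2 K).map ev) := fun c c' k k' =>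
    cm_fr (hS.to_le (h.le _)) (h.mm.2 k) (h.mm.2 k')
  exact h.Z3le (h.Z2le (h.Zle' (c := xs 1) rfl rfl one_ne_zero fun _ => cm _ _ rfl rfl) (c := xa 1) one_ne_zero
    fun _ => cm _ _ rfl rfl) (c := xa 1) one_ne_zero fun _ => cm _ _ rfl rfl
theorem fr4 (hS : IsPGroup p S) : (Z4 K).map ev ≤ fr S := by
  have cm : ∀ c c' : Gc K, ev c * ev c' * (ev c)⁻¹ * (ev c')⁻¹ ∈ fr S := fun c c' => cm_fr hS (h.mS c) (h.mS c')
  exact h.up (h.Z3le (h.Z2le (h.Zle' (c := xs 1) rfl rfl one_ne_zero fun _ => cm _ _) (c := xa 1) one_ne_zero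
    fun _ => cm _ _) (c := xa 1) one_ne_zero fun _ => cm _ _) fun d hd =>
      ⟨_, cm (xu 1) (xa d.s), by g5 h [] at hd; g5 h [hd]; cg⟩
/-- `C_S(Z₂) = Q₂` -/
theorem cZ2 (hw : w ∈ S) (k : w ∈ cz ((Z2 K).map ev)) : w ∈ (Q2 K).map ev := by
  b5 h hw c hc
  have := mem_cz'.1 k (ev (xv 1)) (by g5 h [])
  g5 h [] at this ⊢
  grind
/-- `C_S(Z₃ / Z₁) = Q₁` -/
theorem cQ1 (hw : w ∈ S) (k : Cm w ((Z3 K).map ev) ((Z1 K).map ev)) : w ∈ (Q1 K).map ev := by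
  b5 h hw c hc
  have := k (ev (xr 1)) (by g5 h [])
  g5 h [] at this ⊢
  gr5 h
/-- `C_S(Z₄ / Z₂) = Q₁` -/
theorem cQ1' (hw : w ∈ S) (k : Cm w ((Z4 K).map ev) ((Z2 K).map ev)) : w ∈ (Q1 K).map ev := by
  b5 h hw c hc
  have := k (ev (xs 1)) (by g5 h [])
  g5 h [] at this ⊢
  gr5 h
/-- `C_{Q₂}(Z₃ / Z₁) = Z₄` -/
theorem cZ4 (hw : w ∈ (Q2 K).map ev) (k : Cm w ((Z3 K).map ev) ((Z1 K).map ev)) : w ∈ (Z4 K).map ev := by
  have := h.cQ1 (h.le _ hw) k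
  b5 h hw c hc
  exact h.mm.2 ⟨h.mm.1 this, hc⟩
/-- `C_S(Z₃) = Z₃` -/
theorem cZ3 (hw : w ∈ S) (k : w ∈ cz ((Z3 K).map ev)) : w ∈ (Z3 K).map ev := by
  have := h.cZ4 (h.cZ2 hw (cz_anti h.l23 k)) (cm_of_cz k)
  b5 h this c hc
  have := mem_cz'.1 k (ev (xr 1)) (by g5 h [])
  g5 h [] at hc
  g5 h [hc] at this ⊢
  gr5 h
/-- `C_S(Z₄) = Z₂` -/
theorem cZ (hw : w ∈ S) (k : w ∈ cz ((Z4 K).map ev)) : w ∈ (Z2 K).map ev := by
  have := h.cZ3 hw (cz_anti h.l34 k)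
  b5 h this c hc
  have := mem_cz'.1 k (ev (xs 1)) (by g5 h [])
  g5 h [] at hc
  g5 h [hc] at this ⊢
  gr5 h
theorem c42 : CC ((Z4 K).map ev) ((Z2 K).map ev) ⊥ := h.c2Z.mono h.l42 le_rfl le_rfl
theorem l31 : (Z3 K).map ev ≤ (Q1 K).map ev := h.l34.trans h.l41
theorem l32 : (Z3 K).map ev ≤ (Q2 K).map ev := h.l34.trans h.l42
theorem cen1 : S ⊓ cz ((Q1 K).map ev) ≤ (Q1 K).map ev := fun _ hw => h.l31 (h.cZ3 hw.1 (cz_anti h.l31 hw.2))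
theorem cen2 : S ⊓ cz ((Q2 K).map ev) ≤ (Q2 K).map ev := fun _ hw => h.l32 (h.cZ3 hw.1 (cz_anti h.l32 hw.2))
theorem nS (hX : (Z4 K).map ev ≤ X) (h' : X ≤ S) : S ≤ nz X := h.cSS.nz' h' hX
theorem nQ1 : S ≤ nz ((Q1 K).map ev) := h.nS h.l41 (h.le _)
theorem nQ2 : S ≤ nz ((Q2 K).map ev) := h.nS h.l42 (h.le _)
theorem nZ4 : S ≤ nz ((Z4 K).map ev) := h.nS le_rfl (h.le _)
theorem nZ3 : S ≤ nz ((Z3 K).map ev) := h.cS3.nz' le_rfl h.l23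
theorem nZ2 : S ≤ nz ((Z2 K).map ev) := h.cS2.nz' le_rfl h.l12
theorem nZ1 : S ≤ nz ((Z1 K).map ev) := h.cS1.nz' le_rfl bot_le
theorem Z1P (e : Au p S P A) : (Z1 K).map ev ≤ P := e.cP (h.le _) e.le h.cS1
theorem zo1 [CharP K p] (e : Au p S P A) : (Z1 K).map ev ≤ zo p P := fun _ hw =>
  ⟨h.Z1P e hw, cz_anti e.le (h.cS1.symm.cz hw), h.pw3 (h.l23 (h.l12 hw))⟩
/-- characteristic subgroups of `Q₂` -/
theorem q2Z2 (hg : g ∈ nz ((Q2 K).map ev)) : g ∈ nz ((Z2 K).map ev) :=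
  nz_of_cz (fun _ => ⟨fun k => ⟨h.l32 (h.l23 k), h.c2Z.symm.cz k⟩, fun k => h.cZ (h.le _ k.1) (cz_anti h.l42 k.2)⟩) hg hg
theorem q2Z3 (hg : g ∈ nz ((Q2 K).map ev)) : g ∈ nz ((Z3 K).map ev) :=
  nz_of_char (fun w => ⟨fun k => ⟨h.l32 k, h.cS3.symm.cm k (h.le _) le_rfl⟩, fun ⟨k1, k2⟩ => by
    b5 h k1 c hc
    have e1 := k2 (ev (xs 1)) (by g5 h [])
    have e2 := k2 (ev (xa 1)) (by g5 h [])
    g5 h [mQ2.1 hc] at e1 e2 ⊢
    gr5 h⟩) hg hg (h.q2Z2 hg)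
theorem q2Z4 (hg : g ∈ nz ((Q2 K).map ev)) (h1 : g ∈ nz ((Z1 K).map ev)) : g ∈ nz ((Z4 K).map ev) :=
  nz_of_char (fun _ => ⟨fun k => ⟨h.l42 k, h.c11.cm (h.l41 k) h.l31 le_rfl⟩, fun k => h.cZ4 k.1 k.2⟩) hg (h.q2Z3 hg) h1
/-- characteristic subgroups of `Q₁` -/
theorem q1Z1 (hg : g ∈ nz ((Q1 K).map ev)) : g ∈ nz ((Z1 K).map ev) :=
  nz_of_cz (fun w => ⟨fun k => ⟨h.l31 (h.l23 (h.l12 k)), cz_anti (h.le _) (h.cS1.symm.cz k)⟩, fun ⟨k1, k2⟩ => by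
    have := h.cZ (h.le _ k1) (cz_anti h.l41 k2)
    b5 h this c hc
    have := mem_cz'.1 k2 (ev (xu 1)) (by g5 h [])
    g5 h [] at hc
    g5 h [hc] at this ⊢
    grind⟩) hg hg
theorem q1Z4 (hg : g ∈ nz ((Q1 K).map ev)) (h2 : g ∈ nz ((Z2 K).map ev)) : g ∈ nz ((Z4 K).map ev) :=
  nz_of_cz (fun w => ⟨fun k => ⟨h.l41 k, h.c42.cz k⟩, fun ⟨k1, k2⟩ => by
    have := h.cZ2 (h.le _ k1) k2
    b5 h k1 c hc
    exact h.mm.2 ⟨hc, h.mm.1 this⟩⟩) hg h2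
theorem z4Z2 (hg : g ∈ nz ((Z4 K).map ev)) : g ∈ nz ((Z2 K).map ev) :=
  nz_of_cz (fun _ => ⟨fun k => ⟨h.l34 (h.l23 k), h.c42.symm.cz k⟩, fun k => h.cZ (h.le _ k.1) k.2⟩) hg hg
/-- characteristic subgroups of `S` -/
theorem gZ1 (hg : g ∈ nz S) : g ∈ nz ((Z1 K).map ev) :=
  nz_of_cz (fun w => ⟨fun k => ⟨h.le _ k, h.cS1.symm.cz k⟩, fun ⟨k1, k2⟩ => by
    have := h.cZ k1 (cz_anti (h.le _) k2)
    b5 h this c hc
    have := mem_cz'.1 k2 _ (h.mS (xu 1))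
    g5 h [] at hc
    g5 h [hc] at this ⊢
    grind⟩) hg hg
theorem gZ2 (hg : g ∈ nz S) : g ∈ nz ((Z2 K).map ev) :=
  nz_of_char (fun w => ⟨fun k => ⟨h.le _ k, h.cS2.symm w k⟩, fun ⟨k1, k2⟩ => by
    have := h.cQ1 k1 (k2.mono (h.le _) le_rfl)
    b5 h this c hc
    have e1 := k2 _ (h.mS (xa 1))
    g5 h [mQ1.1 hc] at e1 ⊢
    have u0 : c.u = 0 := by linear_combination e1.1
    have s0 : c.s = 0 := mul_left_cancel₀ h.t2 (by linear_combination e1.2.1 + u0)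
    g5 h [u0, s0] at e1 ⊢
    gr5 h⟩) hg hg (h.gZ1 hg)
theorem gQ2 (hg : g ∈ nz S) : g ∈ nz ((Q2 K).map ev) :=
  nz_of_cz (fun _ => ⟨fun k => ⟨h.le _ k, h.c2Z.cz k⟩, fun k => h.cZ2 k.1 k.2⟩) hg (h.gZ2 hg)
theorem gZ3 (hg : g ∈ nz S) : g ∈ nz ((Z3 K).map ev) := h.q2Z3 (h.gQ2 hg)
theorem gZ4 (hg : g ∈ nz S) : g ∈ nz ((Z4 K).map ev) := h.q2Z4 (h.gQ2 hg) (h.gZ1 hg)
theorem gQ1 (hg : g ∈ nz S) : g ∈ nz ((Q1 K).map ev) :=
  nz_of_char (fun _ => ⟨fun k => ⟨h.le _ k, h.c11.cm k h.l31 le_rfl⟩, fun k => h.cQ1 k.1 k.2⟩) hg (h.gZ3 hg) (h.gZ1 hg)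
/-- the stabilizer of `Z₄` in the automizer of `Q₂` normalizes the Sylow subgroup -/
theorem bor2 (e : Au p S ((Q2 K).map ev) A) (hg : g ∈ A) (h2 : g ∈ nz ((Z4 K).map ev)) : g ∈ nz (ai S ((Q2 K).map ev)) := by
  have l : ∀ Y ∈ [(Z4 K).map ev], Y ≤ (Q2 K).map ev := by simp [h.l42]
  rw [e.kk_eq l (ai_le (fun s hs => kk_mem (by simp [h.nZ4 hs.1]) hs.2 ⟨h.cSS.cm hs.1 (h.le _) le_rfl,
    h.cS4.cm hs.1 le_rfl (h.fr2 e.pg)⟩) (kk_cz l le_rfl))]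
  exact mem_nz_inf (le_nz_self A hg) (kk_nz (by simp [h2]) (nz_le_nz_fr _ (e.An hg)) (e.An hg))
theorem ne2 (e : Es p S ((Q2 K).map ev) A) : ∃ g ∈ A, g ∉ nz ((Z4 K).map ev) := by
  by_contra! c
  exact e.not_nz fun g hg => h.bor2 e.toAu hg (c g hg)
/-- automorphisms trivial on `Q₁ / Z₁`, resp. `Q₂ / Z₃`, are inner -/
theorem in1 (e : Es p S ((Q1 K).map ev) A) (hg : g ∈ A) (k : Cm g ((Q1 K).map ev) ((Z1 K).map ev)) :
    g ∈ ai ((Q1 K).map ev) ((Q1 K).map ev) :=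
  e.kkP (l := []) trivial ⟨hg, mem_stab'.2 ⟨e.An hg, k.mono le_rfl (h.fr1 e.pg)⟩⟩
theorem in2 (e : Es p S ((Q2 K).map ev) A) (hg : g ∈ A) (k : Cm g ((Q2 K).map ev) ((Z3 K).map ev)) :
    g ∈ ai ((Q2 K).map ev) ((Q2 K).map ev) :=
  e.kkP (l := []) trivial ⟨hg, mem_stab'.2 ⟨e.An hg, k.mono le_rfl (h.fr2 e.pg)⟩⟩
/-- changing coordinates by an inner automorphism -/
theorem conj (d : Gc K) : C5 S (ev.comp (MulAut.conj d).toMonoidHom) :=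
  ⟨⟨h.inj.comp (MulAut.conj d).injective, fun w => (h.mem w).trans
    ⟨fun ⟨c, e⟩ => ⟨d⁻¹ * c * d, by simp [e, mul_assoc]⟩, fun ⟨_, e⟩ => ⟨_, e⟩⟩⟩, h.t2, h.t3⟩
theorem conj_cj (d : Gc K) (X : Subgroup (Gc K)) : X.map (ev.comp (MulAut.conj d).toMonoidHom) = cj (ev d) (X.map ev) := by
  ext w
  exact ⟨fun ⟨c, hc, e⟩ => e ▸ by simpa using conj_mem_cj (ev d) (h.mm.2 hc), fun ⟨_, ⟨c, hc, rfl⟩, e⟩ => ⟨c, hc, by simpa using e⟩⟩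
theorem conj_map (d : Gc K) {X : Subgroup (Gc K)} (hX : S ≤ nz (X.map ev)) :
    X.map (ev.comp (MulAut.conj d).toMonoidHom) = X.map ev := by rw [h.conj_cj, mem_nz.1 (hX (h.mS d))]

/-- the automorphisms of `S` have semilinear leading coefficients -/
theorem au (hg : g ∈ nz S) : ∃ k l φ, k ≠ 0 ∧ l ≠ 0 ∧ Lc ev g k l φ := by
  choose α _ hα using fun c => h.ex (conj_mem_of_mem_nz hg (h.mS c))
  have am : ∀ c d, α (c * d) = α c * α d := fun c d => h.inj (by rw [map_mul, hα, hα, hα, map_mul, cj_mul'])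
  let f : Gc K →* Gc K := MonoidHom.mk' α am
  have hf : ∀ c, ev (f c) = g * ev c * g⁻¹ := hα
  clear_value f
  have pr : ∀ {X : Subgroup (Gc K)}, g ∈ nz (X.map ev) → ∀ c, f c ∈ X ↔ c ∈ X := fun k c => by
    rw [← h.mm, hf, ← h.mm (c := c)]
    exact ⟨fun e => by simpa [mul_assoc] using conj_mem_of_mem_nz' k e, conj_mem_of_mem_nz k⟩
  have p1 := pr (h.gZ1 hg)
  have p2 := pr (h.gZ2 hg)
  have p3 := pr (h.gZ3 hg)
  have p4 := pr (h.gZ4 hg)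
  have q1 := pr (h.gQ1 hg)
  have q2 := pr (h.gQ2 hg)
  simp only [mZ1, mZ2, mZ3, mZ4, mQ1, mQ2] at p1 p2 p3 p4 q1 q2
  have fc : ∀ c d, f (c * d * c⁻¹ * d⁻¹) = f c * f d * (f c)⁻¹ * (f d)⁻¹ := fun c d => by simp only [map_mul, map_inv]
  have sp : ∀ c d, f c = f d * f (d⁻¹ * c) := fun c d => by rw [← map_mul, mul_inv_cancel_left]
  have ea : ∀ c, (f c).a = (f (xa c.a)).a := fun c => by rw [sp c (xa c.a), mul_a, (q1 (_ * c)).2 (by simp), add_zero]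
  have eu : ∀ c, (f c).u = (f (xu c.u)).u := fun c => by rw [sp c (xu c.u), mul_u, (q2 (_ * c)).2 (by simp), add_zero]
  have es : ∀ c : Gc K, c.a = 0 → c.u = 0 → (f c).s = (f (xs c.s)).s := fun c h1 h2 => by
    have := (p3 ((xs c.s)⁻¹ * c)).2 (by simp [h1, h2])
    rw [sp c (xs c.s), mul_s, this.1, this.2.2]; ring
  have er : ∀ c : Gc K, c.a = 0 → c.u = 0 → c.s = 0 → (f c).r = (f (xr c.r)).r := fun c h1 h2 h3 => by
    have := (p2 ((xr c.r)⁻¹ * c)).2 (by simp [h1, h2, h3])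
    rw [sp c (xr c.r), mul_r, this.1, this.2.2.2]; ring
  have ev' : ∀ c : Gc K, c.a = 0 → c.u = 0 → c.s = 0 → c.r = 0 → (f c).v = (f (xv c.v)).v := fun c h1 h2 h3 h4 => by
    have := (p1 ((xv c.v)⁻¹ * c)).2 (by simp [h1, h2, h3, h4])
    rw [sp c (xv c.v), mul_v, this.1, this.2.2.2.2]; ring
  have ua : ∀ a, (f (xa a)).u = 0 := fun a => (q2 _).2 rfl
  have au : ∀ u, (f (xu u)).a = 0 := fun u => (q1 _).2 rfl
  have cs : ∀ a u, (f (xs (a * u))).s = (f (xa a)).a * (f (xu u)).u := fun a u => by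
    have := es (xu u * xa a * (xu u)⁻¹ * (xa a)⁻¹) (cm_a _ _) (cm_u _ _)
    rw [fc, cm_s, cm_s, au] at this
    simpa using this.symm
  have k0 : (f (xa 1)).a ≠ 0 := fun e => one_ne_zero ((q1 _).1 e)
  have l0 : (f (xu 1)).u ≠ 0 := fun e => one_ne_zero ((q2 _).1 e)
  generalize hk : (f (xa 1)).a = k at k0
  generalize hl : (f (xu 1)).u = l at l0
  let φ0 : K →+* K :=
    { toFun := fun a => (f (xa a)).a / k
      map_one' := by rw [hk, div_self k0]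
      map_zero' := by rw [show (xa 0 : Gc K) = 1 from rfl, map_one]; simp
      map_add' := fun a b => by rw [show (xa (a + b) : Gc K) = xa a * xa b by ext <;> simp, map_mul, mul_a, add_div]
      map_mul' := fun a b => by
        have e1 := cs a b
        have e2 := cs (a * b) 1
        have e3 := cs 1 b
        have e4 := cs b 1
        rw [mul_one, hl] at e2 e4
        rw [one_mul, hk] at e3
        field_simp
        refine mul_left_cancel₀ l0 ?_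
        linear_combination k * (e1 - e2) + (f (xa a)).a * (e4 - e3) }
  let φ := RingEquiv.ofBijective φ0 (Finite.injective_iff_bijective.1 φ0.injective)
  have ha : ∀ a, (f (xa a)).a = k * φ a := fun a => (mul_div_cancel₀ _ k0).symm
  have hs : ∀ s, (f (xs s)).s = l * k * φ s := fun s => by rw [← mul_one s, cs, ha, hl, mul_one]; ring
  have hu : ∀ u, (f (xu u)).u = l * φ u := fun u => mul_left_cancel₀ k0 (by rw [← hk, ← cs, one_mul, hs, hk]; ring)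
  have hr : ∀ r, (f (xr r)).r = l * k ^ 2 * φ r := fun r => by
    have m := (p4 (xs (r / 2))).2 ⟨rfl, rfl⟩
    have := er ((xa (-1)) * xs (r / 2) * (xa (-1))⁻¹ * (xs (r / 2))⁻¹) (cm_a _ _) (cm_u _ _) (cm4_s _ rfl rfl)
    rw [fc, cm4_r _ m.1 m.2, cm4_r _ rfl rfl, ha, hs, map_div₀, map_ofNat, xa_a, xs_s, map_neg, map_one,
      show -(2 * -1 * (r / 2)) = r by have := h.t2; field_simp] at this
    rw [← this]; have := h.t2; field_simp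
  have hv : ∀ v, (f (xv v)).v = l * k ^ 3 * φ v := fun v => by
    have m := (p3 (xr (v / 3))).2 ⟨rfl, rfl, rfl⟩
    have := ev' ((xa (-1)) * xr (v / 3) * (xa (-1))⁻¹ * (xr (v / 3))⁻¹) (cm_a _ _) (cm_u _ _) (cm4_s _ rfl rfl)
      (by rw [cm4_r _ rfl rfl]; simp)
    rw [fc, cm4_v _ m.1 m.2.1, cm4_v _ rfl rfl, ha, hr, m.2.2, map_div₀, map_ofNat, xa_a, xr_s, xr_r, map_neg, map_one,
      show 3 * -1 * (-1 * 0 - v / 3) = v by have := h.t3; field_simp; ring] at this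
    rw [← this]; have := h.t3; field_simp; ring
  refine ⟨k, l, φ, k0, l0, fun c c' e => ?_⟩
  obtain rfl : f c = c' := h.inj ((hf c).trans e)
  refine ⟨by rw [ea, ha], by rw [eu, hu], fun h1 h2 => ⟨by rw [es c h1 h2, hs], fun h3 => ⟨by rw [er c h1 h2 h3, hr],
    fun h4 => ⟨by rw [ev' c h1 h2 h3 h4, hv], fun h5 => ?_⟩⟩⟩⟩
  have m := (p2 (xv c.z)).2 ⟨rfl, rfl, rfl, rfl⟩
  rw [show c = xu 1 * xv c.z * (xu 1)⁻¹ * (xv c.z)⁻¹ by ext <;> simp [h1, h2, h3, h4, h5], fc, cm3_z _ m.1 m.2.1 m.2.2.1, hl, hv,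
    m.2.2.2, cm3_z _ rfl rfl rfl]
  simp; ring
end C5

end H12.GE
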