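/-
Fusion systems on a Sylow `p`-subgroup of `G₂(q)`, `p ≥ 5`: essential subgroups containing `Z₃`.
-/
import Cfsg.Agent.H12.GE0
import Cfsg.Agent.H12.GE1

set_option autoImplicit false
set_option linter.unusedSectionVars false
set_option linter.unusedSimpArgs false

namespace H12.GE
open Subgroup H25 H25.FS H25.GC H25.GC.Gc
open H8.PU hiding Co
open H29.TD (ff1)
universe u v
variable {K : Type v} [Field K] [Finite K] {Γ : Type u} [Group Γ] [Finite Γ] {p : ℕ} [hp : Fact p.Prime] [CharP K p]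
  {S P A X Y : Subgroup Γ} {ev : Gc K →* Γ} {g w : Γ} {c : Gc K}

theorem C5.p2 (h : C5 S ev) : p ≠ 2 := fun t => h.t2 (by subst t; simpa using CharP.cast_eq_zero K 2)
theorem C5.reg (h : C5 S ev) (hP : P ≤ S) (h1 : ¬ P ≤ (Q1 K).map ev) (h2 : ¬ P ≤ (Q2 K).map ev) :
    ∃ x : Gc K, ev x ∈ P ∧ x.a ≠ 0 ∧ x.u ≠ 0 := by
  obtain ⟨x, hx, a0⟩ := SetLike.not_le_iff_exists.1 h1
  obtain ⟨y, hy, u0⟩ := SetLike.not_le_iff_exists.1 h2
  obtain ⟨x, -, rfl⟩ := h.ex (hP hx)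
  obtain ⟨y, -, rfl⟩ := h.ex (hP hy)
  rw [h.mm, mQ1] at a0
  rw [h.mm, mQ2] at u0
  by_cases k : x.u = 0
  · by_cases k' : y.a = 0
    · exact ⟨x * y, map_mul ev x y ▸ mul_mem hx hy, by simpa [k'] using a0, by simpa [k] using u0⟩
    · exact ⟨y, hy, k', u0⟩
  · exact ⟨x, hx, a0, k⟩
/-- `C_{Q₁}(x Z₁) = Z₂` and `C_{Q₁}(x) = Z₁` for regular `x` -/
theorem C5.cr2 (h : C5 S ev) {x : Gc K} (a0 : x.a ≠ 0) (hw : w ∈ (Q1 K).map ev)
    (k : w * ev x * w⁻¹ * (ev x)⁻¹ ∈ (Z1 K).map ev) : w ∈ (Z2 K).map ev := by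
  b5 h hw c hc
  g5 h [mQ1.1 hc] at k ⊢
  have u0 : c.u = 0 := mul_left_cancel₀ a0 (by linear_combination k.2.1)
  have s0 : c.s = 0 := mul_left_cancel₀ (mul_ne_zero h.t2 a0) (by linear_combination k.2.2.1 + x.a ^ 2 * u0)
  exact ⟨u0, s0, mul_left_cancel₀ (mul_ne_zero h.t3 a0) (by rw [u0, s0] at k; linear_combination k.2.2.2)⟩
theorem C5.cr1 (h : C5 S ev) {x : Gc K} (u0 : x.u ≠ 0) (hw : w ∈ (Z2 K).map ev) (k : ev x * w = w * ev x) :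
    w ∈ (Z1 K).map ev := by
  b5 h hw c hc
  g5 h [] at hc
  g5 h [hc] at k ⊢
  exact mul_left_cancel₀ u0 (by linear_combination k.2)

theorem ef (h : C5 S ev) (e : Es p S P A) (h3 : (Z3 K).map ev ≤ P) : P ≤ (Q1 K).map ev ∨ P ≤ (Q2 K).map ev := by
  by_contra! n
  obtain ⟨x, hx, a0, u0⟩ := h.reg e.le n.1 n.2
  have f2 := h.frZ2 e.pP h3 e.le n.1 (h.frZ1 e.pP (h.l23.trans h3) e.le n.2)
  have h2 := h.l23.trans h3
  have n1 : A ≤ nz ((Z1 K).map ev) := fun g hg => nz_of_cz (fun w => ⟨fun k => ⟨h2 (h.l12 k),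
    cz_anti e.le (h.cS1.symm.cz k)⟩, fun ⟨k1, k2⟩ => h.cr1 u0 (h.cr2 a0 (h.l31 (h.cZ3 (e.le k1) (cz_anti h3 k2)))
      (cm_of_cz k2 _ hx)) (mem_cz'.1 k2 _ hx)⟩) (e.An hg) (e.An hg)
  have n2 : A ≤ nz ((Z2 K).map ev) := fun g hg => nz_of_char (fun w => ⟨fun k => ⟨h2 k, h.cS2.symm.cm k e.le le_rfl⟩,
    fun ⟨k1, k2⟩ => h.cr2 a0 (h.cQ1 (e.le k1) (k2.mono h3 le_rfl)) (k2 _ hx)⟩) (e.An hg) (e.An hg) (n1 hg)
  have nQ : A ≤ nz (P ⊓ cz ((Z2 K).map ev)) := fun g hg => mem_nz_inf (e.An hg) (mem_nz_cz (n2 hg))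
  have n3 : A ≤ nz ((Z3 K).map ev) := fun g hg => nz_of_char (fun w => ⟨fun k => ⟨mem_inf.2 ⟨h3 k, h.c2Z.cz (h.l32 k)⟩,
    h.cS3.symm.cm k e.le le_rfl⟩, fun ⟨k1, k2⟩ => by
      have := h.cZ2 (e.le k1.1) k1.2
      b5 h this c hc
      have k := k2 _ hx
      g5 h [mQ2.1 hc] at k ⊢
      have a1 : c.a = 0 := mul_left_cancel₀ u0 (by linear_combination -k.2.1)
      exact ⟨a1, mul_left_cancel₀ (mul_ne_zero h.t2 a0) (by rw [a1] at k; linear_combination k.2.2)⟩⟩) (nQ hg) (e.An hg) (n2 hg)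
  have h4 : (Z4 K).map ev ≤ P := fun y hy => e.ch [(Z3 K).map ev] ⟨⟨h3, n3⟩, trivial⟩ (h.le _ hy)
    (h.cS4.symm.nz' e.le h3 hy) ⟨h.cS4.symm.cm hy e.le le_rfl, h.c11.cm (h.l41 hy) h.l31 (h.l12.trans f2)⟩
  exact e.nS fun s hs => e.ch [(Z4 K).map ev, (Z3 K).map ev] ⟨⟨h4, fun g hg => nz_of_char (fun w => ⟨fun k =>
    ⟨mem_inf.2 ⟨h4 k, h.c42.cz k⟩, h.c11.cm (h.l41 k) h.l31 le_rfl⟩, fun ⟨k1, k2⟩ => h.cZ4 (h.cZ2 (e.le k1.1) k1.2) k2⟩)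
    (nQ hg) (n3 hg) (n1 hg)⟩, ⟨h3, n3⟩, trivial⟩ hs (h.nS h4 e.le hs)
    ⟨h.cSS.cm hs e.le le_rfl, h.cS4.cm hs le_rfl le_rfl, h.cS3.cm hs le_rfl f2⟩

theorem ed (h : C5 S ev) (e : Es p S P A) (gn : Gen S P A) (h3 : (Z3 K).map ev ≤ P) (h1 : P ≤ (Q1 K).map ev) :
    P = (Q1 K).map ev := by
  have z := h.Z1P e.toAu
  refine le_antisymm h1 (by_contra fun n => ?_)
  have k : ¬ (Z1 K).map ev ≤ fr P := fun c => n fun x hx =>
    e.ch [] trivial (h.le _ hx) (h.c11.nz' h1 z hx) (h.c11.cm hx h1 c)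
  have e3 : P = (Z3 K).map ev := le_antisymm (fun w hw => by
    have := h1 hw
    b5 h this c hc
    have u0 : c.u = 0 := by_contra fun u0 => k (h.Zle u0 fun _ => cm_fr e.pP hw (h3 (by g5 h [])))
    exact h.mm.2 ⟨hc, u0, by_contra fun s0 => k (h.Zle' hc u0 s0 fun _ => cm_fr e.pP hw (h3 (by g5 h [])))⟩) h3
  subst e3
  obtain ⟨b, hb, k⟩ := (dff S _ A ((Z4 K).map ev) _ e gn (h.le _) ((h.le _).trans h.nZ3) (fun c => by
      have := c (show ev (xs 1) ∈ _ by g5 h [])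
      g5 h [] at this
      exact one_ne_zero this) (h.c11.mono h.l41 h.l41 z) (fun b hb => z (h.pw1 (h.l41 hb))) (h.c11.mono h.l41 h1 le_rfl) z
    ((h.idx (h.le _) Gc.z fun c c' k k' e => by
      rw [show c' = c by g5 h [] at k k'; g5 h [k, k', e], inv_mul_cancel]; exact one_mem _).trans
      (le_idx (fun s => ev (xs s)) (fun s => by g5 h []) fun s s' k => by
        g5 h [] at k; linear_combination -k))).nm _ (h.mS (xa 1)) (h.nZ3 (h.mS _))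
  b5 h hb d hd
  g5 h [hd.1] at k
  exact one_ne_zero k.1

theorem ee0 (h : C5 S ev) (e : Es p S P A) (gn : Gen S P A) (h3 : (Z3 K).map ev ≤ P) (h2 : P ≤ (R2 K).map ev) :
    P ≤ (Q1 K).map ev := by
  by_contra n
  obtain ⟨x, hx, a0⟩ := SetLike.not_le_iff_exists.1 n
  have := h2 hx
  b5 h this x hx'
  rw [h.mm, mQ1] at a0
  have zv : ∀ X, (∀ y ∈ P, ∀ y' ∈ P, y * y' * y⁻¹ * y'⁻¹ ∈ X) → (Zv K).map ev ≤ X := fun X k => h.up bot_le fun d hd =>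
    ⟨_, k _ hx (ev (xr (-d.v / (3 * x.a)))) (h3 (by g5 h [])), by
      have := h.t3
      rw [mem_bot, inv_mul_eq_one, cm_eq]; g5 h [] at hd hx'; g5 h [hd, hx']; field_simp; cg⟩
  have f1 := zv _ fun _ k _ => cm_fr e.pP k
  obtain rfl : P = (R2 K).map ev := le_antisymm h2 fun y hy =>
    e.ch [] trivial (h.le _ hy) (h.cRR.nz' h2 (f1.trans (fr_le _)) hy) (h.cRR.cm hy h2 f1)
  have c2 := h.c22.mono le_rfl le_rfl h3
  have n2 := c2.nz' h.lR2 le_rfl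
  have ns : ev (xs 1) ∉ (R2 K).map ev := by g5 h []; exact one_ne_zero
  have pw : ∀ x ∈ (R2 K).map ev, x ^ p ∈ (Zv K).map ev := fun x hx => by
    b5 h hx c hc
    exact ev.map_pow c p ▸ h.mm.2 ⟨pw_add Gc.a (fun _ _ _ _ => rfl) hc, pw_add Gc.u (fun _ _ _ _ => rfl) hc,
      pw_add Gc.s (fun _ k _ _ => by simp [mR2.1 k]) hc, pw_add Gc.r (fun _ k _ _ => by simp [mR2.1 k]) hc,
      pw_add Gc.z (fun _ k _ _ => by simp [mR2.1 k]) hc⟩
  have f := ff1 S _ A ((Q2 K).map ev) _ ((Z2 K).map ev) ((Z3 K).map ev) [] [] e gn (h.le _) n2 c2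
    (fun b hb => h3 (h.pw2 hb)) h.l23 h3 le_rfl e.An (fun g hg => nz_of_cz (fun w => ⟨fun k => ⟨h3 (h.l23 k),
      cz_anti h.lR2 (h.c2Z.symm.cz k)⟩, fun ⟨k1, k2⟩ => by
        have := h.cZ3 (h.le _ k1) (cz_anti h3 k2)
        b5 h this c hc
        have := mem_cz'.1 k2 (ev (xa 1)) (by g5 h [])
        g5 h [] at hc
        g5 h [hc] at this ⊢
        gr5 h⟩) (e.An hg) (e.An hg)) (h.cRR.mono le_rfl le_rfl h.lv2) (fun x hx => h.lv2 (pw x hx))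
    (h.cS3.mono (h.le _) le_rfl le_rfl) ((h.idx (h.le _) Gc.a fun c c' k k' e => by
      g5 h [] at k k'; g5 h [k, k', e]).trans (le_idx (fun a => ev (xs a)) (fun a => by g5 h []) fun a a' k => by
      g5 h [] at k; linear_combination -k)) trivial trivial
    ⟨ev (xs 1), by g5 h [], ns, cm_nz (n2 (by g5 h [])), h.c2Z.cm (by g5 h []) le_rfl bot_le⟩
  have := f.qd h.p2 _ h.lv2 ((show ⁅_, _⁆ = (Zv K).map ev from le_antisymm (commutator_le.2 h.cRR)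
      (zv _ fun _ k _ => commutator_mem_commutator k)) ▸ nz_le_nz_commutator e.An e.An) h.cRR pw
    (h.c2Z.mono (fun y hy => let ⟨b, hb, k⟩ := f.nm y hy.1 hy.2; (mul_mem_cancel_left (inv_mem hb)).1 (h.lR2 k)) le_rfl bot_le)
    _ (h.mS (xs 1)) (n2 (by g5 h [])) _ (h.mS (xs 1)) (n2 (by g5 h [])) (ev (xa 1)) (by g5 h [])
  g5 h [] at this
  exact mul_ne_zero h.t2 h.t3 (by linear_combination -this.2.2)

theorem ee (h : C5 S ev) (e : Es p S P A) (gn : Gen S P A) (h3 : (Z3 K).map ev ≤ P) (h2 : P ≤ (Q2 K).map ev)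
    (h1 : ¬ P ≤ (Q1 K).map ev) : P = (Q2 K).map ev := by
  refine le_antisymm h2 (by_contra fun n => ?_)
  obtain ⟨x, hx, a0⟩ := SetLike.not_le_iff_exists.1 h1
  obtain ⟨x, -, rfl⟩ := h.ex (e.le hx)
  rw [h.mm, mQ1] at a0
  have u0 : ∀ c, ev c ∈ P → c.u = 0 := fun c hc => h.mm.1 (h2 hc)
  obtain ⟨y, hy, k⟩ : ∃ y : Gc K, ev y ∈ P ∧ x.a * y.s - y.a * x.s ≠ 0 := by
    by_contra! k
    refine h1 (h.conj_map (xu (x.s / x.a)) h.nQ1 ▸ ee0 (h.conj _) e gn ((h.conj_map _ h.nZ3).symm ▸ h3) fun y hy => ?_)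
    obtain ⟨c, -, rfl⟩ := h.ex (e.le hy)
    refine ⟨(xu (x.s / x.a))⁻¹ * c * xu (x.s / x.a), ?_, by simp [mul_assoc]⟩
    g5 h [u0 c hy]
    field_simp
    linear_combination k c hy
  have f2 : (Z2 K).map ev ≤ fr P := h.up bot_le fun d hd => ⟨_, mul_mem
    (cm_fr e.pP hx (h3 (show ev (xr ((y.a * d.z - y.s * d.v) / (3 * (x.a * y.s - y.a * x.s)))) ∈ _ by g5 h [])))
    (cm_fr e.pP hy (h3 (show ev (xr ((x.s * d.v - x.a * d.z) / (3 * (x.a * y.s - y.a * x.s)))) ∈ _ by g5 h []))), by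
      have := h.t3
      rw [mem_bot, inv_mul_eq_one]; g5 h [] at hd; g5 h [hd, u0 x hx, u0 y hy]
      field_simp; cg⟩
  have c2 := h.c22.mono le_rfl le_rfl h3
  have df := dff S P A _ _ e gn (h.le _) (c2.nz' h2 le_rfl) n c2 (fun b hb => h3 (h.pw2 hb)) (h.c22.mono le_rfl h2 le_rfl) h3
  have st : ∀ c : Gc K, ev c ∈ P → c.a ≠ 0 ∨ c.s ≠ 0 → ∀ t, ev (el (t * c.a) 0 (t * c.s) 0) ∈ P := fun c k0 on t => by
    have nf := fun {b} (hb : b ∈ (Q2 K).map ev) => nz_le_nz_fr P (c2.nz' h2 le_rfl hb)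
    let X : Subgroup Γ :=
      { carrier := {b | b ∈ (Q2 K).map ev ∧ ev c * b * (ev c)⁻¹ * b⁻¹ ∈ fr P}
        one_mem' := ⟨one_mem _, by simp⟩
        mul_mem' := fun k k' => ⟨mul_mem k.1 k'.1, by simpa [mul_assoc] using mul_mem k.2 (conj_mem_of_mem_nz (nf k.1) k'.2)⟩
        inv_mem' := fun k => ⟨inv_mem k.1, by simpa [mul_assoc] using conj_mem_of_mem_nz' (nf k.1) (inv_mem k.2)⟩ }
    have PX : P ≤ X := fun y hy => ⟨h2 hy, cm_fr e.pP k0 hy⟩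
    have XQ : X ≤ (Q2 K).map ev := fun _ k => k.1
    have i1 : (fr P).relIndex ((Z3 K).map ev) ≤ X.relIndex ((Q2 K).map ev) :=
      idx_le (fun b => ev c * b * (ev c)⁻¹ * b⁻¹) (fun d hd => by
        b5 h hd d hc
        have := h.t2
        g5 h [] at hc
        rcases on with on | on
        · exact ⟨ev (xs (-d.r / (2 * c.a))), by g5 h [], f2 (by g5 h [hc, u0 c k0]; field_simp; cg)⟩
        · exact ⟨ev (xa (d.r / (2 * c.s))), by g5 h [], f2 (by g5 h [hc, u0 c k0]; field_simp; cg)⟩) fun b hb b' _ k => by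
        simpa [mul_assoc] using conj_mem_of_mem_nz (nf hb) k.2
    have i2 : X.relIndex ((Q2 K).map ev) ≤ P.relIndex ((Q2 K).map ev) := relIndex_le_of_le_left PX index_ne_zero_of_finite
    have i3 : P = X := eq_of_le_of_card_ge PX (Nat.le_of_mul_le_mul_left (((Nat.mul_le_mul_right _
      ((df (i1.trans i2)).eq.ge.trans i1)).trans_eq (H1.relIndex_mul_card XQ)).trans_eq (H1.relIndex_mul_card h2).symm)
      (Nat.pos_of_ne_zero index_ne_zero_of_finite))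
    exact i3.ge ⟨by g5 h [], f2 (by g5 h [u0 c k0]; cg)⟩
  refine n fun w hw => ?_
  b5 h hw c hc
  refine (mul_mem_cancel_left (inv_mem (mul_mem (st x hx (.inl a0) ((c.a * y.s - y.a * c.s) / (x.a * y.s - y.a * x.s)))
    (st y hy (by by_contra! m; simp [m] at k) ((x.a * c.s - c.a * x.s) / (x.a * y.s - y.a * x.s)))))).1 (h3 ?_)
  g5 h [mQ2.1 hc]
  field_simp; cg

end H12.GE
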