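/-
Fusion systems on a Sylow `p`-subgroup of `G₂(q)`, `p ≥ 5`: essential subgroups not containing `Z₃`.
-/
import Cfsg.Agent.H12.GE2

set_option autoImplicit false
set_option linter.unusedSectionVars false
set_option linter.unusedSimpArgs false

namespace H12.GE
open Subgroup H25 H25.FS H25.GC H25.GC.Gc
open H8.PU hiding Co
open H29.TD (ff1)
universe u v
variable {K : Type v} [Field K] [Finite K] {Γ : Type u} [Group Γ] [Finite Γ] {p : ℕ} [hp : Fact p.Prime] [CharP K p]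
  {S P A X Y : Subgroup Γ} {ev : Gc K →* Γ} {g w n : Γ} {c : Gc K} {k l : K}

theorem mi1 {e f : Gc K} : e * f⁻¹ ∈ Z1 K ↔ e.a = f.a ∧ e.u = f.u ∧ e.s = f.s ∧ e.r = f.r ∧ e.v = f.v :=
  ⟨fun h => by
    obtain ⟨z, rfl⟩ : ∃ z, e = z * f := ⟨e * f⁻¹, by simp⟩
    rw [mul_inv_cancel_right, mZ1] at h
    simp [h], fun h => by simp [mZ1, h]; cg⟩
theorem cm1 {c d : Gc K} : c * d * c⁻¹ * d⁻¹ ∈ Z1 K ↔ d.a * c.u = c.a * d.u ∧
    2 * d.a * c.s + d.a ^ 2 * c.u = 2 * c.a * d.s + c.a ^ 2 * d.u ∧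
    3 * d.a * c.r + 3 * d.a ^ 2 * c.s + d.a ^ 3 * c.u = 3 * c.a * d.r + 3 * c.a ^ 2 * d.s + c.a ^ 3 * d.u := by
  rw [mul_assoc, ← mul_inv_rev, mi1]
  simp only [mul_a, mul_u, mul_s, mul_r, mul_v]
  exact ⟨fun h => ⟨by linear_combination h.2.2.1, by linear_combination h.2.2.2.1, by linear_combination h.2.2.2.2⟩,
    fun h => ⟨add_comm _ _, add_comm _ _, by linear_combination h.1, by linear_combination h.2.1, by linear_combination h.2.2⟩⟩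
theorem C5.pwr (h : C5 S ev) (hP : P ≤ S) (hg : g ∈ nz P) (ag : Agree P g n) (L : Lc ev n k l (.refl K)) (hc : ev c ∈ P)
    (m : ℕ) : ∃ c', g ^ m * ev c * (g ^ m)⁻¹ = ev c' ∧ c'.a = k ^ m * c.a ∧ c'.u = l ^ m * c.u := by
  induction m with
  | zero => exact ⟨c, by simp⟩
  | succ m ih =>
    obtain ⟨d, e, e1, e2⟩ := ih
    have m1 := e ▸ conj_mem_of_mem_nz (pow_mem hg m) hc
    obtain ⟨d', -, e'⟩ := h.ex (hP (conj_mem_of_mem_nz hg m1))
    have := L d d' ((ag _ m1).symm.trans e'.symm)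
    exact ⟨d', by rw [pow_succ', cj_mul2, e, e'], by rw [this.1, e1, pow_succ']; simp [mul_assoc],
      by rw [this.2.1, e2, pow_succ']; simp [mul_assoc]⟩
theorem sq_le : ¬ Nat.card (K × K) ≤ Nat.card K := by
  rw [Nat.card_prod]
  have : 1 < Nat.card K := Finite.one_lt_card
  nlinarith

theorem eb (h : C5 S ev) (e : Es p S P A) (gn : Gen S P A) (h2 : (Z2 K).map ev ≤ P) (hQ : P ≤ (Q2 K).map ev)
    (h3 : ¬ (Z3 K).map ev ≤ P) : ∃ d, P = (Ya K).map (ev.comp (MulAut.conj d).toMonoidHom) := by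
  obtain ⟨w, hw, k⟩ := SetLike.not_le_iff_exists.1 fun c : zo p P ≤ (Z3 K).map ev => h3 fun y hy =>
    e.ch [_] ⟨e.zo_n, trivial⟩ (h.le _ hy) (h.cS3.symm.nz' e.le h2 hy) ⟨h.cS3.symm.cm hy e.le fun w hw =>
      ⟨h2 hw, cz_anti hQ (h.c2Z.symm.cz hw), h.pw3 (h.l23 hw)⟩, h.c33.cm hy c bot_le⟩
  have := hQ hw.1
  b5 h this w u0
  have cw := mem_cz'.1 hw.2.1
  by_cases a0 : w.a = 0
  · have s0 : w.s ≠ 0 := fun s0 => k (h.mm.2 ⟨a0, u0, s0⟩)
    have P1 : P ≤ (Q1 K).map ev := fun x hx => by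
      have := hQ hx
      b5 h this c hc
      have := cw _ hx
      g5 h [a0, mQ2.1 u0, mQ2.1 hc] at this ⊢
      exact mul_left_cancel₀ (mul_ne_zero h.t2 s0) (by linear_combination -this.2.1)
    have z := h.l12.trans h2
    have i1 := h.idx (Y := fr P) (h.le (Z1 K)) Gc.z fun c c' k k' e => by
      rw [show c' = c by g5 h [] at k k'; g5 h [k, k', e], inv_mul_cancel]; exact one_mem _
    have i2 := le_idx (B := (Q1 K).map ev) (X := P) (fun x : K × K => ev (el 0 x.1 0 x.2)) (fun s => by g5 h []) fun s s' k => by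
      have e1 := hQ k
      have e2 := cw _ k
      g5 h [] at e1
      g5 h [a0, mQ2.1 u0, e1] at e2
      exact Prod.ext (by linear_combination -e1) (mul_left_cancel₀ (mul_ne_zero h.t3 s0) (by linear_combination -e2.2))
    exact (sq_le (i2.trans ((dff S P A _ _ e gn (h.le _) (h.c11.nz' P1 z) (fun c => by
      have := hQ (c (show ev (xu 1) ∈ _ by g5 h []))
      g5 h [] at this
      exact one_ne_zero this) (h.c11.mono le_rfl le_rfl z) (fun b hb => z (h.pw1 hb)) (h.c11.mono le_rfl P1 le_rfl) z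
      (i1.trans (((Nat.le_mul_self _).trans_eq (Nat.card_prod K K).symm).trans i2))).eq.ge.trans i1))).elim
  let d : Gc K := xu (w.s / w.a) * xs ((w.r - w.a * w.s) / (2 * w.a))
  have h' := h.conj d
  have PY : P ≤ (Ya K).map (ev.comp (MulAut.conj d).toMonoidHom) := fun y hy => by
    have := h.conj_map d h.nQ2 ▸ hQ hy
    b5 h' this c hc
    have := cw _ hy
    rw [show ev w = ev.comp (MulAut.conj d).toMonoidHom (d⁻¹ * w * d) by simp [mul_assoc]] at this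
    obtain ⟨w', e1, e2, e3⟩ : ∃ w', d⁻¹ * w * d = w' ∧ w'.a = w.a ∧ w' ∈ Ya K := ⟨_, rfl, by simp [d], by
      have := h.t2
      g5 h [d, mQ2.1 u0]; field_simp; cg⟩
    rw [e1] at this
    g5 h [] at e3
    g5 h' [e2, e3, mQ2.1 hc] at this ⊢
    have s0 : c.s = 0 := mul_left_cancel₀ (mul_ne_zero h.t2 a0) (by linear_combination this.2.1)
    exact ⟨s0, mul_left_cancel₀ (mul_ne_zero h.t3 a0) (by rw [s0] at this; linear_combination this.2.2.1)⟩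
  exact ⟨d, le_antisymm PY (e.cP (h'.le _) PY h'.caa)⟩

theorem ec (h : C5 S ev) (e : Es p S P A) (h2 : (Z2 K).map ev ≤ P) (hQ : ¬ P ≤ (Q2 K).map ev)
    (h3 : ¬ (Z3 K).map ev ≤ P) : ∃ x : Gc K, ev x ∈ P ∧ x.a ≠ 0 ∧ x.u ≠ 0 ∧ CC P P ((Z1 K).map ev) := by
  have z := h.zo1 e.toAu
  obtain ⟨y, h0, u0⟩ := SetLike.not_le_iff_exists.1 hQ
  obtain ⟨y, -, rfl⟩ := h.ex (e.le h0)
  rw [h.mm, mQ2] at u0
  obtain ⟨x, hx, a0⟩ := SetLike.not_le_iff_exists.1 fun c : zm P (zo p P) ≤ (Q1 K).map ev => h3 fun y hy =>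
    e.ch [_] ⟨e.zm_n e.zo_n.2, trivial⟩ (h.le _ hy) (h.cS3.symm.nz' e.le h2 hy) ⟨h.cS3.symm.cm hy e.le fun w hw =>
      mem_zm.2 ⟨h2 hw, h.cS2.symm.cm hw e.le z⟩, h.c11.cm (h.l31 hy) c (h.frZ1 e.pP h2 e.le hQ)⟩
  obtain ⟨hx, cx⟩ := mem_zm.1 hx
  obtain ⟨x, -, rfl⟩ := h.ex (e.le hx)
  rw [h.mm, mQ1] at a0
  have c1 : ∀ c, ev c ∈ P → x * c * x⁻¹ * c⁻¹ ∈ Z1 K := fun c hc => by
    have k := mem_cz'.1 (cx _ hc).2.1
    have m := h.cSS _ (h.mS x) _ (h.mS c)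
    rw [← h.mm, ← h.mul, ← h.mul, ← h.mul, ← h.inv, ← h.inv]
    refine h.cr1 u0 ?_ (k _ h0)
    have k := k _ hx
    generalize ev x * ev c * (ev x)⁻¹ * (ev c)⁻¹ = w at m k
    b5 h m d hd
    g5 h [] at hd
    g5 h [hd] at k ⊢
    have s0 : d.s = 0 := mul_left_cancel₀ (mul_ne_zero h.t2 a0) (by linear_combination -k.2.1)
    exact ⟨s0, mul_left_cancel₀ (mul_ne_zero h.t3 a0) (by rw [s0] at k; linear_combination -k.2.2.1)⟩
  refine ⟨x, hx, a0, fun c => u0 (by simpa [c, a0] using (cm1.1 (c1 y h0)).1), fun c hc d hd => ?_⟩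
  obtain ⟨c, -, rfl⟩ := h.ex (e.le hc)
  obtain ⟨d, -, rfl⟩ := h.ex (e.le hd)
  obtain ⟨k1, k2, k3⟩ := cm1.1 (c1 c hc)
  obtain ⟨m1, m2, m3⟩ := cm1.1 (c1 d hd)
  rw [h.inv, h.inv, h.mul, h.mul, h.mul, h.mm]
  refine cm1.2 ⟨mul_left_cancel₀ a0 ?_, mul_left_cancel₀ a0 ?_, mul_left_cancel₀ (mul_ne_zero h.t2 a0) ?_⟩
  · linear_combination c.a * m1 - d.a * k1
  · linear_combination c.a * m2 - d.a * k2 + (c.a ^ 2 - c.a * x.a) * m1 - (d.a ^ 2 - d.a * x.a) * k1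
  · linear_combination 2 * c.a * m3 - 2 * d.a * k3 + (3 * c.a ^ 2 - 3 * c.a * x.a) * m2 - (3 * d.a ^ 2 - 3 * d.a * x.a) * k2 +
      (2 * c.a ^ 3 - 3 * c.a ^ 2 * x.a + c.a * x.a ^ 2) * m1 - (2 * d.a ^ 3 - 3 * d.a ^ 2 * x.a + d.a * x.a ^ 2) * k1

theorem tk (h : C5 S ev) (e : Es p S P A) (gn : Gen S P A) (h2 : (Z2 K).map ev ≤ P)
    (hq : ∀ w ∈ P, w ∈ (Q1 K).map ev → w ∈ (Z2 K).map ev) (YZ : Y ≤ (Z1 K).map ev) (nY : A ≤ nz Y) (cP : CC P P Y)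
    (pX : ∀ x ∈ P, x ^ p ∈ Y) {x : Gc K} (hx : ev x ∈ P) (a0 : x.a ≠ 0) : FT S P A P Y ((Z2 K).map ev) ∧
      ∃ g ∈ A, g ∈ nz (ai S P) ∧ ∀ n ∈ nz S, Agree P g n → ∃ k l, Lc ev n k l (.refl K) ∧ l * k ^ 4 = 1 ∧ k ^ 5 ≠ 1 := by
  have n3 := h.cS3.symm.nz' e.le h2
  have f := ft h.p2 [] [] e gn (h.le (Z3 K)) n3 (h.c33.mono le_rfl le_rfl bot_le) (fun b hb => h.pw3 (p := p) hb ▸ one_mem _)
    (YZ.trans h.l12) h2 le_rfl e.An nY cP pX (h.c33.mono le_rfl h.l23 bot_le) ((h.idx e.le Gc.a fun c c' k k' e =>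
      hq _ (mul_mem (inv_mem k) k') (by g5 h [e])).trans (le_idx (fun r => ev (xr r)) (fun s => by g5 h []) fun s s' k => by
      have := hq _ k (by g5 h [])
      g5 h [] at this
      linear_combination -this)) trivial trivial ⟨ev (xr 1), by g5 h [], fun c => by
      have := hq _ c (by g5 h [])
      g5 h [] at this
      exact one_ne_zero this, cm_nz (n3 (by g5 h [])), h.cS1.cm (h.mS _) YZ bot_le⟩
  obtain ⟨g, g1, g2, g3, g4⟩ := f.tor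
  refine ⟨f, g, g1, g2, fun n hn ag => ?_⟩
  obtain ⟨k, l, φ, k0, l0, L⟩ := h.au hn
  obtain ⟨x', -, ex⟩ := h.ex (e.le (conj_mem_of_mem_nz (e.An g1) hx))
  have xa := (L x x' ((ag _ hx).symm.trans ex.symm)).1
  have key : ∀ r, l * k ^ 3 * φ x'.a * φ r = x.a * r := fun r => by
    have := YZ (g4 _ (h.mS (xr r)) (n3 (by g5 h [])) _ hx)
    have m : ev (xr r * x' * (xr r)⁻¹ * x'⁻¹) ∈ (Z2 K).map ev := by g5 h []; cg
    obtain ⟨d, -, ed⟩ := h.ex (e.le (conj_mem_of_mem_nz (e.An g1) (h2 m)))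
    have k := L _ d ((ag _ (h2 m)).symm.trans ed.symm)
    rw [h.mm, mZ2] at m
    have k4 := (k.2.2 m.1 m.2.1).2 m.2.2.1
    rw [← ex, h.inv, h.inv, h.mul, h.mul, h.mul, ← ed] at this
    have v := (k4.2 m.2.2.2).1
    rw [show (xr r * x' * (xr r)⁻¹ * x'⁻¹).v = 3 * (x'.a * r) by simp; ring, map_mul, map_mul, map_ofNat] at v
    g5 h [k.1, k.2.1, (k.2.2 m.1 m.2.1).1, k4.1, m, v] at this
    exact mul_left_cancel₀ h.t3 (by linear_combination -this.2.2)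
  obtain rfl : φ = .refl K := RingEquiv.ext fun r => mul_left_cancel₀ a0 (by
    have := key 1
    rw [map_one] at this
    rw [RingEquiv.refl_apply]
    linear_combination key r - φ r * this)
  refine ⟨k, l, L, mul_left_cancel₀ a0 (by have := key 1; rw [xa] at this; simp at this; linear_combination this), fun k5 => ?_⟩
  have nx : ∀ c : Gc K, c.a ≠ 0 → ev c ∉ (Z2 K).map ev := fun c k k' => k (h.mm.1 k').1
  obtain ⟨m, hm⟩ := g3 _ hx (nx _ a0) (ev x⁻¹) (map_inv ev x ▸ inv_mem hx) (nx _ (neg_ne_zero.2 a0))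
  obtain ⟨c, e1, e2, -⟩ := h.pwr e.le (e.An g1) ag L hx m
  rw [e1] at hm
  g5 h [e2] at hm
  have : k ^ m = -1 := mul_right_cancel₀ a0 (by linear_combination -hm.1)
  have e : (k ^ m) ^ 5 = 1 := by rw [pow_right_comm, k5, one_pow]
  exact h.t2 (by rw [this] at e; linear_combination -e)

/-- the extraspecial case -/
theorem tc (h : C5 S ev) (e : Es p S P A) (gn : Gen S P A) (h2 : (Z2 K).map ev ≤ P) (hQ : ¬ P ≤ (Q2 K).map ev)
    (h3 : ¬ (Z3 K).map ev ≤ P) : ¬ P ≤ (Q1 K).map ev ∧ ∃ g ∈ A, g ∈ nz (ai S P) ∧ ∀ n ∈ nz S, ¬ Agree P g n := by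
  obtain ⟨x, hx, a0, u0, cP⟩ := ec h e h2 hQ h3
  have hq : ∀ w ∈ P, w ∈ (Q1 K).map ev → w ∈ (Z2 K).map ev := fun w k k' => h.cr2 a0 k' (cP _ k _ hx)
  have ta : ∀ c, ev c ∈ P → x.a * c.u = c.a * x.u := fun c hc => by
    have := cP _ hc _ hx
    rw [h.inv, h.inv, h.mul, h.mul, h.mul, h.mm] at this
    exact (cm1.1 this).1
  obtain ⟨-, g, g1, g2, k⟩ := tk h e gn h2 hq le_rfl (fun g hg => nz_of_cz (fun w => ⟨fun k => ⟨h2 (h.l12 k),
    cz_anti e.le (h.cS1.symm.cz k)⟩, fun ⟨k1, k2⟩ => by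
      have := h.cZ2 (e.le k1) (cz_anti h2 k2)
      b5 h this c hc
      exact h.cr1 u0 (hq _ k1 (h.mm.2 (show c.a = 0 by simpa [mQ2.1 hc, u0] using ta c k1))) (mem_cz'.1 k2 _ hx)⟩) (e.An hg) (e.An hg)) cP
    (fun w hw => by
      obtain ⟨c, -, rfl⟩ := h.ex (e.le hw)
      by_cases c0 : c.a = 0
      · exact h.pw1 (h.mm.2 c0)
      · exact h.cr1 (x := c) (fun k => u0 (by simpa [k, c0] using ta c hw)) (hq _ (pow_mem hw p) (h.l41 (h.pwS (h.mS c))))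
          (Commute.self_pow _ _).eq) hx a0
  refine ⟨fun c => a0 (h.mm.1 (c hx)), g, g1, g2, fun n hn ag => ?_⟩
  obtain ⟨k, l, L, e1, e2⟩ := k n hn ag
  obtain ⟨c, e3, e4, e5⟩ := h.pwr e.le (e.An g1) ag L hx 1
  have := ta c (e3 ▸ conj_mem_of_mem_nz (pow_mem (e.An g1) 1) hx)
  rw [e4, e5] at this
  obtain rfl : k = l := mul_left_cancel₀ (mul_ne_zero a0 u0) (by linear_combination -this)
  exact e2 (by linear_combination e1)

/-- the abelian case -/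
theorem ta (h : C5 S ev) (p5 : 5 ≤ p) (q7 : Nat.card K ≠ 7) (e : Es p S P A) (gn : Gen S P A) (n : ¬ (Z2 K).map ev ≤ P) :
    ¬ P ≤ (Q1 K).map ev ∧ ¬ P ≤ (Q2 K).map ev ∧ ∃ g ∈ A, g ∈ nz (ai S P) ∧ ∀ n ∈ nz S, ¬ Agree P g n := by
  have z := h.zo1 e.toAu
  have zP := z.trans zo_le
  have n2 : (Z2 K).map ev ≤ nz P := h.cS2.symm.nz' e.le zP
  have ch : ∀ l, Al P A l → ¬ ∀ x ∈ (Z2 K).map ev, Ch x (fr P) P l := fun l k k' => n fun x hx =>
    e.ch l k (h.le _ hx) (n2 hx) (k' x hx)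
  obtain ⟨w, hw, u0⟩ := SetLike.not_le_iff_exists.1 fun c : zo p P ≤ (Q2 K).map ev => ch [zo p P] ⟨e.zo_n, trivial⟩ fun x hx =>
    ⟨h.cS2.symm.cm hx e.le z, h.c2Z.symm.cm hx c bot_le⟩
  obtain ⟨w, -, rfl⟩ := h.ex (e.le hw.1)
  rw [h.mm, mQ2] at u0
  have cw := mem_cz'.1 hw.2.1
  obtain ⟨b, b1, b2⟩ := SetLike.not_le_iff_exists.1 n
  have i2 := le_idx (B := (Z2 K).map ev) (X := P) (fun v => ev (xv v)) (fun s => by g5 h []) fun s s' k' => by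
    have := cw _ k'
    g5 h [] at this
    exact mul_left_cancel₀ u0 (by linear_combination this.2)
  have H : ∀ R : Prop, ((Z2 K).map ev ≤ S → (Z2 K).map ev ≤ nz P → CC ((Z2 K).map ev) ((Z2 K).map ev) P →
      (∀ b ∈ (Z2 K).map ev, b ^ p ∈ P) → ⊥ ≤ zo p P ⊓ (Q2 K).map ev → zo p P ⊓ (Q2 K).map ev ≤ zo p P → zo p P ≤ P →
      A ≤ nz (zo p P) → A ≤ nz ⊥ → CC P (zo p P) ⊥ → (∀ x ∈ zo p P, x ^ p ∈ (⊥ : Subgroup Γ)) →
      CC ((Z2 K).map ev) (zo p P ⊓ (Q2 K).map ev) ⊥ →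
      (zo p P ⊓ (Q2 K).map ev).relIndex (zo p P) ≤ P.relIndex ((Z2 K).map ev) → Al P A [] → Al P A [] →
      (∃ b ∈ (Z2 K).map ev, b ∉ P ∧ Ch b (zo p P) P [] ∧ Ch b (fr P) ⊥ []) → R) → R := fun R k => k (h.le _) n2
    (h.cS2.mono (h.le _) le_rfl zP) (fun b hb => h.pw3 (p := p) (h.l23 hb) ▸ one_mem _) bot_le inf_le_left zo_le e.zo_n.2
    (fun g _ => nz_bot g) (fun x hx y hy => by simp [mem_cz'.1 hy.2.1 x hx]) (fun x hx => hx.2.2)
    (h.c2Z.symm.mono le_rfl inf_le_right le_rfl) ((h.idx (zo_le.trans e.le) Gc.u fun c c' k k' e =>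
      mem_inf.2 ⟨mul_mem (inv_mem k) k', by g5 h [e]⟩).trans i2) trivial trivial
    ⟨b, b1, b2, h.cS2.symm.cm b1 e.le z, fun y hy => by simp [mem_bot.1 hy]⟩
  have f1 := H _ (ff1 S P A _ _ _ _ [] [] e gn)
  obtain ⟨g, g1, g2, g3, g4⟩ := (H _ (ft h.p2 [] [] e gn)).tor
  have ta : ∀ c, ev c ∈ P → c.a * w.u = w.a * c.u := fun c hc => by
    have := cw _ hc
    g5 h [] at this
    linear_combination -this.2.2.1
  have a0 : w.a ≠ 0 := fun a0 => by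
    have P1 : P ≤ (Q1 K).map ev := fun x hx => by
      obtain ⟨c, -, rfl⟩ := h.ex (e.le hx)
      exact h.mm.2 (show c.a = 0 by simpa [a0, u0] using ta c hx)
    have nm : ∀ c : Gc K, c.a = 0 → ∃ d, ev d ∈ P ∧ d.a = 0 ∧ d.u = c.u ∧ d.s = c.s ∧ d.r = c.r := fun c hc => by
      obtain ⟨b, hb, k⟩ := f1.nm _ (h.mS c) (h.c11.nz' P1 zP (h.mm.2 hc))
      b5 h hb d hd
      refine ⟨d⁻¹ * c, by rwa [h.inv, h.mul] at k, ?_⟩
      g5 h [] at hd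
      g5 h [hd, hc]
    obtain ⟨d, d0, d1, d2, d3, -⟩ := nm (xs 1) rfl
    refine ch [] trivial fun x hx => h.cS2.symm.cm hx e.le (h.up bot_le fun z hz => ?_)
    obtain ⟨d', d0', k'⟩ := nm (xr (-z.z / 3)) rfl
    refine ⟨_, cm_fr e.pP d0 d0', ?_⟩
    rw [mem_bot, inv_mul_eq_one, cm_eq]
    have := h.t3
    g5 h [] at hz d2 d3 k'
    g5 h [hz, d1, d2, d3, k']
    field_simp; cg
  refine ⟨fun c => a0 (h.mm.1 (c hw.1)), fun c => u0 (h.mm.1 (c hw.1)), g, g1, g2, fun n hn ag => ?_⟩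
  obtain ⟨k, l, φ, k0, l0, L⟩ := h.au hn
  obtain ⟨x', -, ex⟩ := h.ex (e.le (conj_mem_of_mem_nz (e.An g1) hw.1))
  have xa := L w x' ((ag _ hw.1).symm.trans ex.symm)
  have key : ∀ v, l ^ 2 * k ^ 3 * φ x'.u * φ v = w.u * v := fun v => by
    have := g4 _ (h.mS (xv v)) (n2 (by g5 h [])) _ hw
    have m : ev (xv v * x' * (xv v)⁻¹ * x'⁻¹) ∈ (Z1 K).map ev := by g5 h []; cg
    obtain ⟨d, -, ed⟩ := h.ex (e.le (conj_mem_of_mem_nz (e.An g1) (zP m)))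
    have k := L _ d ((ag _ (zP m)).symm.trans ed.symm)
    rw [h.mm, mZ1] at m
    have z := (((k.2.2 m.1 m.2.1).2 m.2.2.1).2 m.2.2.2.1).2 m.2.2.2.2
    rw [← ex, h.inv, h.inv, h.mul, h.mul, h.mul, ← ed, mem_bot, inv_mul_eq_one, h.inv w, h.mul, h.mul, h.mul,
      h.inj.eq_iff] at this
    rw [this, show (xv v * x' * (xv v)⁻¹ * x'⁻¹).z = -(x'.u * v) by simp; ring,
      show (xv v * w * (xv v)⁻¹ * w⁻¹).z = -(w.u * v) by simp; ring, map_neg, map_mul] at z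
    linear_combination z
  obtain rfl : φ = .refl K := RingEquiv.ext fun r => mul_left_cancel₀ u0 (by
    have := key 1
    rw [map_one] at this
    rw [RingEquiv.refl_apply]
    linear_combination key r - φ r * this)
  have e1 := ta x' (ex ▸ conj_mem_of_mem_nz (e.An g1) hw.1)
  have e2 := key 1
  simp only [xa.1, xa.2.1, RingEquiv.refl_apply] at e1 e2
  obtain rfl : k = l := mul_left_cancel₀ (mul_ne_zero a0 u0) (by linear_combination e1)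
  have k6 : k ^ 6 = 1 := mul_left_cancel₀ u0 (by linear_combination e2)
  classical
  have on := (Subtype.val_injective.bijective_of_nat_card_le (i2.trans (f1.eq.ge.trans (h.idx (zo_le.trans e.le)
    (ι := {y // ∃ c, ev c ∈ zo p P ∧ c.u = y}) (fun c => if k : ev c ∈ zo p P then ⟨c.u, c, k, rfl⟩ else ⟨_, w, hw, rfl⟩)
    fun c c' k k' e => mem_inf.2 ⟨mul_mem (inv_mem k) k', by
      rw [dif_pos k, dif_pos k'] at e; g5 h [Subtype.mk.inj e]⟩)))).2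
  have nx : ∀ c : Gc K, c.u ≠ 0 → ev c ∉ zo p P ⊓ (Q2 K).map ev := fun c k k' => k (h.mm.1 k'.2)
  have := Fintype.ofFinite K
  have d6 := (FiniteField.forall_pow_eq_one_iff K 6).1 fun y => by
    obtain ⟨⟨_, c, hc, rfl⟩, ec⟩ := on (y * w.u)
    obtain ⟨m, hm⟩ := g3 _ hw (nx _ u0) _ hc (nx _ ((show c.u = _ from ec) ▸ mul_ne_zero y.ne_zero u0))
    obtain ⟨d, e1, -, e2⟩ := h.pwr e.le (e.An g1) ag L hw.1 m
    have := (mem_inf.1 hm).2
    rw [e1] at this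
    g5 h [e2, show c.u = _ from ec] at this
    refine Units.ext ?_
    rw [Units.val_pow_eq_pow_val, show (y : K) = k ^ m from mul_right_cancel₀ u0 (by linear_combination this), pow_right_comm,
      k6, one_pow, Units.val_one]
  obtain ⟨m, -, hm⟩ := FiniteField.card K p
  have := (Nat.le_self_pow m.ne_zero p).trans_eq hm.symm
  have := (by decide : ∀ n < 7, n ∣ 6 → n ≤ 3 ∨ n = 6) _ (Nat.lt_succ_of_le (Nat.le_of_dvd (by norm_num) d6)) d6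
  rw [Nat.card_eq_fintype_card] at q7
  omega

end H12.GE
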