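/-
Fusion systems on a Sylow `p`-subgroup of `G₂(q)`, `p ≥ 5`, `q ≠ 7`: the essential subgroups.
-/
import Cfsg.Agent.H12.GE3
import Cfsg.Agent.H25.GC1
import Cfsg.Agent.H29.TD3

set_option autoImplicit false
set_option linter.unusedSectionVars false
set_option linter.unusedSimpArgs false

namespace H12.GE
open Subgroup H25 H25.FS H25.GC H25.GC.Gc
open H8.PU hiding Co
open H29.TD (gen')
universe u v
variable {K : Type v} [Field K] [Finite K] {Γ : Type u} [Group Γ] [Finite Γ] {p : ℕ} [hp : Fact p.Prime] [CharP K p]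
  {F : FS Γ} {P Z Q Q' : Subgroup Γ} {ev : Gc K →* Γ} {g : Γ}

/-- extension to `S` of an automorphism normalizing the Sylow subgroup -/
theorem exS (hF : F.Sat p) (nZ : nz F.S ≤ nz Z) (nQ : nz F.S ≤ nz Q) (nQ' : nz F.S ≤ nz Q')
    (no : ∀ E, F.Ess E → Z ≤ E → E ≤ Q ∨ E ≤ Q') (hP : F.Ess P) (h1 : Z ≤ F.N P) (h2 : ¬ P ≤ Q) (h3 : ¬ P ≤ Q')
    (hg : g ∈ F.A P) (hn : g ∈ nz (ai F.S P)) : ∃ k ∈ nz F.S, Agree P g k := by
  obtain ⟨a, T, ag⟩ := (hF.rec_fn hP.fn).ext (T_of_mem_A hP.le hg) (cj_eq_of_mem_A hg) le_rfl (cj_le_n (inf_nz_le_ai _ _) hn)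
  obtain ⟨k, hk, e⟩ := hF.alperin (M := fun R a => Z ≤ R → ¬ R ≤ Q → ¬ R ≤ Q' → ∃ k ∈ nz F.S, Agree R a k)
    (fun R a b _ _ m m' k1 k2 k3 => by
      obtain ⟨k, hk, e⟩ := m k1 k2 k3
      obtain ⟨k', hk', e'⟩ := m' (e.cj_eq ▸ mem_nz.1 (nZ hk) ▸ cj_mono k k1)
        (fun c => k2 (cj_le_cj.1 (e.cj_eq ▸ c.trans (mem_nz.1 (nQ hk)).ge)))
        fun c => k3 (cj_le_cj.1 (e.cj_eq ▸ c.trans (mem_nz.1 (nQ' hk)).ge))
      exact ⟨_, mul_mem hk' hk, e.mul e'⟩)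
    (fun R a b _ m e k1 k2 k3 => let ⟨k, hk, e'⟩ := m k1 k2 k3; ⟨k, hk, e.trans e'⟩)
    (fun E hE a ha R hR k1 k2 k3 => hE.elim (fun c => ⟨a, c ▸ ha.1, .refl _ _⟩) fun c =>
      ((no E c (k1.trans hR)).elim (fun c => k2 (hR.trans c)) fun c => k3 (hR.trans c)).elim)
    _ a T (h1.trans le_sup_right) (fun c => h2 (le_sup_left.trans c)) fun c => h3 (le_sup_left.trans c)
  exact ⟨k, hk, ag.symm.trans (e.mono le_sup_left)⟩

theorem ya (hF : F.Sat p) (h : C5 F.S ev) : ¬ F.Ess ((Ya K).map ev) := fun hP => by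
  have nR : F.N ((Ya K).map ev) ≤ (R2 K).map ev := fun t ht => by
    have := conj_mem_of_mem_nz ht.2 (show ev (xa 1) ∈ _ by g5 h [])
    have m := ht.1
    b5 h m c hc
    g5 h [] at this ⊢
    have u0 : c.u = 0 := by linear_combination this.1
    exact ⟨u0, mul_left_cancel₀ h.t2 (by rw [u0] at this; linear_combination this.2)⟩
  by_cases E2 : F.Ess ((Q2 K).map ev)
  · obtain ⟨g, hg, n⟩ := h.ne2 (es_of hF E2)
    obtain ⟨c, hc, k⟩ : ∃ c ∈ (Z4 K).map ev, g * c * g⁻¹ ∉ (Z4 K).map ev := by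
      by_contra! m
      exact n (mem_nz_of_conj_mem m)
    obtain ⟨d, u0, ed⟩ := conj_mem_of_mem_nz hg.1 (h.l42 hc)
    have a0 : d.a ≠ 0 := fun a0 => k (ed ▸ h.mm.2 ⟨a0, u0⟩)
    have m := mul_mem (F.N_le_A _ ⟨h.mS (xu (d.s / d.a))⁻¹, h.nQ2 (h.mS _)⟩) hg
    obtain ⟨d', e1, a1, e3⟩ : ∃ d', ev (xu (d.s / d.a))⁻¹ * g * c * (ev (xu (d.s / d.a))⁻¹ * g)⁻¹ = ev d' ∧ d'.a ≠ 0 ∧
        d' ∈ R2 K := ⟨_, by rw [cj_mul2, ← ed, h.inv, h.mul, h.mul], by simpa using a0, by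
      g5 h [mQ2.1 u0]; field_simp; cg⟩
    generalize ev (xu (d.s / d.a))⁻¹ * g = g at m e1
    have n3 := h.q2Z3 m.1
    have zv : (Zv K).map ev ≤ cj g ((Z1 K).map ev) := h.up bot_le fun z hz => ⟨_, conj_mem_cj g (h.c11 _ (h.l41 hc) _
      (h.l31 (conj_mem_of_mem_nz' n3 (show ev (xr (-z.v / (3 * d'.a))) ∈ _ by g5 h [])))), by
        have := h.t3
        rw [cj_cm, e1, mem_bot, inv_mul_eq_one, show ∀ x, g * (g⁻¹ * x * g) * g⁻¹ = x from fun x => by group, cm_eq]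
        g5 h [] at hz e3; g5 h [hz, e3]; field_simp; cg⟩
    have l4 : cj g⁻¹ ((Ya K).map ev) ≤ (Z4 K).map ev := cj_le.2 fun y hy =>
      h.cZ4 (conj_mem_of_mem_nz (inv_mem m.1) (h.lR2 (h.laR hy))) fun x hx => by
        simpa [mul_assoc] using mem_cj.1 (zv (h.cRR _ (h.laR hy) _ (h.l3R (conj_mem_of_mem_nz n3 hx))))
    have i := (card_le_of_le (le_inf (h.le _) (h.c11.nz' (l4.trans h.l41) (h.l12.trans
      ((mem_nz.1 (inv_mem (h.q2Z2 m.1))).ge.trans (cj_mono _ h.l2a)))))).trans ((hP.fn.2 _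
      ((T_of_mem_A E2.le (inv_mem m)).mono (h.laR.trans h.lR2))).trans (card_le_of_le nR))
    rw [← relIndex_bot_left, ← relIndex_bot_left] at i
    have := (le_idx (fun x : K × K × K × K × K => ev ⟨0, x.1, x.2.1, x.2.2.1, x.2.2.2.1, x.2.2.2.2⟩) (fun _ => h.mm.2 rfl)
      fun x y k => by
        have := h.inj (inv_mul_eq_one.1 (mem_bot.1 k))
        simpa [Prod.ext_iff] using this).trans (i.trans (h.idx (h.le _) (fun c => (c.a, c.r, c.v, c.z)) fun c c' k k' e => by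
      rw [show c' = c by g5 h [] at k k'; simp only [Prod.mk.injEq] at e; g5 h [k, k', e], inv_mul_cancel]; exact one_mem _))
    rw [Nat.card_prod] at this
    have q : 1 < Nat.card K := Finite.one_lt_card
    nlinarith [Nat.card_pos (α := K × K × K × K)]
  obtain ⟨A, hA, e, gn⟩ := gen' (es_of hF hP)
  have x : ev (xa 1) ∈ (Ya K).map ev := by g5 h []
  obtain ⟨f, g, g1, g2, k⟩ := tk h e gn h.l2a (fun w k k' => by
      b5 h k c hc
      exact h.mm.2 ⟨h.mm.1 k', hc⟩) bot_le (fun g _ => nz_bot g) h.caa (fun w hw => by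
      b5 h hw c hc
      rw [mem_bot, ← ev.map_pow, h.eq1]
      exact Gc.ext (pw_add Gc.a (fun _ _ _ _ => rfl) hc) (pw_add Gc.u (fun _ _ _ _ => rfl) hc)
        (pw_add Gc.s (fun _ k _ _ => by simp [mYa.1 k]) hc) (pw_add Gc.r (fun _ k _ _ => by simp [mYa.1 k]) hc)
        (pw_add Gc.v (fun _ k _ _ => by simp [mYa.1 k]) hc)
        (pw_add Gc.z (fun _ k _ _ => by simp [mYa.1 k]) hc)) x one_ne_zero
  have n1 : ¬ (Ya K).map ev ≤ (Q1 K).map ev := fun c => one_ne_zero (h.mm.1 (c x))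
  obtain ⟨n, hn, ag⟩ := exS hF (fun _ => h.gZ3) (fun _ => h.gQ1) (fun _ => h.gQ1) (fun E hE h3 => .inl (by_contra fun c =>
    let ⟨_, _, e, gn⟩ := gen' (es_of hF hE); E2 (ee h e gn h3 ((ef h e h3).resolve_left c) c ▸ hE))) hP
    (le_inf (h.le _) (h.cS3.symm.nz' e.le h.l2a)) n1 n1 (hA g1) g2
  obtain ⟨k, l, L, e1, e2⟩ := k n hn ag
  obtain ⟨t, t1, t2, y, hy, fx⟩ := f.fx (ev (xz 1)) (by g5 h [])
  obtain ⟨d, hd, ed⟩ := h.cRR _ (nR ⟨t1, t2⟩) _ (h.laR hy)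
  have fx := mul_inv_eq_one.1 (mem_bot.1 (fx g g1))
  rw [← ed, h.inv, h.mul] at fx
  g5 h [] at hd
  have := L _ _ ((ag _ (by g5 h [hd])).symm.trans fx)
  g5 h [hd, forall_const] at this
  by_cases v0 : d.v = 0
  · exact e2 (by linear_combination (l * k ^ 4 + 1) * e1 - k ^ 5 * this.2 v0)
  · have : l * k ^ 3 = 1 := mul_right_cancel₀ v0 (by linear_combination -this.1)
    exact e2 (by rw [show k = 1 by linear_combination e1 - k * this, one_pow])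

theorem es : ES K Γ p := fun p5 q7 F ev hF h0 P hP => by
  have h := c5_of h0 p5
  have h3 : ∀ E, F.Ess E → (Z3 K).map ev ≤ E → E ≤ (Q1 K).map ev ∨ E ≤ (Q2 K).map ev := fun E hE => ef h (es_of hF hE)
  have h2 : ∀ E, F.Ess E → (Z2 K).map ev ≤ E → E ≤ (Q1 K).map ev ∨ E ≤ (Q2 K).map ev := fun E hE k => by
    by_contra! c
    obtain ⟨A, hA, e, gn⟩ := gen' (es_of hF hE)
    obtain ⟨-, g, g1, g2, n⟩ := tc h e gn k c.2 fun m => (h3 E hE m).elim c.1 c.2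
    obtain ⟨a, ha, ag⟩ := exS hF (fun _ => h.gZ3) (fun _ => h.gQ1) (fun _ => h.gQ2) h3 hE
      (le_inf (h.le _) (h.cS3.symm.nz' e.le k)) c.1 c.2 (hA g1) g2
    exact n a ha ag
  obtain ⟨A, hA, e, gn⟩ := gen' (es_of hF hP)
  have z2 : (Z2 K).map ev ≤ P := by_contra fun c => by
    obtain ⟨c1, c2, g, g1, g2, n⟩ := ta h p5 q7 e gn c
    obtain ⟨a, ha, ag⟩ := exS hF (fun _ => h.gZ2) (fun _ => h.gQ1) (fun _ => h.gQ2) h2 hP
      (le_inf (h.le _) (h.cS2.symm.nz' e.le (h.Z1P e.toAu))) c1 c2 (hA g1) g2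
    exact n a ha ag
  have z3 : (Z3 K).map ev ≤ P := by_contra fun c => by
    by_cases hQ : P ≤ (Q2 K).map ev
    · obtain ⟨d, rfl⟩ := eb h e gn z2 hQ c
      exact ya hF (h.conj d) hP
    · exact (h2 P hP z2).elim (tc h e gn z2 hQ c).1 hQ
  by_cases c : P ≤ (Q1 K).map ev
  · exact .inl (ed h e gn z3 c)
  · exact .inr (ee h e gn z3 ((h3 P hP z3).resolve_left c) c)

end H12.GE
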