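import Cfsg.Agent.H7.GP1
import Cfsg.Agent.H0.Sec
import Mathlib.Algebra.Group.ForwardDiff

/-! Maximal class: counting zero levels, and quadratic action. -/

set_option autoImplicit false
set_option linter.unusedSectionVars false

namespace H12.GP
open Subgroup H25 H4 H4.G3 H7.GP H24.NE Polynomial Module Finset
open scoped commutatorElement

universe u
variable {p : ℕ} [hp : Fact p.Prime]

theorem zeros {W ν : ℕ} (hW : W ≤ p) (A : ℕ → ℕ → ZMod p) (rec : ∀ k a, a + k + 1 < W → A (k + 1) a = A k a - A k (a + 1))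
    (van : ∀ a, a + ν + 1 < W → A (ν + 1) a = 0) {b : ℕ} (hb : b < W) (ne : A 0 b ≠ 0) :
    ((range W).filter fun a => A 0 a = 0).card ≤ ν := by
  have d : ∀ k a, a + k < W → (fwdDiff 1)^[k] (A 0) a = (-1) ^ k * A k a := fun k => by
    induction k with
    | zero => simp
    | succ k ih =>
      intro a h
      rw [Function.iterate_succ_apply', fwdDiff, ih _ (by omega), ih _ (by omega), rec k a h]; ring
  have z : ∀ k a, a + (ν + 1 + k) < W → A (ν + 1 + k) a = 0 := fun k => by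
    induction k with
    | zero => exact van
    | succ k ih => exact fun a h => (rec (ν + 1 + k) a h).trans (by rw [ih _ (by omega), ih _ (by omega), sub_zero])
  set g : (ZMod p)[X] := ∑ k ∈ range (ν + 1), C ((fwdDiff 1)^[k] (A 0) 0 * (k.factorial : ZMod p)⁻¹) * descPochhammer _ k
  have e : ∀ r < W, g.eval (r : ZMod p) = A 0 r := fun r hr => by
    have := shift_eq_sum_fwdDiff_iter 1 (A 0) r 0
    rw [zero_add, smul_eq_mul, mul_one] at this
    rw [this, eval_finset_sum, sum_subset (range_mono (le_add_right le_rfl : r + 1 ≤ r + 1 + ν)) fun k _ h => by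
      rw [Nat.choose_eq_zero_of_lt (by simpa using h), zero_smul]]
    refine sum_subset_zero_on_sdiff (range_mono (by omega)) (fun k hk => ?_) fun k _ => ?_
    · obtain ⟨k, rfl⟩ := Nat.exists_eq_add_of_le (show ν + 1 ≤ k by simpa using (mem_sdiff.1 hk).2)
      rcases le_or_gt (ν + 1 + k) r with h | h
      · rw [d _ _ (by omega), z _ _ (by omega), mul_zero, smul_zero]
      · rw [Nat.choose_eq_zero_of_lt h, zero_smul]
    rw [eval_mul, eval_C, descPochhammer_eval_eq_descFactorial, Nat.descFactorial_eq_factorial_mul_choose, nsmul_eq_mul]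
    rcases le_or_gt k r with h | h
    · have : (k.factorial : ZMod p) ≠ 0 := mt (ZMod.natCast_eq_zero_iff _ _).1 (mt hp.out.dvd_factorial.1 (by omega))
      push_cast; field_simp
    · simp [Nat.choose_eq_zero_of_lt h]
  have g0 : g ≠ 0 := fun h => ne (by rw [← e b hb, h, eval_zero])
  have dg : g.natDegree ≤ ν := natDegree_sum_le_of_forall_le _ _ fun k hk =>
    (natDegree_C_mul_le _ _).trans ((descPochhammer_natDegree _ k).le.trans (mem_range_succ_iff.1 hk))
  refine (card_image_of_injOn (f := fun a : ℕ => (a : ZMod p)) fun a ha c hc h => ?_).ge.trans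
    ((card_le_degree_of_subset_roots fun x hx => ?_).trans dg)
  · have := mem_range.1 (mem_filter.1 ha).1
    have := mem_range.1 (mem_filter.1 hc).1
    exact CharP.natCast_injOn_Iio (ZMod p) p (by simp; omega) (by simp; omega) h
  · obtain ⟨a, ha, rfl⟩ := mem_image.1 (mem_def.2 hx)
    exact (mem_roots g0).2 ((e a (mem_range.1 (mem_filter.1 ha).1)).trans (mem_filter.1 ha).2)

theorem zc : ZC.{u} := fun {Γ} _ _ p n _ P t lc V y j c ν o hc hj w hy Vj hV ne h0 => by
  classical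
  obtain ⟨D, D1, D2, h1, h2⟩ := o.exD (o.sh0 hy) ne
  obtain ⟨b, b1, b2, b3⟩ := o.exco h1 hc h2
  have k : ∀ k, it (t 0) k y ∈ P 1 ∧ Sh P c j (D + k) (it (t 0) k y) := fun k => by
    induction k with
    | zero => exact ⟨hy, h1⟩
    | succ k ih =>
      rw [it, Function.iterate_succ_apply']
      exact ⟨o.up (o.act _ _ ih.1 _ (o.mem 0)) one_le_two, o.leib ih.1 ih.2⟩
  have z := zeros (W := c - D - j) (ν := ν) (by omega) (fun k a => co t lc (it (t 0) k y) (D + k) (j + a)) (fun i a h => by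
    rw [it, Function.iterate_succ_apply']
    exact o.leib' (D := D + i) (k i).1 (k i).2 hc hj (by omega) (by omega)) (fun a h =>
      o.zero (by omega) (o.up (h0 _ (o.up (o.mem _) (by omega))) (by omega))) (b := b - j) (by omega)
    (by rwa [show j + (b - j) = b by omega])
  have s : ∀ r, j + r + D ≤ c → Nat.card V ≤ Nat.card (V ⊓ P (j + r) : Subgroup Γ) *
      p ^ ((range r).filter fun a => co t lc y D (j + a) = 0).card := fun r => by
    induction r with
    | zero => simp [inf_eq_left.2 Vj]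
    | succ r ih =>
      intro h
      refine (ih (by omega)).trans ?_
      rw [range_add_one, filter_insert]
      split_ifs with q
      · rw [card_insert_of_notMem (by simp), pow_succ', ← mul_assoc, ← H4.card_inf_mul_relIndex _ (P (j + r + 1)), inf_assoc,
          inf_eq_right.2 (o.anti (j + r).le_succ)]
        refine Nat.mul_le_mul_right _ (Nat.mul_le_mul_left _ ((relIndex_le_of_le_right inf_le_right
          FiniteIndex.index_ne_zero).trans (Nat.le_of_mul_le_mul_left ?_ (Nat.card_pos (α := P (j + r + 1))))))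
        rw [H4.card_mul_relIndex (o.anti (j + r).le_succ)]
        exact o.card_le _
      · refine Nat.mul_le_mul_right _ (card_le_of_le (le_inf inf_le_left fun v hv => by_contra fun m => q ?_))
        have := o.co_lin h1 hc (by omega) (by omega) hv.2
        rw [o.zero (by omega) (o.up (hV v hv.1) (by omega))] at this
        exact (mul_eq_zero.1 this.symm).resolve_left (o.ne hv.2 m)
  exact ⟨V ⊓ P (j + (c - D - j)), inf_le_left, fun v hv => o.shv (k ν).2 (by omega) hv.2 (by omega) le_rfl,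
    (s _ (by omega)).trans (Nat.mul_le_mul_left _ (Nat.pow_le_pow_right ‹Fact p.Prime›.out.pos z))⟩

theorem heis {G V : Type*} [Group G] [AddCommGroup V] [Module (ZMod p) V] {ρ : G →* End (ZMod p) V} {s t y : G} {d m : ℕ} {v₀ : V}
    {c : ZMod p} {q : (ZMod p)[X]} (cy : Cy (ρ s - 1) d v₀) (dp : d < p) (hy : y * s * y⁻¹ = t * s)
    (c2 : ρ (y * t * y⁻¹) = ρ t) (hm : m + 1 ≤ d) (hc : c ≠ 0) (e : ρ t - 1 = (ρ s - 1) ^ (m + 1) * Un (ρ s - 1) c q) :
    d + 2 ≤ 2 * (m + 1) := by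
  have i1 : ρ y⁻¹ * ρ y = 1 := by rw [← map_mul, inv_mul_cancel, map_one]
  have i2 : ρ y * ρ y⁻¹ = 1 := by rw [← map_mul, mul_inv_cancel, map_one]
  have f3 := conj_pw ρ y s 1
  have f4 := conj_pw ρ y t 1
  set f := X ^ (m + 1) * (C c + X * q) with hf
  have f5 : ρ (t * s) - 1 = aeval (ρ s - 1) (X + f * (1 + X)) := by
    rw [map_add, map_mul _ f, ← nu_eq, ← e]; simp [sub_mul]
  rw [pow_one, pow_one] at f3 f4
  rw [c2, e, nu_eq, ← ae_conj i1 i2, ← f3, hy, f5, ← aeval_comp] at f4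
  obtain ⟨k, hk⟩ := binomExpansion (f.map C) X (f * (1 + X))
  have cd : ∀ a b : (ZMod p)[X], eval₂ C b a = a.comp b := fun _ _ => rfl
  simp only [derivative_map, eval_map, cd, comp_X] at hk
  rw [← hf, hk, add_assoc, map_add, left_eq_add] at f4
  by_contra hn
  have := cy.uniq (m := 2 * m + 1) (c := ((m + 1 : ℕ) : ZMod p) * c ^ 2) (c' := 0) (q' := 0)
    (q := ((m + 1 : ℕ) : (ZMod p)[X]) * (C c ^ 2 + (1 + X) * q * (2 * C c + X * q)) +
      (1 + X) * (C c + X * q) * derivative (C c + X * q) + k * (1 + X) ^ 2 * (C c + X * q) ^ 2) (by omega) (by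
      rw [nu_eq, nu_eq, C_0, mul_zero, add_zero, mul_zero, map_zero, ← f4]
      congr 1
      rw [hf, derivative_mul, derivative_X_pow, C_mul, C_pow, map_natCast C, Nat.add_sub_cancel]
      generalize derivative (C c + X * q) = D
      ring)
  refine mul_ne_zero ?_ (pow_ne_zero 2 hc) this
  rw [Ne, ZMod.natCast_eq_zero_iff]
  exact Nat.not_dvd_of_pos_of_lt (by omega) (hm.trans_lt dp)

theorem ql : QL.{u} := fun {Γ} _ _ p n _ P t lc M E X H V i j u c d o r T => by
  have cn := r.gap.le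
  have ⟨j1, i2, ic, dc⟩ : 1 ≤ j ∧ 2 ≤ i ∧ i + 2 ≤ c ∧ j + d < c := ⟨r.j1, r.i2, r.ic, r.dc⟩
  have ex := r.ex _ (o.mem i) (o.nm (by omega))
  have ej : ⁅t i, t j⁆ ∉ P (j + d + 1) := fun h => o.nm (by omega) (ex j le_rfl dc _ (o.mem j) h)
  rcases le_or_gt j i with h | h
  · have : c ≤ i + d := not_lt.1 fun q => o.nm (by omega) (ex i h q _ (o.mem i) (by simp))
    have : i + 1 ≤ d := not_lt.1 fun q => ej (o.shv (o.shT (j := j) T j1 (by omega) (o.mem i)) le_rfl (o.mem j) (by omega) dc)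
    omega
  have tr : ∀ {y a}, y ∈ P a → i + 1 ≤ a → ∀ w ∈ P j, ⁅y, w⁆ ∈ P c := fun hy q =>
    (r.ci _ (o.up hy (by omega))).1 (o.up hy q)
  obtain ⟨v, hv, nv⟩ := SetLike.not_le_iff_exists.1 r.Vj'
  have cp := o.om j1 (r.Vj hv) nv cn (r.el.pw v hv)
  obtain ⟨W, _, _, π, ρ, S⟩ := H0.exists_sec (p := p) (D := P 0) (o.anti (show j ≤ c by omega)) (o.nz0 j) (o.nz0 c)
    (commutator_le.2 fun x hx => tr hx h) fun x hx => o.up (o.pow j (by omega) x hx) (by omega)
  have ac : ∀ g : P 0, ∀ w ∈ P j, (ρ g - 1) (π w) = π ⁅(g : Γ), w⁆ := fun g w hw => by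
    rw [LinearMap.sub_apply, ← S.conj g w hw, End.one_apply, sub_eq_iff_eq_add,
      ← S.add _ (o.up (o.act' hw g.2) j.le_succ) _ hw, commutatorElement_def, inv_mul_cancel_right]
  have on : ∀ g : P 0, (∀ w ∈ P j, ⁅(g : Γ), w⁆ ∈ P c) → ρ g = 1 := fun g q => sub_eq_zero.1 (LinearMap.ext fun e => by
    obtain ⟨w, hw, rfl⟩ := S.surj e
    exact (ac g w hw).trans ((S.ker _ (o.up (o.act' hw g.2) j.le_succ)).2 (q w hw)))
  set s : P 0 := ⟨t 0, o.mem 0⟩
  have pw : ∀ k, ∀ w ∈ P j, ∃ x ∈ P (j + k), ((ρ s - 1) ^ k) (π w) = π x ∧ (w ∉ P (j + 1) → j + k < n → x ∉ P (j + k + 1)) :=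
    fun k w hw => by
    induction k with
    | zero => exact ⟨w, hw, rfl, fun q _ => q⟩
    | succ k ih =>
      obtain ⟨x, x1, x2, x3⟩ := ih
      exact ⟨_, o.act' x1 (o.mem 0), by rw [pow_succ', End.mul_apply, x2, ac s x (o.up x1 (by omega))], fun q q' m =>
        x3 q (by omega) (o.un_s (j + k) (by omega) q' x x1 (comm_symm m))⟩
  have cy : Cy (ρ s - 1) (c - j - 1) (π (t j)) := by
    refine ⟨LinearMap.ext fun e => ?_, ?_, fun e => ?_⟩
    · obtain ⟨w, hw, rfl⟩ := S.surj e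
      obtain ⟨x, x1, x2, -⟩ := pw (c - j - 1 + 1) w hw
      exact x2.trans ((S.ker _ (o.up x1 (by omega))).2 (o.up x1 (by omega)))
    · obtain ⟨x, x1, x2, x3⟩ := pw (c - j - 1) _ (o.mem j)
      exact fun q => x3 (o.nm (by omega)) (by omega) (o.up ((S.ker _ (o.up x1 (by omega))).1 (x2 ▸ q)) (by omega))
    · obtain ⟨w, hw, rfl⟩ := S.surj e
      have : Finite W := S.finite
      obtain ⟨f, e⟩ := (S.mem_grp.1 (o.le_inv (Y := S.grp (LinearMap.range
        (LinearMap.applyₗ (π (t j)) ∘ₗ (aeval (ρ s - 1)).toLinearMap))) ((S.mem_norm_grp (g := s)).2 (by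
          rintro _ ⟨f, rfl⟩
          exact ⟨(Polynomial.X + 1) * f, by simp⟩)) ((S.grp_le _).trans (o.anti j1))
        (S.mem_grp.2 ⟨o.mem j, 1, by simp⟩) (o.nm (by omega)) hw)).2
      exact ⟨f, e.symm⟩
  obtain ⟨i, rfl⟩ : ∃ k, i = k + 1 := ⟨i - 1, by omega⟩
  set x : P 0 := ⟨t (i + 1), o.le _ (o.mem _)⟩
  have cm : ∀ g : P 0, ⁅(g : Γ), t (i + 1)⁆ ∈ P (i + 1 + 1) → ρ (g * x * g⁻¹) = ρ x := fun g q => by
    rw [show g * x * g⁻¹ = ⁅g, x⁆ * x by simp [commutatorElement_def], map_mul, on ⁅g, x⁆ (tr q le_rfl), one_mul]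
  have t0 := ac x _ (o.mem j)
  have m0 : ⁅t (i + 1), t j⁆ ∈ P j := o.up (o.act' (o.mem j) x.2) j.le_succ
  have cs : Commute (ρ s) (ρ x) := by
    rw [Commute, SemiconjBy, ← map_mul, ← inv_mul_cancel_right (s * x) s, map_mul, cm s (o.act' (o.mem _) s.2)]
  obtain ⟨f, hf⟩ := cy.comm (A := ρ x - 1) (((cs.sub_left (Commute.one_left _)).sub_right (Commute.one_right _)).symm)
  obtain ⟨m, hm, a, q, ha, e⟩ := cy.dec f (hf ▸ fun e => ej (o.up ((S.ker _ m0).1 (by rw [← t0, e]; rfl)) dc))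
  rw [← hf] at e
  have md : m ≤ d := not_lt.1 fun k => by
    obtain ⟨w, hw, e'⟩ := S.surj (Un (ρ s - 1) a q (π (t j)))
    obtain ⟨z, z1, z2, -⟩ := pw m w hw
    rw [e, End.mul_apply, ← e', z2, eq_comm, S.eq_iff m0 (o.up z1 (by omega))] at t0
    exact ej ((mul_mem_cancel_right (inv_mem (o.up z1 (by omega)))).1 (o.up t0 dc))
  rcases m with _ | m
  · have k := o.up (o.mem (c - 1)) (show j ≤ c - 1 by omega)
    have := ac x _ k
    rw [(S.ker _ (o.up (o.act' k x.2) j.le_succ)).2 (o.up (o.act' (o.mem _) x.2) (by omega)), e, pow_zero, one_mul] at this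
    exact absurd (o.up ((S.ker _ k).1 (by simpa using (cy.un_VV (j := 0) ha).1 (by simpa using this))) (by omega))
      (o.nm (a := c - 1) (by omega))
  have := heis (y := ⟨t i, o.le _ (o.mem _)⟩) cy (by omega) (Subtype.ext (by
    simp [x, s, o.succ i (by omega), commutatorElement_def])) (cm _ (o.up (o.cm0 _ _ _ (o.mem i) _ (o.mem _)) (by omega))) hm ha e
  omega

end H12.GP
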