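import Cfsg.Agent.H12.Lin

/-! Extending maps on independent families to automorphisms; affine maps from triples. -/

set_option maxHeartbeats 400000
open Module

namespace H12

variable {F : Type*} [Field F] {V : Type*} [AddCommGroup V] [Module F V]

theorem exists_equiv_of_li [FiniteDimensional F V] {ι : Type*} {x y : ι → V}
    (hx : LinearIndependent F x) (hy : LinearIndependent F y) :
    ∃ A : V ≃ₗ[F] V, ∀ i, A (x i) = y i := by
  obtain ⟨A, h⟩ := Submodule.exists_linearEquiv_restrict_eq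
    ((Basis.span hx).equiv (Basis.span hy) (Equiv.refl _))
  exact ⟨A, fun i => by
    have := h (Basis.span hx i)
    rwa [Basis.equiv_apply, Basis.coe_span_apply, Basis.coe_span_apply, eq_comm] at this⟩

theorem exists_SLV_agree [FiniteDimensional F V] {W : Submodule F V} (hW : W ≠ ⊤) (A : V ≃ₗ[F] V) :
    ∃ B ∈ SLV F V, ∀ w ∈ W, B w = A w := by
  obtain ⟨v, hv⟩ := exists_not_mem_of_ne_top hW
  obtain ⟨φ, h1, h2⟩ := exists_dual_eq_one hv
  obtain ⟨g, h3, h4⟩ := exists_dil_det h2 (LinearEquiv.det A)⁻¹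
  exact ⟨A * g, show LinearEquiv.det _ = 1 by simp [h4], fun w hw => by simp [h3, h1 w hw]⟩

/-- A permutation agreeing on each triple with an affine map is affine (characteristic `≠ 2`). -/
theorem affine_of_triples (h2 : (2 : F) ≠ 0) (σ : Equiv.Perm V)
    (h : ∀ t : Fin 3 → V, ∃ (A : V ≃ₗ[F] V) (b : V), ∀ i, σ (t i) = A (t i) + b) :
    ∃ (A : V ≃ₗ[F] V) (b : V), ∀ x, σ x = A x + b := by
  have h1 : ∀ (s : F) x y, σ (x + s • (y - x)) = σ x + s • (σ y - σ x) := fun s x y => by
    obtain ⟨A, b, e⟩ := h ![x, y, x + s • (y - x)]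
    have e0 := e 0
    have e1 := e 1
    have e2 := e 2
    simp only [Matrix.cons_val] at e0 e1 e2
    simp only [e0, e1, e2, map_add, map_smul, map_sub]
    module
  have h3 : ∀ (s : F) x, σ (s • x) - σ 0 = s • (σ x - σ 0) := fun s x => by
    simpa [sub_eq_iff_eq_add'] using h1 s 0 x
  let f : V →ₗ[F] V := ⟨⟨fun x => σ x - σ 0, fun x y => by
    have e1 := h3 2 (x + (2 : F)⁻¹ • (y - x))
    rw [h1, smul_add, smul_inv_smul₀ h2, show (2 : F) • x + (y - x) = x + y by module] at e1
    rw [e1, add_sub_right_comm, smul_add, smul_inv_smul₀ h2]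
    module⟩, h3⟩
  exact ⟨LinearEquiv.ofBijective f (σ.trans (Equiv.subRight (σ 0))).bijective, σ 0,
    fun x => (sub_add_cancel _ _).symm⟩

end H12
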