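import Cfsg.Agent.H4.MF1
import Cfsg.Agent.H25.Gen
import Cfsg.Agent.H28.GC10

/-! Minimal `2`-fusion systems, pushing-up case: the Baumann subgroup (chunks P0, P1, SV, LOC, CMK). -/

set_option autoImplicit false
set_option linter.unusedVariables false
set_option linter.unusedSectionVars false

namespace H12.MF
open Subgroup H25 H25.FS H4.MF
open Cfsg (pCoreOf omegaOneCenter)
open H29.PU (bm zj)
open H29.BB (CM Amb)
open H28.GC (Bk Pr)

section gen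
variable {Γ : Type} [Group Γ] {F N : FS Γ} {B D G P Q R S U V : Subgroup Γ} {a c g h k : Γ}

theorem nf_conj (hU : U ≤ F.S) (t : F.T (F.N U) g) (H : (F.NF U).T P a) :
    (F.NF (cj g U)).T (cj g P) (g * a * g⁻¹) := by
  obtain ⟨l, h, hh, H', e⟩ := (NF_T hU).1 H
  have l1 : P ⊔ U ≤ F.N U := sup_le l (le_N hU)
  refine (NF_T ((cj_mono g (le_N hU)).trans t.cj_le)).2 ⟨(cj_mono g l).trans (t.cj_N_le inf_le_right), g * h * g⁻¹,
    cj_nz g U ▸ conj_mem_cj g hh, ?_, e.conj g⟩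
  rw [← cj_sup]
  exact H'.conj t l1 (le_inf H'.cj_le (cj_le_of_mem hh (l1.trans inf_le_right)))

theorem back (t : N.T R g) (H : N.T (cj g P) (g * a * g⁻¹)) (h1 : P ≤ R) (h2 : cj a P ≤ R) : N.T P a := by
  have := H.conj t.inv (cj_mono g h1) (by rw [cj_conj_cj]; exact cj_mono g h2)
  rwa [cj_inv_cj, show g⁻¹ * (g * a * g⁻¹) * g⁻¹⁻¹ = a by group] at this

theorem nf_le_of_cj (le : N ≤ F) (hU : U ≤ F.S) (t : N.T (F.N U) g) (h : F.NF (cj g U) ≤ N) : F.NF U ≤ N :=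
  fun P a H => back t (h _ _ (nf_conj hU (t.of_le le) H)) H.le H.cj_le

theorem nf_le_nf (hU : U ≤ F.S) (h1 : V ≤ U) (h2 : ∀ g ∈ nz U, F.T U g → g ∈ nz V) : F.NF U ≤ F.NF V := fun P a H => by
  obtain ⟨l, h, hh, H', e⟩ := (NF_T hU).1 H
  exact (H'.toNK (h2 h hh (H'.mono le_sup_right)) le_sup_left (h1.trans le_sup_right)
    fun x hx => h2 x (l hx).2 (F.of_mem hU (l hx).1)).congr e

theorem sg_of_nf (h : F.NF V ≤ N) : Sg F N V := fun P g h1 h2 t hc =>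
  h _ _ (t.toNK (cz_le_nz V hc) le_rfl h1 h2)

theorem sg_of_cj (le : N ≤ F) (hU : U ≤ F.S) (t : N.T (F.N U) g) (h : Sg F N (cj g U)) : Sg F N U :=
  fun P c h1 h2 H hc => by
    have l1 : P ≤ F.N U := le_inf H.le h2
    have l2 : cj c P ≤ F.N U := le_inf H.cj_le (cj_le_of_mem (cz_le_nz U hc) h2)
    exact back t (h _ _ (cj_mono g h1) (cj_nz g U ▸ cj_mono g h2) (H.conj (t.of_le le) l1 l2)
      (cj_cz g U ▸ conj_mem_cj g hc)) l1 l2

theorem sh_cj (h : Sh F N R V) (t : F.T (R ⊔ V) g) : Sh F N (cj g R) (cj g V) := fun k H => by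
  rw [cj_cj]; exact h _ (t.mul (cj_sup g R V ▸ H))

theorem ky_cj (k : Ky F N B) (t : F.T B g) : Ky F N (cj g B) :=
  ⟨t.cj_le, mt cj_eq_bot.1 k.ne, fun h H S hS l => by
    rw [cj_cj] at l ⊢; exact k.key _ (t.mul H) S hS l⟩

theorem ky_bm (k : Ky F N B) (hS : Pm F N S) (l : B ≤ S) : bm 2 S = B := by
  simpa using k.key 1 (one k.le) S hS (by simpa using l)

theorem cj_bm (g : Γ) (S : Subgroup Γ) : cj g (bm 2 S) = bm 2 (cj g S) := H29.BB.cj_bm g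
theorem cj_Ω (g : Γ) (S : Subgroup Γ) : cj g (omegaOneCenter 2 S) = omegaOneCenter 2 (cj g S) :=
  H28.cj_omegaOneCenter g S
theorem cj_O (g : Γ) (S : Subgroup Γ) : cj g (pCoreOf 2 S) = pCoreOf 2 (cj g S) := H28.cj_pCoreOf g S
theorem nz_bm (S : Subgroup Γ) : nz S ≤ nz (bm 2 S) := H29.PU.nrm_bm le_rfl
theorem nz_Ω (S : Subgroup Γ) : nz S ≤ nz (omegaOneCenter 2 S) := H28.normalizer_le_normalizer_omegaOneCenter 2 S
theorem nz_O (S : Subgroup Γ) : S ≤ nz (pCoreOf 2 S) := H28.le_normalizer_pCoreOf 2 S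

variable [Finite Γ]

/-- the invariant maximized in the choice of `B` -/
noncomputable def inv3 (P : Subgroup Γ) : ℕ ×ₗ ℕ ×ₗ ℕ :=
  toLex (Nat.card (H9.exists_maxAb 2 P).choose, toLex (Nat.card (H9.JJ 2 P), Nat.card (bm 2 P)))

theorem inv3_cj (g : Γ) (P : Subgroup Γ) : inv3 (cj g P) = inv3 P := by
  have e1 : Nat.card (H9.exists_maxAb 2 (cj g P)).choose = Nat.card (H9.exists_maxAb 2 P).choose :=
    ((H9.exists_maxAb 2 (cj g P)).choose_spec.card_eq ((H9.exists_maxAb 2 P).choose_spec.conj g)).trans (card_cj _ _)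
  have e2 : H9.JJ 2 (cj g P) = cj g (H9.JJ 2 P) := (H9.cj_JJ g P).symm
  rw [inv3, inv3, e1, e2, ← cj_bm, card_cj, card_cj]

theorem bm_of_inv3 (l : bm 2 P ≤ S) (h4 : inv3 S ≤ inv3 P) : bm 2 S = bm 2 P := by
  have h1 := (H9.exists_maxAb 2 P).choose_spec
  have h2 := (H9.exists_maxAb 2 S).choose_spec
  have j := H29.PU.JJ_le_bm.trans l
  have h3 := h2.card_le (h1.le_JJ.trans j) h1.abE
  simp only [inv3, Prod.Lex.toLex_le_toLex] at h4
  obtain ⟨h5, h4⟩ := h4.resolve_left h3.not_gt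
  have h6 := H9.JJ_mono_of_mem j (h2.of_card_le (h1.le_JJ.trans j) h1.abE h5.le) h1.le_JJ
  rw [H9.JJ_JJ] at h6
  obtain ⟨h7, h4⟩ := h4.resolve_left (card_le_of_le h6).not_gt
  refine (eq_of_le_of_card_ge (le_inf l ?_) h4).symm
  rw [zj, ← eq_of_le_of_card_ge h6 h7.le]; exact inf_le_right

theorem eq_of_nz (hS : IsPGroup 2 S) (l : P ≤ S) (h : S ⊓ nz P ≤ P) : P = S :=
  l.eq_or_lt.resolve_right fun c => (lt_inf_nz_of_lt hS c).not_ge h

theorem cen_of_nf (hF : F.Sat 2) (hU : F.FN U) (l : U ≤ Q) (h : (F.NF U).Centric Q) : F.Centric Q := by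
  have l1 : Q ≤ F.N U := h.le
  refine ⟨l1.trans inf_le_left, fun g t => ?_⟩
  obtain ⟨k, tk, e, -⟩ := hF.exists_N_map hU (t.mono l).inv (cj_inv_cj g U)
  have l2 : cj g Q ≤ F.N (cj g U) := t.cj_N_le (l1.trans inf_le_right)
  have l3 : F.C (cj g Q) ≤ F.N (cj g U) := (inf_le_inf_left _ (cz_anti (cj_mono g l))).trans (F.C_le_N _)
  have := h.2 (k * g) ((t.mul' tk l2).toNK (mem_nz.2 (by rw [← cj_cj, e])) le_rfl l (l1.trans inf_le_right))
  rw [← cj_cj] at this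
  refine cj_le_cj.1 (le_trans (le_inf ?_ ?_) this)
  · exact e ▸ (cj_mono k l3).trans (tk.cj_N_le inf_le_right)
  · rw [← cj_cz]; exact cj_mono k inf_le_right

variable (hF : F.Sat 2) (hN : N.Sat 2) (le : N ≤ F) (eS : N.S = F.S)
include hF hN le eS

theorem step1 (hU : F.FN U) (hc : (F.NF U).Constr 2) (h1 : V ≤ U) (h2 : U ≤ nz V) (s : Sg F N V) : Sg F N U := by
  intro P c l1 l2 t hc'
  have n1 : (F.NF U).Nm U := nm_NF hU.le
  have n2 := n1.sup ((nm_core _).inf_sc n1.sc_C)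
  have z : (F.NF U).Centric (U ⊔ (F.NF U).core ⊓ (F.NF U).C U) := n2.wc.centric fun x hx => by
    have x1 : x ∈ (F.NF U).C U := ⟨hx.1, cz_anti le_sup_left hx.2⟩
    exact mem_sup_right ⟨hc.C_inf_core_le n1.sc_C ⟨x1, cz_anti ((inf_comm _ _).le.trans le_sup_right) hx.2⟩, x1⟩
  obtain ⟨h, -, H, e⟩ := n2.2 P c (t.toNK (cz_le_nz U hc') le_rfl l1 l2)
  replace H := H.of_le (NK_le _ _ _)
  refine ((hF.T_of_centric hN le eS (cen_of_nf hF hU le_sup_left z) le_sup_right H (s _ _ (h1.trans le_sup_left)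
    (sup_le h2 (inf_le_right.trans (inf_le_right.trans ((cz_anti h1).trans (cz_le_nz V))))) (H.mono le_sup_right)
    (cz_anti h1 ?_))).mono le_sup_left).congr e
  exact agree_one_iff.1 ((e.mono l1).symm.trans (agree_one_iff.2 hc'))

theorem ext (s : Sh F N R U) (hR : R ≤ F.N U) (l1 : U ≤ P) (l2 : P ≤ nz U) (t : F.T P a) (t' : N.T U a) : N.T P a := by
  obtain ⟨k, tk, fn⟩ := hN.exists_FN t'.le
  have lP : P ≤ N.N U := le_inf (eS ▸ t.le) l2
  obtain ⟨h, th, e⟩ := (hN.rec_fn fn).ext (R := cj a P) (t'.inv.mul' tk (by rw [cj_inv_cj]; exact le_N t'.le))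
    (by rw [cj_cj, inv_mul_cancel_right]) (le_inf (eS ▸ t.cj_le) (cj_nz a U ▸ cj_mono a l2)) (by
      rw [cj_cj, inv_mul_cancel_right]
      exact ((cj_mono k lP).trans (tk.cj_N_le inf_le_right)).trans (inf_nz_le_ai _ _))
  replace th := th.mono (le_sup_right : cj a P ≤ _)
  have tk' := tk.mono lP
  have := s k ((tk.of_le le).mono (sup_le (le_inf (hR.trans (inf_le_left.trans eS.ge)) (hR.trans inf_le_right)) (le_N t'.le))) (cj k P) (h * a * k⁻¹) (cj_mono k l1)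
    (cj_nz k U ▸ cj_mono k l2) (by
      rw [mul_assoc]
      exact ((tk'.of_le le).inv.mul' t (cj_inv_cj k P).le).mul' (th.of_le le) (by rw [cj_cj, inv_mul_cancel_right]))
    (mem_cz.2 fun x hx => by
      obtain ⟨u, hu, rfl⟩ := mem_cj'.1 hx
      have := e _ (conj_mem_cj a hu)
      calc _ = h * (a * u * a⁻¹) * h⁻¹ := by group
        _ = _ := by rw [this]; group)
  have := tk'.mul this
  rw [inv_mul_cancel_right] at this
  exact this.cancel_left th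

end gen

variable {n : ℕ} {F N : FS (Univ n)} {B D G P Q R S U V : Subgroup (Univ n)} {a c g k : Univ n}

theorem p0 (n : ℕ) : P0 n := fun F N h => by
  obtain ⟨P, hP, m⟩ := Set.exists_max_image {P | Pm F N P ∧ P ≠ ⊥} inv3 (Set.toFinite _) (by
    by_contra e
    refine h.ne (h.sat.le_of_ess fun Q hQ a ha => ?_)
    have l := (h.sat.cr_of_ess hQ).1.le
    by_cases c : Q = ⊥
    · exact of_cz (h.eS ▸ l) (by simp [c])
    · by_contra k
      exact e ⟨Q, ⟨l, Q, c, l, le_nz_self Q, fun m => k (m _ _ ((T_of_mem_A l ha).toNK ha.1 le_rfl le_rfl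
        (le_nz_self Q)))⟩, c⟩)
  have l : bm 2 P ≤ P := H29.PU.bm_le
  have b := H28.GC.bm_ne (h.sat.pg' hP.1.1) hP.2
  refine ⟨bm 2 P, ⟨l.trans hP.1.1, b, fun g t S hS k => ?_⟩, l.trans hP.1.1,
    hP.1.2.imp fun U u => ⟨u.1, u.2.1, l.trans u.2.2.1, u.2.2.2⟩⟩
  rw [cj_bm] at k ⊢
  refine bm_of_inv3 k ((m S ⟨hS, fun e => b ?_⟩).trans_eq (inv3_cj g P).symm)
  rw [← cj_bm, e, le_bot_iff] at k
  exact cj_eq_bot.1 k

section
variable (h : Hy F N)
include h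

theorem p1a (k : Ky F N B) (d0 : D ≠ ⊥) (l : D ≤ B) (m : F.A B ≤ nz D) : F.NF D ≤ N := by_contra fun c => by
  have l1 : F.N B ≤ nz D := (F.N_le_A B).trans m
  have e : bm 2 (F.N B) = B := ky_bm k ⟨inf_le_left, D, d0, l.trans k.le, l1, c⟩ (le_N k.le)
  have e1 : F.N B = F.S := eq_of_nz h.sat.pg inf_le_left (inf_le_inf_left _ ((nz_bm _).trans_eq (congrArg nz e)))
  rw [e1] at e l1
  exact c (h.par D d0 (l.trans k.le) l1 (nf_le_nf le_rfl (l.trans k.le) fun g hg t =>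
    m ((t.mono k.le).mem_A (e ▸ nz_bm _ hg))))

theorem nfB (k : Ky F N B) (l : B ≤ R) (hR : R ≤ F.S) : F.NF R ≤ N := by_contra fun c => by
  have e := ky_bm k ⟨hR, R, fun e => k.ne (le_bot_iff.1 (e ▸ l)), hR, le_nz_self R, c⟩ l
  exact c ((nf_le_nf hR l fun g hg _ => e ▸ nz_bm _ hg).trans (p1a h k k.ne le_rfl (F.A_le_nz B)))

theorem p1b (k : Ky F N B) (l : B ≤ P) (t : F.T P g) : N.T P g :=
  h.sat.alperin (M := fun P g => ∀ B, Ky F N B → B ≤ P → N.T P g)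
    (fun P g _ t _ m m' B k l => (m B k l).mul (m' _ (ky_cj k (t.mono l)) (cj_mono g l)))
    (fun P g _ _ m e B k l => (m B k l).congr e)
    (fun Q hQ a ha P l' B k l => by
      have q := (h.sat.cr_of_ess hQ).1.le
      exact (nfB h k (l.trans l') q _ _ ((T_of_mem_A q ha).toNK ha.1 le_rfl le_rfl (le_nz_self Q))).mono l')
    P g t B k l

theorem sv' (u0 : U ≠ ⊥) (hU : U ≤ F.S) : (F.NF U).Solv := by
  obtain ⟨g, t, fn⟩ := h.sat.exists_FN hU
  have := (epi_cjs g⁻¹ _).solv ((h.solv _ (mt cj_eq_bot.1 u0) fn).of_le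
    (cjs_le_iff.2 fun P a H => nf_conj hU t H : cjs g (F.NF U) ≤ _))
  rwa [cjs_inv_cjs] at this

theorem constr (u0 : U ≠ ⊥) (hU : F.FN U) : (F.NF U).Constr 2 := (h.solv U u0 hU).constr (h.sat.NF hU)

theorem mdl (u0 : U ≠ ⊥) (hU : F.FN U) : ∃ G, (F.NF U).Mdl 2 G ∧ Good G :=
  (constr h u0 hU).exists_mdl (h.big.mono inf_le_left)

theorem step (k : Ky F N B) (l : B ≤ R) (hR : R ≤ F.N U) (hU : U ≤ F.S) (v0 : V ≠ ⊥) (h1 : V ≤ U) (h2 : U ≤ nz V)
    (s : Sh F N R V) : Sh F N R U := fun g t => by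
  have lR := (t.mono le_sup_left).cj_N_le (hR.trans inf_le_right)
  have hU' := (t.mono le_sup_right).cj_le
  obtain ⟨m, tm, fn⟩ := h.sat.exists_FN hU'
  refine sg_of_cj h.le hU' (p1b h (ky_cj k (t.mono (l.trans le_sup_left))) ((cj_mono g l).trans lR) tm)
    (step1 h.sat h.satN h.le h.eS fn (constr h (fun e => v0 (le_bot_iff.1 ?_)) fn) (cj_mono m (cj_mono g h1))
      (by rw [← cj_nz, ← cj_nz]; exact cj_mono m (cj_mono g h2))
      (sh_cj s (t.mono (sup_le_sup_left h1 R)) m (tm.mono (sup_le lR ((cj_mono g h1).trans (le_N hU'))))))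
  rwa [← cj_eq_bot.1 (cj_eq_bot.1 e)]

theorem loc' (k : Ky F N B) (l : B ≤ R) (hR : R ≤ F.S) (rP : R ≤ nz P) (t : F.T P a) (U : Subgroup (Univ n)) :
    U ≠ ⊥ → U ≤ P → R ≤ nz U → Sh F N R U → N.T U a → N.T P a := by
  induction U using card_induction_down with
  | h U ih =>
  intro u0 l1 l2 s t'
  rcases l1.eq_or_lt with rfl | c
  · exact t'
  have c' := lt_inf_nz_of_lt (h.sat.pg' t.le) c
  have l3 : R ≤ nz (P ⊓ nz U) := fun x hx => mem_nz_inf (rP hx) (mem_nz_nz (l2 hx))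
  exact ih _ (card_lt_of_lt c') (fun e => u0 (le_bot_iff.1 (e ▸ c'.le))) inf_le_left l3
    (step h k l (le_inf hR l3) (inf_le_left.trans t.le) u0 c'.le inf_le_right s)
    (ext h.sat h.satN h.le h.eS s (le_inf hR l2) c'.le inf_le_right (t.mono inf_le_left) t')

theorem shΩ (k : Ky F N B) (l : B ≤ R) : Sh F N R (omegaOneCenter 2 R) := fun g t => by
  rw [cj_Ω]
  replace k := ky_cj k (t.mono (l.trans le_sup_left))
  replace l := cj_mono g l
  have hR := (t.mono le_sup_left).cj_le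
  generalize cj g R = R at *
  generalize cj g B = B at *
  by_cases c : F.NF (omegaOneCenter 2 R) ≤ N
  · exact sg_of_nf c
  have z := H28.omegaOneCenter_le_centralizer 2 F.S
  have l2 : R ⊔ omegaOneCenter 2 F.S ≤ F.S := sup_le hR (H28.omegaOneCenter_le _ _)
  have l3 := (H28.omegaOneCenter_le 2 R).trans hR
  have e := ky_bm k ⟨l2, _, H28.omegaOneCenter_ne_bot (h.sat.pg' hR) fun e => k.ne (le_bot_iff.1 (e ▸ l)), l3,
    sup_le ((le_nz_self R).trans (nz_Ω R)) (z.trans ((cz_anti l3).trans (cz_le_nz _))), c⟩ (l.trans le_sup_left)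
  have l4 : omegaOneCenter 2 F.S ≤ omegaOneCenter 2 R := H28.le_omegaOneCenter (((le_inf le_sup_right
    (z.trans (cz_anti (H29.PU.zj_le.trans l2)))).trans e.le).trans l) (z.trans (cz_anti hR))
    fun x hx => (H28.mem_omegaOneCenter.1 hx).2.2
  have nT : F.S ≤ nz (omegaOneCenter 2 F.S) := (le_nz_self _).trans (nz_Ω _)
  exact fun P c l1 _ t hc => h.par _ (H28.omegaOneCenter_ne_bot h.sat.pg fun e => k.ne (le_bot_iff.1 (e ▸ k.le)))
    (H28.omegaOneCenter_le _ _) nT (nf_le_nf le_rfl (H28.omegaOneCenter_le _ _) fun g hg _ => nz_Ω _ hg) _ _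
    (t.toNK (cz_le_nz _ (cz_anti l4 hc)) le_rfl (l4.trans l1) (t.le.trans nT))

variable (fn : F.FN U) (m : (F.NF U).Mdl 2 G)
include fn m

theorem O_le : pCoreOf 2 G ≤ F.N U := pCoreOf_eq 2 G ▸ m.syl.Op_bot_le

theorem O_cen : F.Centric (pCoreOf 2 G) := by
  have e := m.core_eq.trans (pCoreOf_eq 2 G).symm
  exact cen_of_nf h.sat fn (e ▸ (nm_NF fn.le).le_core) (e ▸ m.constr.centric_core)

theorem mT (hg : g ∈ G) (l1 : P ≤ F.N U) (l2 : cj g P ≤ F.N U) : F.T P g := (m.T_of_mem l1 hg l2).of_le (NK_le _ _ _)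

theorem mTO (hg : g ∈ G) (l1 : P ≤ F.N U) (l2 : cj g P ≤ F.N U) : F.T (P ⊔ pCoreOf 2 G) g :=
  mT h fn m hg (sup_le l1 (O_le h fn m)) (by rw [cj_sup, mem_nz.1 (nz_O G hg)]; exact sup_le l2 (O_le h fn m))

theorem mkT (hg : g ∈ MK N G) (l1 : P ≤ F.N U) (l2 : cj g P ≤ F.N U) : N.T P g :=
  (h.sat.T_of_centric h.satN h.le h.eS (O_cen h fn m) le_sup_right (mTO h fn m hg.1 l1 l2)
    (T_of_mem_A (h.eS ▸ (O_cen h fn m).le) hg.2)).mono le_sup_left

theorem mem_mk (hg : g ∈ G) (t : N.T (P ⊔ pCoreOf 2 G) g) : g ∈ MK N G :=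
  ⟨hg, (t.mono le_sup_right).mem_A (nz_O G hg)⟩

theorem cmk' (k : Ky F N B) (u0 : U ≠ ⊥) (b : B ≤ nz U) (c : ¬ F.NF U ≤ N) : CM 2 G B (MK N G) ∧ bm 2 (F.N U) = B := by
  have lB : B ≤ F.N U := le_inf k.le b
  have e := ky_bm k ⟨inf_le_left, U, u0, fn.le, inf_le_right, c⟩ lB
  have nB : F.N U ≤ nz B := (le_nz_self _).trans (e ▸ nz_bm _)
  have key : ∀ D, D ≠ ⊥ → D ≤ B → nz B ≤ nz D → G ⊓ nz D ≤ MK N G := fun D d0 l1 l2 g hg =>
    mem_mk h fn m hg.1 (p1a h k d0 l1 ((F.A_le_nz B).trans l2) _ _ ((mTO h fn m hg.1 (l1.trans lB)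
      ((mem_nz.1 hg.2).le.trans (l1.trans lB))).toNK hg.2 le_rfl le_sup_left
      (sup_le (le_nz_self D) ((O_le h fn m).trans (nB.trans l2)))))
  refine ⟨⟨⟨chP_iff_isCharP.1 m.chP, _, m.syl.isSylowIn m.pg, e⟩, fun D d d0 => key _
    (mt (map_eq_bot_iff_of_injective _ B.subtype_injective).1 d0) (map_subtype_le D) (H28.GC.nrm_char d),
    fun R r1 r2 r3 g hg => ?_⟩, e⟩
  obtain ⟨x, hx, l⟩ := m.syl.exists_cj_le r1 r3
  have x1 : x ∈ nz B := e ▸ H28.GC.weak_bm (e.symm ▸ (cj_mono x r2).trans l)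
  have x2 := key B k.ne le_rfl le_rfl ⟨hx, x1⟩
  have r4 : B ≤ cj x R := mem_nz.1 x1 ▸ cj_mono x r2
  have g1 : x * g * x⁻¹ ∈ G := mul_mem (mul_mem hx hg.1) (inv_mem hx)
  have g2 : x * g * x⁻¹ ∈ cz (omegaOneCenter 2 (cj x R)) := by rw [← cj_Ω, ← cj_cz]; exact conj_mem_cj x hg.2
  have l1 := (H28.omegaOneCenter_le 2 (cj x R)).trans l
  have nR := (le_nz_self _).trans (nz_Ω (cj x R))
  have := mem_mk h fn m g1 (loc' h k r4 (l.trans inf_le_left)
    (fun y hy => mem_nz_sup (nR hy) (nz_O G (m.le (l hy)))) (mTO h fn m g1 l1 ((mem_nz.1 (cz_le_nz _ g2)).le.trans l1)) _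
    (H28.omegaOneCenter_ne_bot (isPGroup_cj x r1) fun e => k.ne (le_bot_iff.1 (e ▸ r4))) le_sup_left nR
    (shΩ h k r4) (of_cz (h.eS ▸ l1.trans inf_le_left) g2))
  simpa [mul_assoc] using mul_mem (mul_mem (inv_mem x2) this) x2

end

theorem p1 (n : ℕ) : P1 n := fun _ _ _ h k => ⟨fun _ => p1a h k, fun _ _ => p1b h k⟩
theorem sv (n : ℕ) : SV n := fun _ _ h _ => sv' h
theorem loc (n : ℕ) : LOC n := fun _ _ _ _ V h k l hR v0 r s _ _ l1 l2 rP ha _ t =>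
  loc' h k l hR rP (T_of_mem_A l2 ha) V v0 l1 r s t
theorem cmk (n : ℕ) : CMK n := fun _ _ _ _ _ h k u0 fn b m c =>
  ⟨(cmk' h fn m k u0 b c).1, (cmk' h fn m k u0 b c).2, fun _ hg _ => mkT h fn m hg⟩

end H12.MF
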