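import Cfsg.Agent.H12.MF1

/-! Minimal `2`-fusion systems, pushing-up case: blocks (chunks TR, QC, PA, PB, PC). -/

set_option autoImplicit false
set_option linter.unusedVariables false
set_option linter.unusedSectionVars false

namespace H12.MF
open Subgroup H25 H25.FS H4.MF
open Cfsg (pCoreOf omegaOneCenter)
open H29.PU (bm zj)
open H29.BB (CM Amb)
open H28.GC (Bk Pr)
open scoped H28.GC

section gen
variable {Γ : Type} [Group Γ] [Finite Γ] {F : FS Γ} {B E E' G L M P Q : Subgroup Γ} {a g : Γ}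
  {K : Type} [Field K] [Finite K]

theorem mdl_cz (m : F.Mdl 2 G) (c : F.Centric Q) : G ⊓ cz Q ≤ Q := by
  have s := (ofSub_fc_iff m.pg m.syl c.le).1 (m.eq ▸ c.fc)
  have l : O₂ (G ⊓ cz Q) ≤ Q := (pCoreOf_eq 2 (G ⊓ cz Q)).le.trans (s.Op_bot_le.trans c.C_le)
  exact (le_inf le_rfl (inf_le_right.trans (cz_anti l))).trans (le_trans ((chP_iff_isCharP.1 m.chP).inf_centralizer
    (m.pg.to_le c.le) (c.le.trans m.le)) l)

theorem rel_ai (h1 : B ≤ L) (h2 : L ≤ nz Q) (h3 : L ⊓ cz Q ≤ B) : (ai B Q).relIndex (ai L Q) = B.relIndex L := by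
  rw [relIndex_eq_of_cover (H := L) (fun x hx => mem_ai_of_mem hx (h2 hx)) fun a ⟨_, l, hl, e⟩ =>
    ⟨l, hl, cz_le_ai _ _ (agree_iff.1 e)⟩, ← inf_relIndex_right]
  congr 1
  refine le_antisymm (fun x ⟨⟨_, b, hb, e⟩, hx⟩ => ?_) (le_inf (fun x hx => mem_ai_of_mem hx (h2 (h1 hx))) h1)
  simpa using mul_mem hb (h3 (mem_inf.2 ⟨L.mul_mem (L.inv_mem (h1 hb)) hx, agree_iff.1 e⟩))

theorem cj_W (g : Γ) (E : Subgroup Γ) : cj g (W₂ E) = W₂ (cj g E) := H29.BB.cj_W g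
theorem cj_A (hg : g ∈ nz B) : cj g (O₂ (E ⊔ B)) = O₂ (cj g E ⊔ B) := by rw [cj_O, cj_sup, mem_nz.1 hg]

theorem pr_cj (r : Pr K K B E E') (hg : g ∈ nz B) : Pr K K B (cj g E) (cj g E') :=
  ⟨r.k₁.conj' hg, r.k₂.conj' hg, fun e => r.nc (by
    rw [← cj_W, ← cj_W] at e
    exact cj_le_cj.1 (e.trans (cj_cz g _).ge)), by
      have := congrArg (cj g) r.d0
      rwa [cj_inf, cj_inf, cj_cz, cj_cz, mem_nz.1 hg, cj_bot] at this⟩

theorem pr_or (r : Pr K K B E E') (hg : g ∈ nz B) :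
    cj g (O₂ (E ⊔ B)) = O₂ (E ⊔ B) ∨ cj g (O₂ (E ⊔ B)) = O₂ (E' ⊔ B) :=
  (H28.GC.le_of_two fun y hy => r.inv_or ((cj_mono g r.k₁.QB).trans (mem_nz.1 hg).le hy)
    (H28.GC.sq_of_ea (H28.ea_cj r.ea g) hy)).imp cj_eq_of_le fun l =>
      eq_of_le_of_card_ge l (r.card_eq.symm.trans (card_cj _ _).symm).le

theorem pr_ne (r : Pr K K B E E') : O₂ (E ⊔ B) ≠ O₂ (E' ⊔ B) := fun e => r.nc (r.k₁.WQ.trans (e ▸ r.k₂.QC))

theorem pr_sq (r : Pr K K B E E') (hg : g ∈ nz B) : g ^ 2 ∈ nz (O₂ (E ⊔ B)) := by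
  rcases pr_or r hg with e | e
  · exact pow_mem (mem_nz.2 e) 2
  · rw [mem_nz, sq, ← cj_cj, e]
    exact (pr_or r.symm hg).resolve_left fun c => pr_ne r (cj_inj.1 (e.trans c.symm))

theorem bk_of (c : CM 2 G B M) (hE : E ≤ G) (h : H29.BB.LBk 2 B E) (n : ¬ E ≤ M) :
    ∃ (K : Type) (_ : Field K) (_ : Finite K), Bk K B E := by
  obtain ⟨F, _, _, k⟩ := h.lin
  obtain ⟨D⟩ := h.lb k c.toAmb hE
  exact ⟨F, _, ‹_›, h.toBlk, k, h.amb c.toAmb hE, (H29.PU.pushing_up (D.vx h.toBlk c.toAmb hE).toRk1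
    (D.syl h.toBlk c.toAmb hE) (c.nc (sup_le hE c.le) fun e => n (le_sup_left.trans e))).resolve_right
      fun ⟨_, _, _, _, _, k⟩ => by simpa using k.three⟩

theorem nrmE (r : Pr K K B E E') (c : CM 2 G B M) (hE : E ≤ G) (n : ¬ E ≤ M) : G ≤ nz E := by
  have k := r.k₁
  obtain ⟨E₁, h, l⟩ := c.sub E ⟨k.blk, hE, n⟩
  obtain rfl : E₁ = E := (h.ls c.toAmb h.le).elim (fun ⟨_, _, _, _, ⟨D⟩⟩ =>
    (D.eq_of_le h.toBlk c.toAmb h.le k.blk l).symm) fun ⟨m, h1, ⟨D⟩⟩ => by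
      have q := D.two' h.toBlk c.toAmb h.le k.lb k.blk l
      have q1 : 16 ≤ Nat.card (W₂ E₁) := by
        rw [D.card]
        exact (H28.GC.card_ew (by have := h1.le; rw [Fintype.card_fin]; omega)).trans
          (Nat.le_mul_of_pos_right _ Nat.card_pos)
      have q2 := q1.trans (card_le_of_le (k.leQ (h.W_le_B c.toAmb h.le) (le_cz_comm.1
        ((k.blk.W_le_P c.toAmb hE).trans (h.P_cen c.toAmb h.le)))))
      have := r.cardD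
      rw [k.cardQ, q] at *
      omega
  refine fun g hg => mem_nz.2 ?_
  have h' := h.conj c hg
  exact (h'.eq_or h c).resolve_right fun e => h'.not_B (le_cz_comm.1 ((le_inf (h'.W_le_B c.toAmb h'.le)
    (H29.BB.W_le_E.trans (H28.commutator_eq_bot_iff.1 e))).trans r.DC))

end gen

theorem tr (n : ℕ) : TR n := fun E G L B m gG gL cL pB sB le cQ => by
  have QB : O₂ L ≤ B := pCoreOf_eq 2 L ▸ sB.Op_bot_le
  have nL := nz_O L
  have cL' : L ⊓ cz (O₂ L) ≤ O₂ L := chP_iff_isCharP.1 cL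
  have BS : B ≤ E.S := S_le_of_le le
  have cG := mdl_cz m cQ
  have key : ∀ l ∈ L, ∀ P, O₂ L ≤ P → P ≤ B → cj l P ≤ B → ∃ k ∈ G ⊓ ai L (O₂ L), Agree P l k := fun l hl P a b c => by
    obtain ⟨-, -, k, hk, e⟩ := m.T_iff.1 (le _ _ (ofSub_T_of_mem b hl c))
    exact ⟨k, ⟨hk, (e.mono a).symm.mem_ai (mem_ai_of_mem hl (nL hl))⟩, e⟩
  have BK : B ≤ G ⊓ ai L (O₂ L) := le_inf (BS.trans m.le) fun b hb => mem_ai_of_mem (sB.le hb) (nL (sB.le hb))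
  have nK : G ⊓ ai L (O₂ L) ≤ nz (O₂ L) := inf_le_right.trans (ai_le_nz _ _)
  have cK : G ⊓ ai L (O₂ L) ⊓ cz (O₂ L) ≤ O₂ L := (inf_le_inf_right _ inf_le_left).trans cG
  have eK : ai (G ⊓ ai L (O₂ L)) (O₂ L) = ai L (O₂ L) := le_antisymm
    (fun x ⟨_, k, hk, e⟩ => e.mem_ai hk.2) fun x ⟨hx, l, hl, e⟩ =>
      let ⟨k, hk, e'⟩ := key l hl _ le_rfl QB ((mem_nz.1 (nL hl)).le.trans QB)
      ⟨hx, k, hk, e.trans e'⟩
  have sK : Syl 2 B (G ⊓ ai L (O₂ L)) := ⟨BK, by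
    rw [← rel_ai BK nK (cK.trans QB), eK, rel_ai sB.le nL (cL'.trans QB)]; exact sB.2⟩
  have l1 : ofSub L B ≤ ofSub (G ⊓ ai L (O₂ L)) B := fun P g H => by
    obtain ⟨a, b, l, hl, e⟩ := (ofSub_T sB.le).1 H
    obtain ⟨k, hk, e'⟩ := key l hl (P ⊔ O₂ L) le_sup_right (sup_le a QB) (by
      rw [cj_sup, mem_nz.1 (nL hl), ← e.cj_eq]; exact sup_le b QB)
    exact (ofSub_T BK).2 ⟨a, b, k, hk, e.trans (e'.mono le_sup_left)⟩
  have l2 : ofSub (G ⊓ ai L (O₂ L)) B ≤ ofSub L B := fun P g H => by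
    obtain ⟨a, b, k, hk, e⟩ := (ofSub_T BK).1 H
    obtain ⟨-, l, hl, e'⟩ := hk.2
    refine (((sat_ofSub pB sK).T_of_centric (sat_ofSub pB sB) l1 rfl (cQ.of_le (m.eq ▸ ofSub_mono inf_le_left BS) QB)
      (le_sup_right : O₂ L ≤ P ⊔ O₂ L) (ofSub_T_of_mem (sup_le a QB) hk ?_)
      ((ofSub_T_of_mem QB hl ((mem_nz.1 (nL hl)).le.trans QB)).congr e')).mono le_sup_left).congr e
    rw [cj_sup, mem_nz.1 (nK hk), ← e.cj_eq]; exact sup_le b QB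
  obtain ⟨φ, hφ⟩ := (mdl_ofSub pB sB cL).unique (le_antisymm l1 l2 ▸ mdl_ofSub pB sK
    (chP_of (QB.trans BK) nK (pB.to_le QB) cK))
  obtain ⟨g, hg⟩ := exists_conj_of_good L.subtype ((G ⊓ ai L (O₂ L)).subtype.comp φ.toMonoidHom) L.subtype_injective
    ((subtype_injective _).comp φ.injective) (gL.mono (range_subtype L).le)
    (gG.mono (by rintro _ ⟨x, rfl⟩; exact (φ x).2.1))
  exact ⟨g, mem_cz.2 fun b hb => (hg ⟨b, sB.le hb⟩).symm.trans (hφ ⟨b, hb⟩),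
    cj_le.2 fun x hx => (show (φ ⟨x, hx⟩ : Univ n) = g * x * g⁻¹ from hg ⟨x, hx⟩) ▸ (mem_inf.1 (φ ⟨x, hx⟩).2).1⟩

variable {n : ℕ} {F N : FS (Univ n)} {B D E E' G P Q R S U V : Subgroup (Univ n)} {a c g k : Univ n}
  {K : Type} [Field K] [Finite K]

section
variable (h : Hy F N)
include h

theorem C_le (k : Ky F N B) (b : Bk K B E) (c : ¬ F.NF (O₂ (E ⊔ B)) ≤ N) : F.C (O₂ (E ⊔ B)) ≤ O₂ (E ⊔ B) := by
  have e : bm 2 (F.C (O₂ (E ⊔ B)) ⊔ B) = B := ky_bm k ⟨sup_le inf_le_left k.le, _,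
    fun e => b.W_ne (le_bot_iff.1 (e ▸ b.WQ)), b.QB.trans k.le,
    sup_le (inf_le_right.trans (cz_le_nz _)) (le_sup_right.trans b.nQ), c⟩ le_sup_right
  have e1 : zj 2 (F.C (O₂ (E ⊔ B)) ⊔ B) = zj 2 B := by
    rw [zj, zj, ← H9.JJ_eq_of_le H29.PU.JJ_le_bm H29.PU.bm_le, e]
  exact b.leQ ((le_inf le_sup_left (e1 ▸ inf_le_right.trans (cz_anti b.zjQ))).trans e.le)
    (inf_le_right.trans (cz_anti b.WQ))

theorem cenA (k : Ky F N B) (b : Bk K B E) (c : ¬ F.NF (O₂ (E ⊔ B)) ≤ N) : F.Centric (O₂ (E ⊔ B)) := by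
  have l := b.QB.trans k.le
  have l1 : B ≤ F.N (O₂ (E ⊔ B)) := le_inf k.le (le_sup_right.trans b.nQ)
  obtain ⟨g, t, fn⟩ := h.sat.exists_FN l
  refine Centric.of_cj (t.mono (le_N l)) ((h.sat.fc fn).centric ?_)
  have := C_le h (ky_cj k (t.mono l1)) (E := cj g E) (b.conj g)
  rw [← cj_sup, ← cj_O] at this
  exact this fun m => c (nf_le_of_cj h.le l (p1b h k l1 t) m)

theorem shA (k : Ky F N B) (b : Bk K B E) : Sh F N B (O₂ (E ⊔ B)) := fun g t => by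
  rw [cj_O, cj_sup]
  have k' := ky_cj k (t.mono le_sup_left)
  by_cases c : F.NF (O₂ (cj g E ⊔ cj g B)) ≤ N
  · exact sg_of_nf c
  have z := cenA h k' (b.conj g) c
  exact fun P c l _ H hc => h.sat.T_of_centric h.satN h.le h.eS z l H (of_cz (h.eS ▸ z.le) hc)

theorem fb_cj (f : FB K F N B E) (t : F.T B g) : FB K F N (cj g B) (cj g E) := by
  refine ⟨ky_cj f.ky t, f.bk.conj g, cj_sup g E B ▸ f.good.cj g, fun P a H => ?_, fun e => f.out ?_⟩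
  · obtain ⟨l1, l2, x, hx, e⟩ := (ofSub_T le_sup_right).1 H
    rw [← cj_sup] at hx
    obtain ⟨y, hy, rfl⟩ := mem_cj'.1 hx
    have l3 := le_cj_iff.1 l1
    have l4 : cj y (cj g⁻¹ P) ≤ B := cj_le_cj.1 (by rwa [← cj_conj_cj, cj_cj_inv, ← e.cj_eq] : cj g _ ≤ cj g B)
    have := (f.sub _ _ (ofSub_T_of_mem l3 hy l4)).conj t l3 l4
    rw [cj_cj_inv] at this
    exact this.congr e
  · rwa [← cj_sup, ← cj_O, ← ((p1b h f.ky le_rfl t).mono f.bk.QB).cj_A, cj_le_cj] at e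

theorem fb_cj' (f : FB K F N B E) (ha : a ∈ F.A B) : FB K F N B (cj a E) := by
  simpa only [mem_nz.1 ha.1] using fb_cj h f (T_of_mem_A f.ky.le ha)

theorem sub_nf (f : FB K F N B E) (l : U ≤ B) (m : E ⊔ B ≤ nz U) : ofSub (E ⊔ B) B ≤ F.NF U :=
  (nm_ofSub le_sup_right l m).le_NK f.sub (cz_le_nz U) le_rfl

theorem out' (f : FB K F N B E) (m : ∀ e ∈ E, N.T (O₂ (E ⊔ B)) e) : False :=
  f.out fun e he => (m e he).mem_A (f.bk.nQ (mem_sup_left he))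

theorem not_nf (f : FB K F N B E) (l : U ≤ B) (m : E ⊔ B ≤ nz U) : ¬ F.NF U ≤ N := fun c =>
  out' h f fun e he => c _ _ (sub_nf h f l m _ _ (ofSub_T_of_mem f.bk.QB (mem_sup_left he)
    ((mem_nz.1 (f.bk.nQ (mem_sup_left he))).le.trans f.bk.QB)))

theorem fb_cen (f : FB K F N B E) : F.Centric (O₂ (E ⊔ B)) := cenA h f.ky f.bk (not_nf h f f.bk.QB f.bk.nQ)

theorem fb_tr (f : FB K F N B E) (l : U ≤ B) (u : E ⊔ B ≤ nz U) (m : (F.NF U).Mdl 2 G) (gG : Good G) :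
    ∃ g ∈ cz B, cj g E ≤ G ∧ FB K F N B (cj g E) :=
  let ⟨g, hg, e⟩ := tr n _ G _ B m gG f.good (chP_iff_isCharP.2 f.bk.amb.cp) f.bk.pg (syl_of_isSylowIn f.bk.syl)
    (sub_nf h f l u) ((fb_cen h f).of_le (NK_le _ _ _) (f.bk.QB.trans (le_inf f.ky.le (le_sup_right.trans u))))
  ⟨g, hg, (cj_mono g le_sup_left).trans e, fb_cj' h f (F.cz_le_A B hg)⟩

theorem no_nrm (f : FB K F N B E) (f' : FB K F N B E') (u0 : U ≠ ⊥) (l : U ≤ B) (u : E ⊔ B ≤ nz U) (u' : E' ≤ nz U) :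
    W₂ E ≤ cz (W₂ E') := by
  obtain ⟨g, t, fn⟩ := h.sat.exists_FN (l.trans f.ky.le)
  have tB := t.mono (le_inf f.ky.le (le_sup_right.trans u))
  have u1 : cj g U ≠ ⊥ := mt cj_eq_bot.1 u0
  have n1 : ∀ {E}, E ⊔ B ≤ nz U → cj g E ⊔ cj g B ≤ nz (cj g U) := fun e => by
    rw [← cj_sup, ← cj_nz]; exact cj_mono g e
  have f1 := fb_cj h f tB
  have f2 := fb_cj h f' tB
  obtain ⟨G, m, gG⟩ := mdl h u1 fn
  obtain ⟨x, x1, x2, x3⟩ := fb_tr h f1 (cj_mono g l) (n1 u) m gG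
  obtain ⟨y, y1, y2, y3⟩ := fb_tr h f2 (cj_mono g l) (n1 (sup_le u' (le_sup_right.trans u))) m gG
  have c := (cmk' h fn m f1.ky u1 (le_sup_right.trans (n1 u)) (not_nf h f1 (cj_mono g l) (n1 u))).1.toAmb
  have := (x3.bk.blk.W_le_P c x2).trans (y3.bk.blk.P_cen c y2)
  rw [← cj_W, ← cj_W y, mem_nz.1 (cz_le_nz _ (cz_anti f1.bk.WB x1)), mem_nz.1 (cz_le_nz _ (cz_anti f2.bk.WB y1)),
    ← cj_W, ← cj_W] at this
  exact cj_le_cj.1 (this.trans (cj_cz g _).ge)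

theorem pr_of (f : FB K F N B E) (f' : FB K F N B E') (c : ¬ W₂ E ≤ cz (W₂ E')) : Pr K K B E E' :=
  ⟨f.bk, f'.bk, c, by_contra fun e => by
    have n1 : ∀ x ∈ B, x ∈ nz (B ⊓ cz E ⊓ cz E') := fun x hx =>
      mem_nz_inf (mem_nz_inf (le_nz_self B hx) (mem_nz_cz (f.bk.nrm hx))) (mem_nz_cz (f'.bk.nrm hx))
    exact c (no_nrm h f f' e (inf_le_left.trans inf_le_left) (sup_le ((le_cz_comm.1 (inf_le_left.trans
      inf_le_right)).trans (cz_le_nz _)) n1) ((le_cz_comm.1 inf_le_right).trans (cz_le_nz _)))⟩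

theorem pc2 (f : FB K F N B E) (fn : F.FN B) (ha : a ∈ F.A B) (r : Pr K K B E (cj a E)) (fA : F.FN (O₂ (E ⊔ B)))
    (m : (F.NF (O₂ (E ⊔ B))).Mdl 2 G) (hE : E ≤ G) : ∃ x, Cf K F B E G x := by
  obtain ⟨c, e⟩ := cmk' h fA m f.ky (fun e => f.bk.W_ne (le_bot_iff.1 (e ▸ f.bk.WQ))) (le_sup_right.trans f.bk.nQ)
    (not_nf h f f.bk.QB f.bk.nQ)
  obtain ⟨s, hs, x, hx, e'⟩ := (h.sat.fa fn).exists_resid ha
  have s1 : s ∈ nz (O₂ (cj a E ⊔ B)) :=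
    resid_le_of_pel (fun g hg => ⟨1, by simpa using pr_sq r.symm hg.1⟩) hs
  have e1 : cj x (O₂ (E ⊔ B)) = O₂ (cj a E ⊔ B) := (cj_inj (g := s)).1 (by
    rw [cj_cj, ← e'.cj_eq' f.bk.QB, mem_nz.1 s1, cj_A ha.1])
  have f' := fb_cj' h f (F.N_le_A B hx)
  exact ⟨x, h.sat, fun _ => sv' h, pr_of h f f' fun k => r.nc ((f'.bk.leQ f.bk.WB k).trans
    (by rw [← cj_A hx.2, e1]; exact r.k₂.QC)), f.ky.le, hx.1, hx.2, fA, fb_cen h f, m, hE,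
    nrmE r c hE fun k => out' h f fun y hy => mkT h fA m (k hy) (le_N fA.le)
      ((mem_nz.1 (f.bk.nQ (mem_sup_left hy))).le.trans (le_N fA.le)), e⟩

theorem pr_cj' (r : Pr K K B E (cj a E)) (hg : g ∈ nz B) : Pr K K B (cj g E) (cj (g * a * g⁻¹) (cj g E)) :=
  (cj_conj_cj g a E).symm ▸ pr_cj r hg

theorem pc1 (f : FB K F N B E) (fn : F.FN B) (ha : a ∈ F.A B) (r : Pr K K B E (cj a E)) (fA : F.FN (O₂ (E ⊔ B))) :
    ∃ E' H x, Cf K F B E' H x := by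
  obtain ⟨G, m, gG⟩ := mdl h (fun e => f.bk.W_ne (le_bot_iff.1 (e ▸ f.bk.WQ))) fA
  obtain ⟨g, g1, g2, f'⟩ := fb_tr h f f.bk.QB f.bk.nQ m gG
  have g3 := F.cz_le_A B g1
  have e : O₂ (E ⊔ B) = O₂ (cj g E ⊔ B) := by rw [← cj_A g3.1, mem_nz.1 (cz_le_nz _ (cz_anti f.bk.QB g1))]
  rw [e] at fA m
  exact ⟨_, G, pc2 h f' fn (mul_mem (mul_mem g3 ha) (inv_mem g3)) (pr_cj' h r g3.1) fA m g2⟩

end

theorem qc (n : ℕ) : QC n := fun _ _ _ _ _ _ _ h f =>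
  ⟨fb_cen h f, fun _ => fb_cj h f, fun _ _ _ _ l u m gG => ⟨not_nf h f l u, fb_tr h f l u m gG⟩⟩

theorem pa (n : ℕ) : PA n := fun F N h => by
  obtain ⟨B, k, -, U, u0, hU, l, c⟩ := p0 n F N h
  obtain ⟨g, t, fn⟩ := h.sat.exists_FN hU
  have lB : B ≤ F.N U := le_inf k.le l
  replace c : ¬ F.NF (cj g U) ≤ N := fun m => c (nf_le_of_cj h.le hU (p1b h k lB t) m)
  replace k := ky_cj k (t.mono lB)
  replace u0 : cj g U ≠ ⊥ := mt cj_eq_bot.1 u0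
  replace l : cj g B ≤ nz (cj g U) := cj_nz g U ▸ cj_mono g l
  clear t lB hU
  generalize cj g U = U at *
  generalize cj g B = B at *
  have lB : B ≤ F.N U := le_inf k.le l
  obtain ⟨G, m, gG⟩ := mdl h u0 fn
  have cm := (cmk' h fn m k u0 l c).1
  obtain ⟨E, e1, e2, e3⟩ := cm.exists_blk fun e => c fun P a H =>
    let ⟨l1, l2, x, hx, e'⟩ := m.T_iff.1 H
    (mkT h fn m (e hx) l1 (e'.cj_eq ▸ l2)).congr e'
  obtain ⟨K, _, _, b⟩ := bk_of cm e1 e3 e2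
  have lG := sup_le e1 cm.le
  have lA := b.QB.trans lB
  have f : FB K F N B E := ⟨k, b, gG.mono lG, (ofSub_mono lG lB).trans (m.eq.ge.trans (NK_le _ _ _)),
    fun e => e2 fun x hx => mem_mk h fn m (e1 hx) (loc' h k le_rfl k.le
      (fun y hy => mem_nz_sup (b.nQ (mem_sup_right hy)) (nz_O G (cm.le hy)))
      (mTO h fn m (e1 hx) lA ((mem_nz.1 (e hx).1).le.trans lA)) _ (fun e => b.W_ne (le_bot_iff.1 (e ▸ b.WQ)))
      le_sup_left (le_sup_right.trans b.nQ) (shA h k b) (T_of_mem_A (h.eS ▸ b.QB.trans k.le) (e hx)))⟩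
  obtain ⟨y, ty, fy⟩ := exists_FN k.le
  exact ⟨K, _, ‹_›, _, _, fb_cj h f ty, fy⟩

theorem pb (n : ℕ) : PB n := fun K _ _ F N B E h f => by
  by_contra! c
  replace c : ∀ a ∈ F.A B, W₂ E ≤ cz (cj a (W₂ E)) := fun a ha => by_contra fun k =>
    c a ha (pr_of h f (fb_cj' h f ha) (by rwa [← cj_W]))
  have l : ∀ a ∈ F.A B, cj a (W₂ E) ≤ ⨆ a : F.A B, cj a.1 (W₂ E) := fun a ha =>
    le_iSup (fun a : F.A B => cj a.1 (W₂ E)) ⟨a, ha⟩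
  have l1 : W₂ E ≤ ⨆ a : F.A B, cj a.1 (W₂ E) := by simpa using l 1 (one_mem _)
  have l2 : ⨆ a : F.A B, cj a.1 (W₂ E) ≤ B := iSup_le fun a => (cj_mono _ f.bk.WB).trans (mem_nz.1 a.2.1).le
  have l3 : F.A B ≤ nz (⨆ a : F.A B, cj a.1 (W₂ E)) := fun g hg => mem_nz_of_le (by
    rw [cj_iSup]; exact iSup_le fun a => (cj_cj _ _ _).le.trans (l _ (mul_mem hg a.2)))
  exact not_nf h f l2 (sup_le (f.bk.nrm_of (f.bk.leQ l2 (iSup_le fun a => le_cz_comm.1 (c _ a.2))) l1)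
    (((le_N f.ky.le).trans (F.N_le_A B)).trans l3))
    (p1a h f.ky (fun e => f.bk.W_ne (le_bot_iff.1 (e ▸ l1))) l2 l3)

theorem pc (n : ℕ) : PC n := fun K _ _ F N B E a h f fn ha r => by
  have l := f.bk.QB.trans f.ky.le
  obtain ⟨w, t, fA⟩ := h.sat.exists_FN l
  have tB := t.mono (le_inf f.ky.le (le_sup_right.trans f.bk.nQ))
  have f1 := fb_cj h f tB
  obtain ⟨y, ty, e, -⟩ := h.sat.exists_N_map fn tB.inv (cj_inv_cj w B)
  rw [cj_O, cj_sup] at fA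
  have e1 := ky_bm f1.ky (S := F.N (O₂ (cj w E ⊔ cj w B))) ⟨inf_le_left, _,
    fun e => f1.bk.W_ne (le_bot_iff.1 (e ▸ f1.bk.WQ)), fA.le, inf_le_right, not_nf h f1 f1.bk.QB f1.bk.nQ⟩
    (le_inf f1.ky.le (le_sup_right.trans f1.bk.nQ))
  have := fA.cj (ty.mono (le_inf inf_le_left ((le_nz_self _).trans ((nz_bm _).trans_eq (congrArg nz e1)))))
  have hb : y * w ∈ F.A B := (tB.mul' ty (le_N f1.ky.le)).mem_A' (by rw [← cj_cj, e])
  rw [cj_O, cj_sup, e, cj_cj] at this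
  exact pc1 h (fb_cj' h f hb) fn (mul_mem (mul_mem hb ha) (inv_mem hb)) (pr_cj' h r hb.1) this

end H12.MF
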