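import Cfsg.Agent.H4.MF4

/-! Minimal `2`-fusion systems, pushing-up case: root coordinates from an invariant complement. -/

set_option autoImplicit false
set_option linter.unusedVariables false
set_option linter.unusedSectionVars false

namespace H12.MF
open Subgroup H25 H25.FS H4.MF

universe u
variable {K : Type} [Field K] [Finite K] [CharP K 2] {Γ : Type u} [Group Γ] [Finite Γ] {F : FS Γ}
  {B A D H O V P : Subgroup Γ} {x y z a b d g h o w : Γ} {σ : K ≃+* K} {p q r s t ν : K} {α : K ≃+ K}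
  {x1 x2 x3 x4 : K → Γ}

theorem zp_two (h : y * y = 1) (hz : z ∈ zpowers y) : z = 1 ∨ z = y := by
  obtain ⟨k, rfl⟩ := hz
  have e : y ^ (2 : ℤ) = 1 := by rw [zpow_two, h]
  obtain ⟨m, rfl | rfl⟩ := Int.even_or_odd' k
  · left; simp only [zpow_mul, e, one_zpow]
  · right; simp only [zpow_add, zpow_mul, e, one_zpow, one_mul, zpow_one]

theorem τ_conj (c : Cg K F B A D H y) (m : c.M o σ p q 0 s) (h1 : o ∈ nz A) (h2 : o ∈ nz B) (hb : b ∈ B) :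
    c.τ (o * b * o⁻¹) * s = p * σ (c.τ b) := by
  have i := (c.M_B (conj_mem_of_mem_nz h2 hb)).mul m h1
  rw [inv_mul_cancel_right] at i
  have := (i.uniq (m.mul (c.M_B hb) (c.nA hb))).2.1
  simp only [RingEquiv.refl_apply, one_mul, map_one, mul_one] at this
  linear_combination this

theorem brw (c : Cg K F B A D H y) (hw : w ∈ H) (m : c.M w (.refl K) 0 ν ν⁻¹ 0) (ha : a ∈ F.A A) :
    (∃ g ∈ F.A B, Agree A a g) ∨ ∃ b ∈ B, ∃ g ∈ F.A B, Agree A (w * b * a) g := by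
  obtain ⟨h, hh, e⟩ := c.real (T_of_mem_A c.AT ha) le_rfl (le_nz_self A) ha.1
  have k : ∀ {h σ p q s}, h ∈ H → c.M h σ p q 0 s → h ∈ F.A B := fun hh m =>
    (c.T_of hh c.BN ((mem_nz.1 (m.nzB hh)).le.trans c.BN)).mem_A (m.nzB hh)
  obtain ⟨σ, p, q, r, s, m'⟩ := c.exM hh
  rcases eq_or_ne r 0 with rfl | r0
  · exact .inl ⟨h, k hh m', e⟩
  obtain ⟨b, hb, e'⟩ := c.τ_onto (p / r)
  have hb' := c.A₂B hb
  have := (m.mul (c.M_B hb') (c.nA hb')).mul m' (c.nH hh)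
  rw [e'] at this
  simp only [RingEquiv.trans_apply, RingEquiv.refl_apply, mul_one, mul_zero, add_zero, zero_mul, zero_add] at this
  rw [show ν⁻¹ * p + ν⁻¹ * (p / r) * r = 0 by rw [mul_assoc, div_mul_cancel₀ _ r0, aa]] at this
  exact .inr ⟨b, hb', _, k (mul_mem (mul_mem hw (c.BH hb')) hh) this, e.mul_left _⟩

/-- an `O`-invariant complement `V` to `D` in `A` -/
structure Vd (c : Cg K F B A D H y) (O V : Subgroup Γ) : Prop where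
  yy : y * y = 1
  tw : Tw F.S B
  q : 4 ≤ Nat.card K ∨ D ≠ ⊥
  VA : V ≤ A
  VD : ∀ v ∈ V, v ∈ D → v = 1
  onto : ∀ m, ∃ v ∈ V, c.ψ v = m
  d2 : cj y D ≤ V
  OV : O ≤ nz V
  OA : O ≤ nz A
  OB : O ≤ nz B
  yO : y ∈ nz O
  diag : ∀ o ∈ O, ∃ σ p s, p ≠ 0 ∧ s ≠ 0 ∧ c.M o σ p 0 0 s
  tor : ∀ t : K, t ≠ 0 → ∃ o ∈ O, o ∈ cz D ∧ c.M o (.refl K) t 0 0 t⁻¹
  ww : ∀ ν : K, ν ≠ 0 → ∃ w ∈ H, w ∈ cz D ∧ w ∈ nz V ∧ c.M w (.refl K) 0 ν ν⁻¹ 0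
  odd : Odd (Nat.card O)
  fth : ∀ o ∈ O, o ∈ cz B → o = 1
  TY : ∀ o ∈ O, ∀ P, P ≤ F.S → cj o P ≤ F.S → F.T P o
  nb : ∀ P g, B ≤ P → F.T P g → ∃ b ∈ B, ∃ z ∈ O ⊔ zpowers y, Agree P g (b * z)

/-- root elements -/
structure Rt (c : Cg K F B A D H y) (O V : Subgroup Γ) (ν : K) (α : K ≃+ K) (x1 x2 x3 x4 : K → Γ) : Prop
    extends Vd c O V where
  ν0 : ν ≠ 0
  α1 : α 1 = 1
  V1 : ∀ a, x1 a ∈ V
  ψ1 : ∀ a, c.ψ (x1 a) = ![0, a]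
  V3 : ∀ t, x3 t ∈ V
  ψ3 : ∀ t, c.ψ (x3 t) = ![ν * t, 0]
  e2 : ∀ a, y * x1 a * y⁻¹ = x2 (α a)
  τ2 : ∀ r, c.τ (x2 r) = ν * r
  e4 : ∀ d, x4 d = x2 d * x1 1 * (x2 d)⁻¹ * x1 1 * x3 d

variable {c : Cg K F B A D H y}

theorem Vd.uniq (v : Vd c O V) (ha : a ∈ V) (hb : b ∈ V) (e : c.ψ a = c.ψ b) : a = b := by
  rw [← c.inv (v.VA hb), ← mul_eq_one_iff_eq_inv]
  exact v.VD _ (mul_mem ha hb) ((c.eq_iff (v.VA ha) (v.VA hb)).1 e)

theorem Vd.yi (v : Vd c O V) : y⁻¹ = y := inv_eq_of_mul_eq_one_right v.yy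

theorem Vd.memY (v : Vd c O V) (hz : z ∈ O ⊔ zpowers y) : z ∈ O ∨ y * z ∈ O := by
  obtain ⟨o, ho, k, hk, rfl⟩ := (mem_sup_of_le_nz_left (zpowers_le.2 v.yO)).1 hz
  rcases zp_two v.yy hk with rfl | rfl
  · exact .inl (by simpa using ho)
  · exact .inr (by simpa [v.yi, mul_assoc] using conj_mem_of_mem_nz v.yO ho)

theorem Vd.rt (v : Vd c O V) : ∃ ν α x1 x2 x3 x4, Rt c O V ν α x1 x2 x3 x4 := by
  choose s sV sψ using v.onto
  have ad : ∀ a b : K, s ![0, a + b] = s ![0, a] * s ![0, b] := fun a b => v.uniq (sV _) (mul_mem (sV _) (sV _)) (by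
    rw [c.mul _ (v.VA (sV _)) _ (v.VA (sV _)), sψ, sψ, sψ]; exact vx (by simp) (by simp))
  have hB : ∀ m, y * s m * y⁻¹ ∈ B := fun m => c.A₂B (conj_mem_cj y (v.VA (sV m)))
  let f : K →+ K := AddMonoidHom.mk' (fun a => c.τ (y * s ![0, a] * y⁻¹)) fun a b => by
    rw [← c.τ_mul (hB _) (hB _), ad]; congr 1; group
  have inj : ∀ a, f a = 0 → a = 0 := fun a e => by
    have := (c.memC _ (v.VA (sV ![0, a]))).2 (conj_mem_cj_iff.1 (c.xx.ge ((c.τ_zero (hB _)).1 e)))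
    simpa [sψ] using this
  have n0 : f 1 ≠ 0 := fun e => one_ne_zero (inj 1 e)
  let α : K ≃+ K := AddEquiv.ofBijective ((AddMonoidHom.mulLeft (f 1)⁻¹).comp f) (Finite.injective_iff_bijective.1
    ((injective_iff_map_eq_zero _).2 fun a e => inj a ((mul_eq_zero.1 e).resolve_left (inv_ne_zero n0))))
  have eα : ∀ a, α a = (f 1)⁻¹ * f a := fun a => rfl
  refine ⟨f 1, α, fun a => s ![0, a], fun r => y * s ![0, α.symm r] * y⁻¹, fun t => s ![f 1 * t, 0], _, v, n0,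
    by rw [eα, inv_mul_cancel₀ n0], fun _ => sV _, fun _ => sψ _, fun _ => sV _, fun _ => sψ _,
    fun a => by rw [α.symm_apply_apply], fun r => ?_, fun _ => rfl⟩
  show f (α.symm r) = _
  conv_rhs => rw [← α.apply_symm_apply r, eα, mul_inv_cancel_left₀ n0]

theorem cen (c : Cg K F B A D H y) (hz : z ∈ A ⊓ cj y A) (hb : b ∈ B) : z * b = b * z := mem_cz'.1 (c.B_czC hb) z hz

namespace Rt
variable (v : Rt c O V ν α x1 x2 x3 x4)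
include v

theorem A1 (a : K) : x1 a ∈ A := v.VA (v.V1 a)
theorem B1 (a : K) : x1 a ∈ B := c.AB (v.A1 a)
theorem A2 (r : K) : x2 r ∈ cj y A := by
  rw [← α.apply_symm_apply r, ← v.e2]; exact conj_mem_cj y (v.A1 _)
theorem B2 (r : K) : x2 r ∈ B := c.A₂B (v.A2 r)
theorem C3 (t : K) : x3 t ∈ A ⊓ cj y A := ⟨v.VA (v.V3 t), (c.memC _ (v.VA (v.V3 t))).1 (by rw [v.ψ3]; rfl)⟩
theorem add1 (a b : K) : x1 (a + b) = x1 a * x1 b := v.uniq (v.V1 _) (mul_mem (v.V1 _) (v.V1 _)) (by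
  rw [c.mul _ (v.A1 _) _ (v.A1 _), v.ψ1, v.ψ1, v.ψ1]; exact vx (by simp) (by simp))
theorem add3 (a b : K) : x3 (a + b) = x3 a * x3 b := v.uniq (v.V3 _) (mul_mem (v.V3 _) (v.V3 _)) (by
  rw [c.mul _ (v.C3 _).1 _ (v.C3 _).1, v.ψ3, v.ψ3, v.ψ3]; exact vx (by simp [mul_add]) (by simp))
theorem add2 (a b : K) : x2 (a + b) = x2 a * x2 b := by
  obtain ⟨a, rfl⟩ := α.surjective a
  obtain ⟨b, rfl⟩ := α.surjective b
  rw [← map_add, ← v.e2, ← v.e2, ← v.e2, v.add1]; group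
theorem z1 : x1 0 = 1 := by simpa using v.add1 0 0
theorem z2 : x2 0 = 1 := by simpa using v.add2 0 0
theorem z3 : x3 0 = 1 := by simpa using v.add3 0 0
theorem e1 (r : K) : y * x2 r * y⁻¹ = x1 (α.symm r) := by
  conv_lhs => rw [← α.apply_symm_apply r, ← v.e2]
  rw [v.yi, mul_assoc, mul_assoc, v.yy, mul_one, ← mul_assoc, v.yy, one_mul]
theorem inj3 (e : x3 s = x3 t) : s = t := by
  have := congrFun ((v.ψ3 s).symm.trans ((congrArg c.ψ e).trans (v.ψ3 t))) 0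
  exact mul_left_cancel₀ v.ν0 this
theorem δD (r a : K) : x2 r * x1 a * (x2 r)⁻¹ * x1 a * x3 (r * a) ∈ D := by
  have m := conj_mem_of_mem_nz (c.nA (v.B2 r)) (v.A1 a)
  rw [← c.eq_iff (mul_mem m (v.A1 a)) (v.C3 _).1, c.mul _ m _ (v.A1 a), c.τ_spec (v.B2 r) (v.A1 a), v.ψ1, v.ψ3, v.τ2]
  exact vx (by simp [mul_assoc]) (by simp [aa])
theorem D4 (d : K) : x4 d ∈ D := by simpa [v.e4] using v.δD d 1
theorem C4 (d : K) : x4 d ∈ A ⊓ cj y A := c.DC (v.D4 d)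
theorem act1 (ho : o ∈ O) (m : c.M o σ p 0 0 s) (a : K) : o * x1 a * o⁻¹ = x1 (s * σ a) :=
  v.uniq (conj_mem_of_mem_nz (v.OV ho) (v.V1 a)) (v.V1 _) (by
    rw [m _ (v.A1 a), v.ψ1, v.ψ1]; exact vx (by simp) (by simp))
theorem act3 (ho : o ∈ O) (m : c.M o σ p 0 0 s) (s0 : s ≠ 0) (a : K) :
    o * x3 a * o⁻¹ = x3 (s * (p * σ ν / (s * ν)) * σ a) :=
  v.uniq (conj_mem_of_mem_nz (v.OV ho) (v.V3 a)) (v.V3 _) (by
    have := v.ν0
    rw [m _ (v.C3 a).1, v.ψ3, v.ψ3]; exact vx (by simp; field_simp) (by simp))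
theorem act2 (ho : o ∈ O) (m : c.M o σ p 0 0 s) (s0 : s ≠ 0) (r : K) :
    o * x2 r * o⁻¹ = x2 (p * σ ν / (s * ν) * σ r) := by
  obtain ⟨σ', p', s', -, -, m'⟩ := v.diag _ (conj_mem_of_mem_nz' v.yO ho)
  have e : o * x2 r * o⁻¹ = x2 (α (s' * σ' (α.symm r))) := by
    rw [← v.e2, ← v.act1 (conj_mem_of_mem_nz' v.yO ho) m']
    conv_lhs => rw [← α.apply_symm_apply r, ← v.e2]
    group
  have i := τ_conj c m (v.OA ho) (v.OB ho) (v.B2 r)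
  rw [e, v.τ2, v.τ2, map_mul σ] at i
  have := v.ν0
  rw [e]; congr 1; field_simp; linear_combination i
theorem rel (r a : K) : x2 r * x1 a * (x2 r)⁻¹ * x1 a * x3 (r * a) = x4 (r * a ^ 2) := by
  rcases eq_or_ne a 0 with rfl | a0
  · simp [v.e4, v.z1, v.z2, v.z3, c.sq (v.A1 1)]
  obtain ⟨o, ho, o1, m⟩ := v.tor a a0
  have n := v.ν0
  have a1 := inv_ne_zero a0
  rw [← mem_cz.1 o1 _ (v.δD r a), show ∀ u v w : Γ, o * (u * v * u⁻¹ * v * w) * o⁻¹ =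
    o * u * o⁻¹ * (o * v * o⁻¹) * (o * u * o⁻¹)⁻¹ * (o * v * o⁻¹) * (o * w * o⁻¹) from fun u v w => by group,
    v.act1 ho m, v.act2 ho m a1, v.act3 ho m a1, v.e4]
  simp only [RingEquiv.refl_apply]
  rw [inv_mul_cancel₀ a0, show a * ν / (a⁻¹ * ν) * r = r * a ^ 2 by field_simp,
    show a⁻¹ * (a * ν / (a⁻¹ * ν)) * (r * a) = r * a ^ 2 by field_simp]
theorem act4 (ho : o ∈ O) (m : c.M o σ p 0 0 s) (s0 : s ≠ 0) (d : K) :
    o * x4 d * o⁻¹ = x4 (s ^ 2 * (p * σ ν / (s * ν)) * σ d) := by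
  rw [v.e4, show ∀ u v w : Γ, o * (u * v * u⁻¹ * v * w) * o⁻¹ =
    o * u * o⁻¹ * (o * v * o⁻¹) * (o * u * o⁻¹)⁻¹ * (o * v * o⁻¹) * (o * w * o⁻¹) from fun u v w => by group,
    v.act1 ho m, v.act2 ho m s0, v.act3 ho m s0, map_one, mul_one, mul_assoc s, mul_comm s (_ * _), v.rel]
  congr 1; ring
theorem cm (r a : K) : x2 r * x1 a * (x2 r)⁻¹ * x1 a = x3 (r * a) * x4 (r * a ^ 2) := by
  rw [cen c (v.C3 _) (c.AB (v.C4 _).1), ← v.rel, mul_assoc _ (x3 _), c.sq (v.C3 _).1, mul_one]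
theorem sw21 (r a : K) : x2 r * x1 a = x1 a * x2 r * (x3 (r * a) * x4 (r * a ^ 2)) := by
  rw [← cen c (mul_mem (v.C3 _) (v.C4 _)) (mul_mem (v.B1 a) (v.B2 r)), ← v.cm, mul_assoc _ (x1 a), ← mul_assoc (x1 a),
    c.sq (v.A1 a), one_mul, inv_mul_cancel_right]
theorem add4 (a b : K) : x4 (a + b) = x4 a * x4 b := by
  have k : ∀ r, x2 r * x1 1 * (x2 r)⁻¹ = x3 r * x4 r * x1 1 := fun r => by
    have := v.cm r 1
    rw [one_pow, mul_one] at this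
    rw [← this, mul_assoc _ (x1 1) (x1 1), c.sq (v.A1 1), mul_one]
  have := k (a + b)
  rw [v.add2, show x2 a * x2 b * x1 1 * (x2 a * x2 b)⁻¹ = x2 a * (x2 b * x1 1 * (x2 b)⁻¹) * (x2 a)⁻¹ by group, k b,
    ← mul_assoc, ← cen c (mul_mem (v.C3 _) (v.C4 _)) (v.B2 a), mul_assoc (x3 b * x4 b), mul_assoc (x3 b * x4 b), k a,
    ← mul_assoc, mul_left_inj, cen c (mul_mem (v.C3 _) (v.C4 _)) (c.AB (mul_mem (v.C3 a) (v.C4 a)).1), v.add3,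
    mul_assoc, mul_assoc, mul_right_inj, ← mul_assoc, cen c (v.C4 a) (c.AB (v.C3 b).1), mul_assoc, mul_right_inj] at this
  exact this.symm
theorem z4 : x4 0 = 1 := by simpa using v.add4 0 0
theorem zadd (a b d e : K) : x3 (a + b) * x4 (d + e) = x3 a * x4 d * (x3 b * x4 e) := by
  rw [v.add3, v.add4, mul_assoc, mul_assoc, ← mul_assoc (x3 b), ← cen c (v.C4 d) (c.AB (v.C3 b).1), mul_assoc]
theorem D3 (h : D ≠ ⊥) (t : K) : x3 t ∈ cj y D :=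
  let ⟨d, hd, e⟩ := c.dq h (ν * t)
  v.uniq (v.d2 hd) (v.V3 t) (e.trans (v.ψ3 t).symm) ▸ hd
theorem inj4 (h : D ≠ ⊥) (e : x4 t = 1) : t = 0 := by
  have k := v.cm t 1
  rw [one_pow, mul_one, e, mul_one] at k
  rcases c.symm.fx (v.A2 t) (v.B1 1) (by
    rw [show x1 1 * x2 t * (x1 1)⁻¹ * x2 t = (x2 t * x1 1 * (x2 t)⁻¹ * x1 1)⁻¹ by
      simp only [mul_inv_rev, inv_inv, c.inv (v.A1 1), c.symm.inv (v.A2 t), mul_assoc], k]
    exact inv_mem (v.D3 h t)) with i | i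
  · rw [c.xx, ← c.τ_zero (v.B2 t), v.τ2] at i
    exact (mul_eq_zero.1 i).resolve_left v.ν0
  · simpa [v.ψ1] using (c.memC _ (v.A1 1)).2 i
theorem inj4' (h : D ≠ ⊥) (e : x4 s = x4 t) : s = t :=
  CharTwo.add_eq_zero.1 (v.inj4 h (by rw [v.add4, e, c.sq (v.C4 t).1]))
theorem onto4 (hd : d ∈ D) : ∃ t, x4 t = d := by
  by_cases h : D = ⊥
  · exact ⟨0, v.z4.trans (mem_bot.1 (h ▸ hd)).symm⟩
  obtain ⟨t, e⟩ := ((Nat.bijective_iff_injective_and_card fun t => (⟨x4 t, v.D4 t⟩ : D)).2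
    ⟨fun s t e => v.inj4' h (congrArg Subtype.val e), (c.cardD h).symm⟩).2 ⟨d, hd⟩
  exact ⟨t, congrArg Subtype.val e⟩
theorem key (r a : K) : y * x3 (r * a) * y⁻¹ * (y * x4 (r * a ^ 2) * y⁻¹) =
    x3 (α a * α.symm r) * x4 (α a * α.symm r ^ 2) := by
  rw [← c.inv (mul_mem (v.C3 (α a * _)) (v.C4 _)).1, ← v.cm, ← v.e2, ← v.e1,
    show ∀ u v : Γ, y * u * y⁻¹ * (y * v * y⁻¹) = y * (u * v) * y⁻¹ from fun u v => by group, ← v.cm]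
  calc _ = y * ((x2 r)⁻¹ * x1 a * (x2 r)⁻¹ * (x1 a)⁻¹) * y⁻¹ := by
        rw [c.inv (v.A1 a), c.symm.inv (v.A2 r)]
    _ = _ := by group

/-- the coordinates of `B` -/
def ev : Uc K →* Γ := MonoidHom.mk' (fun u => x1 u.a * x2 u.s * (x3 u.c * x4 u.d)) fun u u' => by
  simp only [Uc.mul_a, Uc.mul_s, Uc.mul_c, Uc.mul_d]
  rw [v.zadd, v.zadd, v.add1, v.add2, mul_assoc _ (x3 u.c * x4 u.d), ← mul_assoc (x3 u.c * x4 u.d) (x1 u'.a * _),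
    cen c (mul_mem (v.C3 _) (v.C4 _)) (mul_mem (v.B1 u'.a) (v.B2 u'.s)),
    cen c (mul_mem (mul_mem (v.C3 _) (v.C4 _)) (mul_mem (v.C3 _) (v.C4 _))) (c.AB (mul_mem (v.C3 _) (v.C4 _)).1)]
  calc _ = x1 u.a * (x1 u'.a * x2 u.s * (x2 u'.s * (x3 (u.s * u'.a) * x4 (u.s * u'.a ^ 2)))) *
        (x3 u.c * x4 u.d * (x3 u'.c * x4 u'.d)) := by simp only [mul_assoc]
    _ = _ := by
      rw [← cen c (mul_mem (v.C3 _) (v.C4 _)) (v.B2 u'.s), ← mul_assoc (x1 u'.a * _), ← v.sw21]; simp only [mul_assoc]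
theorem ev_def (u : Uc K) : v.ev u = x1 u.a * x2 u.s * (x3 u.c * x4 u.d) := rfl
theorem evB (u : Uc K) : v.ev u ∈ B := mul_mem (mul_mem (v.B1 _) (v.B2 _)) (c.AB (mul_mem (v.C3 _) (v.C4 _)).1)
theorem τ_ev (u : Uc K) : c.τ (v.ev u) = ν * u.s := by
  have m := (mul_mem (v.C3 u.c) (v.C4 u.d)).1
  rw [ev_def, c.τ_mul (mul_mem (v.B1 _) (v.B2 _)) (c.AB m), c.τ_mul (v.B1 _) (v.B2 _), v.τ2,
    (c.τ_zero (v.B1 _)).2 (v.A1 _), (c.τ_zero (c.AB m)).2 m, zero_add, add_zero]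
theorem evA {u : Uc K} : v.ev u ∈ A ↔ u.s = 0 := by
  rw [← c.τ_zero (v.evB u), v.τ_ev, mul_eq_zero, or_iff_right v.ν0]
theorem ψ_ev (a t d : K) : c.ψ (v.ev ⟨a, 0, t, d⟩) = ![ν * t, a] := by
  rw [ev_def, v.z2, mul_one, c.mul _ (v.A1 _) _ (mul_mem (v.C3 _) (v.C4 _)).1, c.mul _ (v.C3 _).1 _ (v.C4 _).1, v.ψ1,
    v.ψ3, c.ψD (v.D4 _)]
  exact vx (by simp) (by simp)
theorem ker (u : Uc K) : v.ev u = 1 ↔ u.a = 0 ∧ u.s = 0 ∧ u.c = 0 ∧ (D ≠ ⊥ → u.d = 0) := by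
  obtain ⟨a, s, t, d⟩ := u
  refine ⟨fun e => ?_, ?_⟩
  · obtain rfl : s = 0 := v.evA.1 (e ▸ one_mem A)
    have := v.ψ_ev a t d
    rw [e, c.ψ_one] at this
    obtain rfl : a = 0 := (congrFun this 1).symm
    obtain rfl : t = 0 := (mul_eq_zero.1 (congrFun this 0).symm).resolve_left v.ν0
    exact ⟨rfl, rfl, rfl, fun h => v.inj4 h (by simpa [ev_def, v.z1, v.z2, v.z3] using e)⟩
  · rintro ⟨rfl, rfl, rfl, h⟩
    rw [ev_def, v.z1, v.z2, v.z3]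
    by_cases k : D = ⊥
    · simpa using mem_bot.1 (k ▸ v.D4 d)
    · simpa [show d = 0 from h k] using v.z4
theorem ontoA (ha : a ∈ A) : ∃ u, u.s = 0 ∧ v.ev u = a := by
  have m : v.ev ⟨c.ψ a 1, 0, ν⁻¹ * c.ψ a 0, 0⟩ ∈ A := v.evA.2 rfl
  obtain ⟨t, e⟩ := v.onto4 ((c.eq_iff m ha).1 (by
    rw [v.ψ_ev, mul_inv_cancel_left₀ v.ν0]; exact vx rfl rfl))
  refine ⟨⟨c.ψ a 1, 0, ν⁻¹ * c.ψ a 0, 0⟩ * ⟨0, 0, 0, t⟩, by simp, ?_⟩
  rw [map_mul, v.ev_def ⟨0, 0, 0, t⟩, v.z1, v.z2, v.z3, one_mul, one_mul, one_mul, e, ← mul_assoc, c.sq m, one_mul]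
theorem eA : (UA K).map v.ev = A := le_antisymm (map_le_iff_le_comap.2 fun _ h => v.evA.2 h) fun _ h => v.ontoA h
theorem eR : v.ev.range = B := le_antisymm (by rintro _ ⟨u, rfl⟩; exact v.evB u) fun b hb => by
  obtain ⟨u, -, e⟩ := v.ontoA ((c.τ_zero (mul_mem hb (v.B2 (ν⁻¹ * c.τ b)))).1 (by
    rw [c.τ_mul hb (v.B2 _), v.τ2, mul_inv_cancel_left₀ v.ν0, aa]))
  refine ⟨u * ⟨0, ν⁻¹ * c.τ b, 0, 0⟩, ?_⟩
  rw [map_mul, e, ev_def, v.z1, v.z3, v.z4, one_mul, mul_one, mul_one, mul_assoc, c.symm.sq (v.A2 _), mul_one]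
theorem dgO (ho : o ∈ O) (m : c.M o σ p 0 0 s) (p0 : p ≠ 0) (s0 : s ≠ 0) : Dg v.ev o σ s (p * σ ν / (s * ν)) :=
  ⟨s0, div_ne_zero (mul_ne_zero p0 ((map_ne_zero σ).2 v.ν0)) (mul_ne_zero s0 v.ν0), fun u => by
    rw [ev_def, ev_def]
    simp only [H4.MF.dg]
    rw [← v.act1 ho m, ← v.act2 ho m s0, ← v.act3 ho m s0, ← v.act4 ho m s0]; group⟩
theorem conj_ev (u : Uc K) : y * v.ev u * y⁻¹ = x1 (α.symm u.s) * x2 (α u.a) * (x3 (α u.a * α.symm u.s) *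
    x4 (α u.a * α.symm u.s ^ 2) * (y * x3 u.c * y⁻¹ * (y * x4 u.d * y⁻¹))) := by
  rw [← mul_assoc, ← v.sw21, ← v.e1, ← v.e2, ev_def]; group

theorem cb0 (h : D = ⊥) : ∃ ρ, Cb false ρ v.ev y := by
  have k4 : ∀ d, x4 d = 1 := fun d => mem_bot.1 (h ▸ v.D4 d)
  have k : ∀ r a, y * x3 (r * a) * y⁻¹ = x3 (α a * α.symm r) := fun r a => by simpa [k4] using v.key r a
  have k1 : ∀ r, y * x3 r * y⁻¹ = x3 (α.symm r) := fun r => by simpa [v.α1] using k r 1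
  have k2 : ∀ r a, α.symm (r * a) = α a * α.symm r := fun r a => v.inj3 ((k1 _).symm.trans (k r a))
  have k3 : ∀ a, α.symm a = α a := fun a => by simpa [α.symm_apply_eq.2 v.α1.symm] using k2 1 a
  refine ⟨{ α.symm with map_mul' := fun a b => ?_ }, .inl (v.q.resolve_right (not_not.2 h)), fun u => ?_,
    fun _ a => ?_, fun e => by simp at e, v.yy, fun u => ?_⟩
  · exact (k2 a b).trans (by rw [← k3, mul_comm]; rfl)
  · simp [v.ker, h]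
  · show α.symm (α.symm a) = a
    rw [k3 a, α.symm_apply_apply]
  · rw [v.conj_ev, ev_def]
    show _ = x1 (α.symm u.s) * x2 (α.symm u.a) * (x3 (α.symm u.c + α.symm u.a * α.symm u.s) * x4 0)
    simp only [k4, k1, mul_one, mul_inv_cancel, ← k3, add_comm (α.symm u.c), v.add3]

theorem cb1 (h : D ≠ ⊥) : ∃ ρ, Cb true ρ v.ev y := by
  have k : ∀ r a, y * x3 (r * a) * y⁻¹ = x4 (α a * α.symm r ^ 2) ∧ y * x4 (r * a ^ 2) * y⁻¹ = x3 (α a * α.symm r) :=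
    fun r a => by
      have e := v.key r a
      have m1 : y * x3 (r * a) * y⁻¹ ∈ D := c.xxD ▸ conj_mem_cj y (v.D3 h _)
      have m2 := conj_mem_cj y (v.D4 (r * a ^ 2))
      rw [cen c (v.C3 _) (c.AB (v.C4 _).1), ← inv_mul_eq_iff_eq_mul, ← mul_assoc, ← eq_mul_inv_iff_mul_eq] at e
      have := mem_bot.1 (c.d0 ▸ mem_inf.2 ⟨mul_mem (inv_mem (v.D4 _)) m1, e ▸ mul_mem (v.D3 h _) (inv_mem m2)⟩)
      exact ⟨(inv_mul_eq_one.1 this).symm, (mul_inv_eq_one.1 (e ▸ this)).symm⟩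
  have k1 : ∀ r, y * x3 r * y⁻¹ = x4 (α.symm r ^ 2) := fun r => by simpa [v.α1] using (k r 1).1
  have k4 : ∀ r, y * x4 r * y⁻¹ = x3 (α.symm r) := fun r => by simpa [v.α1] using (k r 1).2
  have k2 : ∀ r a, α.symm (r * a) ^ 2 = α a * α.symm r ^ 2 := fun r a => v.inj4' h ((k1 _).symm.trans (k r a).1)
  have k3 : ∀ a, α.symm a ^ 2 = α a := fun a => by simpa [α.symm_apply_eq.2 v.α1.symm] using k2 1 a
  refine ⟨{ α.symm with map_mul' := fun a b => ?_ }, .inr rfl, fun u => ?_, fun e => by simp at e,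
    fun _ a => ?_, v.yy, fun u => ?_⟩
  · refine frobenius_inj K 2 ?_
    show α.symm (a * b) ^ 2 = (α.symm a * α.symm b) ^ 2
    rw [k2, ← k3]; ring
  · simp [v.ker, h]
  · show α.symm (α.symm a) ^ 2 = a
    rw [k3, α.apply_symm_apply]
  · rw [v.conj_ev, ev_def]
    show _ = x1 (α.symm u.s) * x2 (α.symm u.a ^ 2) * (x3 (α.symm u.d + α.symm u.a ^ 2 * α.symm u.s) *
      x4 (α.symm u.c ^ 2 + α.symm u.a ^ 2 * α.symm u.s ^ 2))
    rw [k1, k4, ← k3, add_comm (α.symm u.d), add_comm (α.symm u.c ^ 2), v.zadd, cen c (v.C4 (α.symm u.c ^ 2))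
      (c.AB (v.C3 _).1)]

theorem cz' {ε : Bool} {ρ : K ≃+* K} (k : Cb ε ρ v.ev y) : ∃ w, Cz ε ρ F v.ev y w (O ⊔ zpowers y) := by
  obtain ⟨w, w1, w2, w3, m⟩ := v.ww ν v.ν0
  have yO : y ∉ O := fun h => c.x_nA (v.OA h)
  have dO : ∀ o ∈ O, ∃ σ l m, Dg v.ev o σ l m := fun o ho =>
    let ⟨σ, p, s, p0, s0, m⟩ := v.diag o ho; ⟨_, _, _, v.dgO ho m p0 s0⟩
  refine ⟨w, ⟨k, fun t => ⟨fun ht => ?_, ?_⟩⟩, ⟨mem_sup_right (mem_zpowers y), fun z hz => (v.memY hz).imp (dO _) (dO _),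
    fun z hz h => ?_, ?_, fun t t0 => ?_⟩, c.sat, fun z hz P h1 h2 => ?_, v.eR.symm ▸ v.nb, fun a t d => ?_,
    v.eA.symm ▸ c.T_of w1 (le_N c.AT) ((mem_nz.1 (c.nH w1)).le.trans (le_N c.AT)), ?_⟩
  · by_cases h : t ∈ B
    · exact (v.eR.ge h).imp fun u e => .inl e.symm
    · exact (v.eR.ge (v.tw t ht y c.xT h c.xnB)).imp fun u e => .inr (by rw [e, mul_assoc, v.yy, mul_one])
  · rintro ⟨u, rfl | rfl⟩
    exacts [c.BT (v.evB u), mul_mem (c.BT (v.evB u)) c.xT]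
  · rw [v.eR] at h
    exact (v.memY hz).elim (fun i => v.fth z i h) fun i => absurd ((mul_mem_cancel_right
      (cz_le_nz A (cz_anti c.AB h))).1 (v.OA i)) c.x_nA
  · rw [card_of_tr (ι := Bool) le_sup_left (fun b => if b then y else 1) (fun b => by
      cases b; exacts [one_mem _, mem_sup_right (mem_zpowers y)]) (fun i j => by cases i <;> cases j <;> simp [yO])
      fun a ha => (v.memY ha).elim (fun i => ⟨false, by simpa using i⟩) fun i => ⟨true, by simpa [v.yi] using i⟩]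
    obtain ⟨n, e⟩ := v.odd
    rw [e, Nat.card_eq_fintype_card, Fintype.card_bool]
    omega
  · obtain ⟨o, ho, -, m⟩ := v.tor t t0
    have := v.dgO ho m t0 (inv_ne_zero t0)
    have n := v.ν0
    rw [RingEquiv.refl_apply, show t * ν / (t⁻¹ * ν) = t ^ 2 by field_simp] at this
    exact ⟨o, mem_sup_left ho, this⟩
  · refine (v.memY hz).elim (fun i => v.TY z i P h1 h2) fun i => ?_
    simpa [← mul_assoc, v.yy] using (v.TY _ i P h1 (cj_cj y z P ▸ cj_le_of_mem c.xT h2)).mul_mem c.xT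
  · have i1 : w * x1 a * w⁻¹ = x3 a := v.uniq (conj_mem_of_mem_nz w3 (v.V1 a)) (v.V3 _) (by
      rw [m _ (v.A1 a), v.ψ1, v.ψ3]; exact vx (by simp) (by simp))
    have i3 : w * x3 t * w⁻¹ = x1 t := v.uniq (conj_mem_of_mem_nz w3 (v.V3 t)) (v.V1 _) (by
      rw [m _ (v.C3 t).1, v.ψ1, v.ψ3]; exact vx (by simp) (by simp [v.ν0]))
    rw [ev_def, ev_def, v.z2, mul_one, mul_one, ← mul_assoc (x1 t), ← cen c (v.C3 a) (v.B1 t), ← i1, ← i3]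
    conv_rhs => rw [← mem_cz.1 w2 _ (v.D4 d)]
    group
  · simp only [Bor, v.eA, v.eR]
    exact fun a => brw c w1 m

end Rt

theorem Vd.fin (v : Vd c O V) : ∃ ε ρ ev w, Cz (K := K) ε ρ F ev y w (O ⊔ zpowers y) ∧ (D ≠ ⊥ → ε = true) := by
  obtain ⟨ν, α, x1, x2, x3, x4, r⟩ := v.rt
  by_cases h : D = ⊥
  · obtain ⟨ρ, k⟩ := r.cb0 h
    obtain ⟨w, k⟩ := r.cz' k
    exact ⟨_, _, _, w, k, fun e => absurd h e⟩
  · obtain ⟨ρ, k⟩ := r.cb1 h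
    obtain ⟨w, k⟩ := r.cz' k
    exact ⟨_, _, _, w, k, fun _ => rfl⟩

end H12.MF
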