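import Cfsg.Agent.H12.MF3

/-! Minimal `2`-fusion systems, pushing-up case: chunks XX and Q2. -/

set_option autoImplicit false
set_option linter.unusedVariables false
set_option linter.unusedSectionVars false

namespace H12.MF
open Subgroup H25 H25.FS H4.MF

universe u
variable {K : Type} [Field K] [Finite K] [CharP K 2] {Γ : Type u} [Group Γ] [Finite Γ] {F : FS Γ}
  {B A D H L O V P : Subgroup Γ} {x y z a b d g h k o o' w : Γ} {σ : K ≃+* K} {p q q' r s t ν : K}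

theorem nz_iff (h : g ∈ nz P) : g * a * g⁻¹ ∈ P ↔ a ∈ P := by
  conv_lhs => rw [← mem_nz.1 h]
  exact conj_mem_cj_iff

theorem chg (c : Cg K F B A D H x) (tw : Tw F.S B) (hy : y ∈ F.S) (n : y ∉ B) : Nonempty (Cg K F B A D H y) := by
  have hb := tw y hy _ (inv_mem c.xT) n (mt inv_mem_iff.1 c.xnB)
  have eA : cj y A = cj x A := by rw [← inv_mul_cancel_right y x, ← cj_cj, mem_nz.1 (c.nA₂ hb)]
  have eD : cj y D = cj x D := by
    rw [← inv_mul_cancel_right y x, ← cj_cj, mem_nz.1 (cz_le_nz _ (cz_anti c.D₂C (c.B_czC hb)))]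
  exact ⟨{ c with
    xT := hy
    xx := by rw [eA, ← inv_mul_cancel_right y x, ← cj_cj, c.xx, mem_nz.1 (c.nA hb)]
    eB := eA ▸ c.eB
    d0 := eD ▸ c.d0
    memC := eA ▸ c.memC }⟩

/-- change of coordinates by an element of `B` -/
def twb (c : Cg K F B A D H x) (hb : b ∈ B) : Cg K F B A D H x :=
  { c with
    ψ a := c.ψ (b * a * b⁻¹)
    mul a ha a' ha' := by
      rw [← c.mul _ (conj_mem_of_mem_nz (c.nA hb) ha) _ (conj_mem_of_mem_nz (c.nA hb) ha')]; congr 1; group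
    onto m := let ⟨a, ha, e⟩ := c.onto m
      ⟨_, conj_mem_of_mem_nz' (c.nA hb) ha, by rw [← e]; congr 1; group⟩
    ker a := by rw [← nz_iff (c.nD (c.BH hb)), c.ker, nz_iff (c.nA hb)]
    memC a ha := by rw [c.memC _ (conj_mem_of_mem_nz (c.nA hb) ha), nz_iff (c.nA₂ hb)]
    up b' hb' := (c.up _ (mul_mem (mul_mem hb hb') (inv_mem hb))).imp fun t e a ha => by
      rw [← e _ (conj_mem_of_mem_nz (c.nA hb) ha)]; congr 1; group
    up2 t := let ⟨b', hb', e⟩ := c.up2 t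
      ⟨_, mul_mem (mul_mem (inv_mem hb) hb') hb, fun a ha => by
        rw [← e _ (conj_mem_of_mem_nz (c.nA hb) ha)]; congr 1; group⟩
    sl g := let ⟨e, e1, e2, e3⟩ := c.sl g
      ⟨_, mul_mem (mul_mem (inv_mem (c.BH hb)) e1) (c.BH hb), conj_mem_of_mem_nz' (mem_nz_cz (c.nD (c.BH hb))) e2,
        fun a ha => by rw [← e3 _ (conj_mem_of_mem_nz (c.nA hb) ha)]; congr 1; group⟩
    semi h hh := (c.semi _ (mul_mem (mul_mem (c.BH hb) hh) (inv_mem (c.BH hb)))).imp fun σ e a ha a' ha' k m => by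
      have := e _ (conj_mem_of_mem_nz (c.nA hb) ha) _ (conj_mem_of_mem_nz (c.nA hb) ha') k m
      convert this using 2
      · group
      · congr 1; group
    fth h hh e := (nz_iff (c.nA hb)).1 (c.fth _ (mul_mem (mul_mem (c.BH hb) hh) (inv_mem (c.BH hb))) fun a ha => by
      have := e _ (conj_mem_of_mem_nz' (c.nA hb) ha)
      convert this using 2 <;> group) }

theorem inv_ne (t0 : t ≠ 0) (t1 : t ≠ 1) : t + t⁻¹ ≠ 0 := fun e => t1 (H28.GC.eq_one_of_pow (k := 1) (by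
  rw [pow_one, sq, ← mul_inv_cancel₀ t0, ← CharTwo.add_eq_zero.1 e]))

variable (c : Cg K F B A D H y)
include c

theorem exists_dg (ho : o ∈ nz A) (m : c.M o (.refl K) t q 0 t⁻¹) (t0 : t ≠ 0) (t1 : t ≠ 1) :
    ∃ c' : Cg K F B A D H y, c'.M o (.refl K) t 0 0 t⁻¹ := by
  obtain ⟨b, hb, e⟩ := c.τ_onto (q / (t + t⁻¹))
  have hb' := c.A₂B hb
  have := ((c.M_B hb').mul m ho).mul (c.M_B hb') (c.nA hb')
  refine ⟨twb c hb', fun a ha => ?_⟩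
  have i := this _ (conj_mem_of_mem_nz (c.nA hb') ha)
  rw [show b * o * b * (b * a * b⁻¹) * (b * o * b)⁻¹ = b * (o * (b * b * a * (b * b)⁻¹) * o⁻¹) * b⁻¹ by group,
    c.symm.sq hb, one_mul, inv_one, mul_one, e] at i
  refine i.trans (vx ?_ ?_)
  · have := inv_ne t0 t1
    have k : t * (q / (t + t⁻¹)) + (q + q / (t + t⁻¹) * t⁻¹) = 0 := by
      rw [add_left_comm, mul_comm _ t⁻¹, ← add_mul, mul_div_cancel₀ _ this, aa]
    simp [twb, k]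
  · simp [twb]

theorem eqA (m : c.M h σ p q r s) (m' : c.M k σ p q r s) (hh : h ∈ H) (hk : k ∈ H) : k⁻¹ * h ∈ A :=
  c.fth _ (mul_mem (inv_mem hk) hh) fun a ha => by
    have := conj_mem_of_mem_nz' (c.nD hk) ((c.eq_iff (conj_mem_of_mem_nz (c.nH hh) ha)
      (conj_mem_of_mem_nz (c.nH hk) ha)).1 ((m a ha).trans (m' a ha).symm))
    rw [c.eq_iff (conj_mem_of_mem_nz (c.nH (mul_mem (inv_mem hk) hh)) ha) ha]
    convert this using 1; group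

theorem upT (t : F.T B g) (h1 : g ∈ nz A) (h2 : g ∈ nz B) :
    ∃ h ∈ H, Agree B g h ∧ ∃ σ p q s, p ≠ 0 ∧ s ≠ 0 ∧ c.M h σ p q 0 s := by
  obtain ⟨h, hh, e⟩ := c.real t c.AB c.nA h1
  obtain ⟨σ, p, q, r, s, m⟩ := c.exM hh
  obtain rfl := m.r_zero (c.nz_C (e.symm.mem_nz h2))
  have := m.det hh
  rw [mul_zero, sub_zero] at this
  exact ⟨h, hh, e, σ, p, q, s, left_ne_zero_of_mul this, right_ne_zero_of_mul this, m⟩

theorem sq_one (h : y * y ∈ D) : y * y = 1 :=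
  mem_bot.1 (c.d0 ▸ mem_inf.2 ⟨h, by simpa [mul_assoc] using conj_mem_cj y h⟩)

theorem swA (h1 : g ∈ nz B) (h2 : g ∉ nz A) : y * g ∈ nz A :=
  mem_nz.2 (by rw [← cj_cj, ((c.swap h1).resolve_left fun e => h2 e.1).1, c.xx])

/-- the commutator of `A` with `o` -/
def cmV (ho : o ∈ nz A) : Subgroup Γ where
  carrier := {v | ∃ a ∈ A, o * a * o⁻¹ * a = v}
  one_mem' := ⟨1, one_mem _, by simp⟩
  mul_mem' := by
    rintro _ _ ⟨a, ha, rfl⟩ ⟨b, hb, rfl⟩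
    refine ⟨_, mul_mem ha hb, ?_⟩
    rw [mul_assoc _ a, ← mul_assoc a (o * b * o⁻¹), c.comm ha (conj_mem_of_mem_nz ho hb)]; group
  inv_mem' := by
    rintro _ ⟨a, ha, rfl⟩
    exact ⟨a, ha, (c.inv (mul_mem (conj_mem_of_mem_nz ho ha) ha)).symm⟩

section
variable (oc : Oc F B A L O y) (wc : F.WC B)
include oc wc

theorem LB : L ≤ nz B := (oc.mdl.nm_iff.1 (nm_NF c.BT)).2
theorem BL : B ≤ L := (le_N c.BT).trans oc.mdl.le
theorem TL (hg : g ∈ L) (h1 : P ≤ F.S) (h2 : cj g P ≤ F.S) : F.T P g :=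
  (oc.mdl.T_of_mem (le_inf h1 (h1.trans wc.S_le_nz)) hg (le_inf h2 (h2.trans wc.S_le_nz))).of_le (NK_le _ _ _)
theorem TB' (hg : g ∈ L) : F.T B g := TL c oc wc hg c.BT ((mem_nz.1 (LB c oc wc hg)).le.trans c.BT)
theorem realL (l : B ≤ P) (t : F.T P g) : ∃ k ∈ L, Agree P g k :=
  (oc.mdl.T_iff.1 (t.toNK (wc.mem_nz t l) le_rfl l (t.le.trans wc.S_le_nz))).2.2
theorem cL : L ⊓ cz B ≤ B :=
  oc.mdl.inf_cz_le (nm_NF c.BT) ((c.cen.mono c.AB c.BT).of_le (NK_le _ _ _) (le_N c.BT))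
theorem OB1 (ho : o ∈ O) (hb : o ∈ B) : o = 1 := by
  obtain ⟨n, e⟩ := IsPGroup.iff_card.1 c.pgB
  exact mem_bot.1 (inf_eq_bot_of_coprime (e ▸ oc.odd.coprime_two_right.pow_right n) ▸ mem_inf.2 ⟨ho, hb⟩)
theorem upO (ho : o ∈ O) : ∃ σ p q s, p ≠ 0 ∧ s ≠ 0 ∧ c.M o σ p q 0 s :=
  let ⟨_, _, e, σ, p, q, s, p0, s0, m⟩ := upT c (TB' c oc wc (oc.OL ho)) (oc.OA ho) (LB c oc wc (oc.OL ho))
  ⟨σ, p, q, s, p0, s0, m.congr (e.mono c.AB)⟩
theorem O_eq (ho : o ∈ O) (ho' : o' ∈ O) (m : c.M o σ p q 0 s) (m' : c.M o' σ p q' 0 s) (s0 : s ≠ 0) : o = o' := by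
  obtain ⟨h, hh, e⟩ := c.real (TB' c oc wc (oc.OL ho)) c.AB c.nA (oc.OA ho)
  obtain ⟨k, hk, e'⟩ := c.real (TB' c oc wc (oc.OL ho')) c.AB c.nA (oc.OA ho')
  obtain ⟨b, hb, i⟩ := c.τ_onto ((q' - q) / s)
  have hb' := c.A₂B hb
  have j := (c.M_B hb').mul (m.congr (e.mono c.AB).symm) (c.nH hh)
  simp only [i, RingEquiv.refl_apply, one_mul, mul_zero, add_zero, zero_mul, zero_add, div_mul_cancel₀ _ s0,
    add_sub_cancel] at j
  have l := mul_mem (conj_mem_of_mem_nz' (e'.symm.mem_nz (LB c oc wc (oc.OL ho'))) (inv_mem hb'))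
    (c.AB (eqA c j (m'.congr (e'.mono c.AB).symm) (mul_mem (c.BH hb') hh) hk))
  rw [show k⁻¹ * b⁻¹ * k * (k⁻¹ * (b * h)) = k⁻¹ * h by group] at l
  have n := e'.inv
  rw [mem_nz.1 (LB c oc wc (oc.OL ho')), ← mem_nz.1 (LB c oc wc (oc.OL ho))] at n
  have u := mul_mem (inv_mem ho') ho
  exact (inv_mul_eq_one.1 (OB1 c oc wc u ((mul_mem_cancel_left (inv_mem l)).1 (cL c oc wc (mem_inf.2
    ⟨mul_mem (inv_mem (BL c oc wc l)) (oc.OL u), agree_iff.1 (e.mul n)⟩))))).symm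
theorem torO (t0 : t ≠ 0) : ∃ o ∈ O, o ∈ cz D ∧ ∃ q, c.M o (.refl K) t q 0 t⁻¹ := by
  obtain ⟨e, e1, e2, m⟩ := c.sl' (p := t) (q := 0) (r := 0) (s := t⁻¹) (by simp [t0])
  have n := m.nzB e1
  obtain ⟨l, hl, i⟩ := realL c oc wc le_rfl (c.T_of e1 c.BN ((mem_nz.1 n).le.trans c.BN))
  obtain ⟨b, hb, o, ho, rfl⟩ := oc.dec l hl ((i.mono c.AB).symm.mem_nz (c.nH e1))
  have j := (c.M_B (inv_mem hb)).mul (m.congr (i.mono c.AB).symm) (mul_mem (c.nA hb) (oc.OA ho))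
  rw [inv_mul_cancel_left] at j
  refine ⟨o, ho, (mul_mem_cancel_left (cz_anti c.DC (c.B_czC hb))).1
    ((i.mono (c.DA.trans c.AB)).symm.mem_of_cz_le le_rfl e2), c.τ b⁻¹ * t⁻¹, ?_⟩
  simp only [RingEquiv.refl_apply, mul_zero, add_zero, zero_mul, zero_add, one_mul] at j
  exact j

variable {o₀ : Γ} (h₀ : o₀ ∈ O) (m₀ : c.M o₀ (.refl K) t 0 0 t⁻¹) (t0 : t ≠ 0) (t1 : t ≠ 1)
include h₀ m₀ t0 t1

theorem lin (ho : o ∈ O) (m : c.M o (.refl K) p q 0 s) (s0 : s ≠ 0) : o₀ * o = o * o₀ ∧ q = 0 := by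
  have i := m₀.mul m (oc.OA ho)
  have j := m.mul m₀ (oc.OA h₀)
  simp only [RingEquiv.refl_apply, mul_zero, add_zero, zero_mul, zero_add] at i j
  rw [mul_comm p, mul_comm s] at j
  have e := O_eq c oc wc (mul_mem h₀ ho) (mul_mem ho h₀) i j (mul_ne_zero (inv_ne_zero t0) s0)
  have := ((e ▸ i).uniq j).2.1
  exact ⟨e, (mul_eq_zero.1 (by rw [add_mul, this, mul_comm, aa] : (t + t⁻¹) * q = 0)).resolve_left (inv_ne t0 t1)⟩

theorem diagO (ho : o ∈ O) : o₀ * (o * o₀ * o⁻¹) = o * o₀ * o⁻¹ * o₀ ∧ ∃ σ p s, p ≠ 0 ∧ s ≠ 0 ∧ c.M o σ p 0 0 s := by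
  have h₁ := mul_mem (mul_mem ho h₀) (inv_mem ho)
  obtain ⟨σ, p, q, s, p0, s0, m⟩ := upO c oc wc ho
  obtain ⟨σ', p', q', s', p0', s0', m'⟩ := upO c oc wc h₁
  have i := m'.mul m (oc.OA ho)
  have j := m.mul m₀ (oc.OA h₀)
  rw [inv_mul_cancel_right] at i
  simp only [map_zero, mul_zero, add_zero, zero_mul, zero_add] at i j
  obtain rfl : σ' = .refl K := RingEquiv.ext fun a => by
    simpa using i.uσ j (mul_ne_zero p0' ((map_ne_zero σ').2 p0)) (σ.symm a)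
  obtain ⟨e, rfl⟩ := lin c oc wc h₀ m₀ t0 t1 h₁ m' s0'
  obtain ⟨e1, e2, -⟩ := i.uniq j
  simp only [RingEquiv.refl_apply, zero_mul, add_zero, map_inv₀] at e1 e2
  rw [mul_comm, mul_right_inj' p0] at e1
  obtain rfl : q = 0 := (mul_eq_zero.1 (by rw [add_mul, ← e1, e2, e1, mul_comm, aa] : (σ t + (σ t)⁻¹) * q = 0)).resolve_left
    (inv_ne ((map_ne_zero σ).2 t0) (σ.map_eq_one_iff.not.2 t1))
  exact ⟨e, σ, p, s, p0, s0, m⟩

theorem ψV (ha : a ∈ A) : c.ψ (o₀ * a * o₀⁻¹ * a) = ![(t + 1) * c.ψ a 0, (t⁻¹ + 1) * c.ψ a 1] := by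
  rw [c.mul _ (conj_mem_of_mem_nz (oc.OA h₀) ha) _ ha, m₀ a ha]
  exact vx (by simp [add_mul]) (by simp [add_mul])

theorem ontoV (m : Fin 2 → K) : ∃ v ∈ cmV c (oc.OA h₀), c.ψ v = m := by
  have n1 : t + 1 ≠ 0 := fun e => t1 (CharTwo.add_eq_zero.1 e)
  have n2 : t⁻¹ + 1 ≠ 0 := fun e => t1 (inv_eq_one.1 (CharTwo.add_eq_zero.1 e))
  obtain ⟨a, ha, e⟩ := c.onto ![m 0 / (t + 1), m 1 / (t⁻¹ + 1)]
  exact ⟨_, ⟨a, ha, rfl⟩, by
    rw [ψV c oc wc h₀ m₀ t0 t1 ha, e]; exact vx (mul_div_cancel₀ _ n1) (mul_div_cancel₀ _ n2)⟩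

theorem nV (hg : g ∈ nz A) (ho : o ∈ O) (h1 : o ∈ cz D) (h2 : o₀ * o = o * o₀) (e : Agree A (g * o₀ * g⁻¹) o) :
    g ∈ nz (cmV c (oc.OA h₀)) := mem_nz_of_conj_mem (by
  rintro _ ⟨a, ha, rfl⟩
  have ha' := conj_mem_of_mem_nz hg ha
  obtain ⟨_, ⟨b, hb, rfl⟩, i⟩ := ontoV c oc wc h₀ m₀ t0 t1 (c.ψ (g * a * g⁻¹))
  have hv := mul_mem (conj_mem_of_mem_nz (oc.OA h₀) hb) hb
  have hd := (c.eq_iff hv ha').1 i
  rw [show g * (o₀ * a * o₀⁻¹ * a) * g⁻¹ = g * o₀ * g⁻¹ * (g * a * g⁻¹) * (g * o₀ * g⁻¹)⁻¹ * (g * a * g⁻¹) by group,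
    e _ ha', ← inv_mul_cancel_left (o₀ * b * o₀⁻¹ * b) (g * a * g⁻¹), c.inv hv]
  generalize o₀ * b * o₀⁻¹ * b * (g * a * g⁻¹) = d at hd
  rw [show ∀ v, o * (v * d) * o⁻¹ * (v * d) = o * v * o⁻¹ * (o * d * o⁻¹ * v * d) from fun v => by group,
    mem_cz.1 h1 d hd, c.comm (c.DA hd) hv, mul_assoc _ d, c.sq (c.DA hd), mul_one]
  refine mul_mem ⟨_, conj_mem_of_mem_nz (oc.OA ho) hb, ?_⟩ ⟨b, hb, rfl⟩
  calc _ = o₀ * o * b * (o₀ * o)⁻¹ * (o * b * o⁻¹) := by group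
    _ = _ := by rw [h2]; group)

theorem vd (tw : Tw F.S B) (q : 4 ≤ Nat.card K) (d₀ : o₀ ∈ cz D) : Vd c O (cmV c (oc.OA h₀)) := by
  have n1 : t + 1 ≠ 0 := fun e => t1 (CharTwo.add_eq_zero.1 e)
  have n2 : t⁻¹ + 1 ≠ 0 := fun e => t1 (inv_eq_one.1 (CharTwo.add_eq_zero.1 e))
  have OB := oc.OL.trans (LB c oc wc)
  have tor : ∀ s : K, s ≠ 0 → ∃ o ∈ O, o ∈ cz D ∧ c.M o (.refl K) s 0 0 s⁻¹ := fun s s0 => by
    obtain ⟨o, ho, h1, q, m⟩ := torO c oc wc s0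
    obtain rfl := (lin c oc wc h₀ m₀ t0 t1 ho m (inv_ne_zero s0)).2
    exact ⟨o, ho, h1, m⟩
  refine ⟨oc.yy, tw, .inl q, ?_, ?_, ontoV c oc wc h₀ m₀ t0 t1, fun d hd => ?_, fun o ho => ?_, oc.OA, OB, oc.yO,
    fun o ho => (diagO c oc wc h₀ m₀ t0 t1 ho).2, tor, fun ν n0 => ?_, oc.odd,
    fun o ho h => OB1 c oc wc ho (cL c oc wc ⟨oc.OL ho, h⟩), fun o ho P => TL c oc wc (oc.OL ho), fun P g l t => ?_⟩
  · rintro _ ⟨a, ha, rfl⟩
    exact mul_mem (conj_mem_of_mem_nz (oc.OA h₀) ha) ha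
  · rintro _ ⟨a, ha, rfl⟩ h
    have := (ψV c oc wc h₀ m₀ t0 t1 ha).symm.trans (c.ψD h)
    rw [mem_cz.1 d₀ a (c.memD ha (vx ((mul_eq_zero.1 (congrFun this 0)).resolve_left n1)
      ((mul_eq_zero.1 (congrFun this 1)).resolve_left n2))), c.sq ha]
  · by_cases h : D = ⊥
    · rw [h, cj_bot] at hd
      exact mem_bot.1 hd ▸ one_mem _
    obtain ⟨a, ha, e⟩ := c.dq h (c.ψ d 0 / (t + 1))
    have m := mul_mem (conj_mem_of_mem_nz (c.symm.nD_of (TB' c oc wc (oc.OL h₀)) (c.n₂_of (OB h₀) (oc.OA h₀))) ha) ha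
    refine ⟨a, c.D₂A ha, ?_⟩
    rw [← c.inv (c.D₂A hd), ← mul_eq_one_iff_eq_inv]
    refine c.d2_eq (mul_mem m hd) ?_
    rw [c.mul _ (c.D₂A m) _ (c.D₂A hd), ψV c oc wc h₀ m₀ t0 t1 (c.D₂A ha), e]
    simp [mul_div_cancel₀ _ n1, aa]
  · exact nV c oc wc h₀ m₀ t0 t1 (oc.OA ho) (mul_mem (mul_mem ho h₀) (inv_mem ho)) (conj_mem_of_mem_nz
      (mem_nz_cz (c.nD_of (TB' c oc wc (oc.OL ho)) (oc.OA ho))) d₀) (diagO c oc wc h₀ m₀ t0 t1 ho).1 (.refl _ _)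
  · obtain ⟨w, w1, w2, m⟩ := c.sl' (p := 0) (q := ν) (r := ν⁻¹) (s := 0) (by simp [n0, CharTwo.neg_eq])
    obtain ⟨o, ho, h1, m1⟩ := tor _ (inv_ne_zero t0)
    obtain ⟨h, hh, e⟩ := c.real (TB' c oc wc (oc.OL h₀)) c.AB c.nA (oc.OA h₀)
    obtain ⟨k, hk, e'⟩ := c.real (TB' c oc wc (oc.OL ho)) c.AB c.nA (oc.OA ho)
    replace e := e.mono c.AB
    replace e' := e'.mono c.AB
    have i := m.mul (m₀.congr e.symm) (c.nH hh)
    have j := (m1.congr e'.symm).mul m (c.nH w1)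
    simp only [RingEquiv.refl_apply, mul_zero, add_zero, zero_mul, zero_add, inv_inv] at i j
    rw [mul_comm ν, mul_comm ν⁻¹] at i
    have l := agree_iff.2 (c.czA (eqA c i j (mul_mem w1 hh) (mul_mem hk w1)))
    have n := mem_nz.1 (c.nH w1)
    have l' := Agree.mul_right (k := w⁻¹) ((mem_nz.1 (c.nH (inv_mem w1))).symm ▸ l)
    rw [mul_inv_cancel_right] at l'
    exact ⟨w, w1, w2, nV c oc wc h₀ m₀ t0 t1 (c.nH w1) ho h1 (lin c oc wc h₀ m₀ t0 t1 ho m1 (by simpa using t0)).1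
      ((n ▸ e.conj w).trans (l'.trans e'.symm)), m⟩
  · obtain ⟨k, hk, e⟩ := realL c oc wc l t
    by_cases h : k ∈ nz A
    · obtain ⟨b, hb, o, ho, rfl⟩ := oc.dec k hk h
      exact ⟨b, hb, o, mem_sup_left ho, e⟩
    · obtain ⟨b, hb, o, ho, i⟩ := oc.dec _ (mul_mem (oc.mdl.le ⟨oc.yT, c.xB⟩) hk) (swA c (LB c oc wc hk) h)
      refine ⟨_, conj_mem_of_mem_nz' c.xB hb, _, mul_mem (inv_mem (mem_sup_right (mem_zpowers y))) (mem_sup_left ho), ?_⟩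
      rwa [show y⁻¹ * b * y * (y⁻¹ * o) = y⁻¹ * (b * o) by group, ← i, inv_mul_cancel_left]

end

section
variable (tw : Tw F.S B) (q2 : Nat.card K = 2) (d0 : D ≠ ⊥)
include tw q2 d0

omit c tw d0 in
theorem two (h : t ≠ 0) : t = 1 := ((Nat.card_eq_two_iff' 0).1 q2).unique h one_ne_zero

theorem inv1 : ∃ y, Nonempty (Cg K F B A D H y) ∧ y * y ∈ A := by
  have u := tw y c.xT y c.xT c.xnB c.xnB
  by_cases h : y * y ∈ A
  · exact ⟨y, ⟨c⟩, h⟩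
  obtain ⟨a, ha, n⟩ := c.exists_nC
  have a2 := c.A₂B (conj_mem_cj y ha)
  refine ⟨a * y, chg c tw (mul_mem (c.AT ha) c.xT) (mt (mul_mem_cancel_left (c.AB ha)).1 c.xnB), ?_⟩
  rw [show a * y * (a * y) = a * (y * a * y⁻¹ * (y * y)) by group, mul_mem_cancel_left ha, ← c.τ_zero (mul_mem a2 u),
    c.τ_mul a2 u, two q2 (mt (c.τ_zero u).1 h), two q2 (mt (c.τ_zero a2).1 fun e => n (conj_mem_cj_iff.1 (c.xx.ge e))), aa]

theorem inv2 (h : y * y ∈ A) : ∃ y, Nonempty (Cg K F B A D H y) ∧ y * y = 1 := by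
  by_cases k : y * y ∈ D
  · exact ⟨y, ⟨c⟩, sq_one c k⟩
  obtain ⟨⟨d, hd⟩, n⟩ := ne_bot_iff_exists_ne_one.1 d0
  obtain ⟨c'⟩ := chg c tw (mul_mem (c.AT (c.DA hd)) c.xT) (mt (mul_mem_cancel_left (c.AB (c.DA hd))).1 c.xnB)
  have d2 := conj_mem_cj y hd
  have i : c.ψ (y * y) 1 = 0 := (c.memC _ h).2 (by simpa [mul_assoc] using conj_mem_cj y h)
  refine ⟨_, ⟨c'⟩, sq_one c' ?_⟩
  rw [show d * y * (d * y) = d * (y * d * y⁻¹ * (y * y)) by group, mul_mem_cancel_left hd, ← c.eq_iff (c.D₂A d2) h]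
  refine vx ((two q2 fun e => n (Subtype.ext ?_)).trans (two q2 fun e => k (c.memD h (vx e i))).symm)
    (((c.memC _ (c.D₂A d2)).2 (c.D₂A₂ d2)).trans i.symm)
  simpa using c.d2_eq d2 e

theorem vd2 (wc : F.WC B) (yy : y * y = 1) : ∃ V, Vd c ⊥ V := by
  obtain ⟨w, w1, w2, m⟩ := c.sl' (p := 0) (q := 1) (r := 1) (s := 0) (by simp [CharTwo.neg_eq])
  have l : cj w (cj y D) ≤ A := (cj_mono w c.D₂A).trans (mem_nz.1 (c.nH w1)).le
  have k : ∀ a ∈ cj y D, ∀ b ∈ cj y D, c.ψ (a * (w * b * w⁻¹)) = ![c.ψ a 0, c.ψ b 0] := fun a ha b hb => by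
    rw [c.mul _ (c.D₂A ha) _ (l (conj_mem_cj w hb)), m b (c.D₂A hb)]
    exact vx (by simp [(c.memC _ (c.D₂A hb)).2 (c.D₂A₂ hb)]) (by simp [(c.memC _ (c.D₂A ha)).2 (c.D₂A₂ ha)])
  have n1 : ∀ g, F.T B g → g ∈ nz A → ∃ b ∈ B, Agree B g b := fun g t hg => by
    obtain ⟨h, hh, e, σ, p, r, s, p0, s0, m⟩ := upT c t hg (wc.mem_nz t le_rfl)
    obtain rfl : σ = .refl K := RingEquiv.ext fun a => (eq_or_ne a 0).elim (fun e => by simp [e])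
      fun e => by simp [two q2 e]
    rw [two q2 p0, two q2 s0] at m
    exact ⟨h, m.memB hh, e⟩
  refine ⟨cj y D ⊔ cj w (cj y D), yy, tw, .inr d0, sup_le c.D₂A l, fun v hv h => ?_, fun m => ?_, le_sup_left, bot_le,
    bot_le, bot_le, mem_nz.2 (cj_bot y), fun o ho => ⟨_, 1, 1, one_ne_zero, one_ne_zero, c.M_A (bot_le (a := A) ho)⟩,
    fun t t0 => ⟨1, one_mem _, one_mem _, by simpa [two q2 t0] using c.M_A (one_mem A)⟩,
    fun ν n0 => ⟨w, w1, w2, mem_nz.2 ?_, by simpa [two q2 n0] using m⟩, by simp, fun o ho _ => mem_bot.1 ho,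
    fun o ho P h _ => mem_bot.1 ho ▸ one h, fun P g l t => ?_⟩
  · obtain ⟨a, ha, _, hb, rfl⟩ := (mem_sup_of_le_nz_right (c.D₂A.trans (c.czA.trans ((cz_anti l).trans
      (cz_le_nz _))))).1 hv
    obtain ⟨b, hb', rfl⟩ := mem_cj'.1 hb
    have := (k a ha b hb').symm.trans (c.ψD h)
    simp [c.d2_eq ha (congrFun this 0), c.d2_eq hb' (congrFun this 1)]
  · obtain ⟨a, ha, e⟩ := c.dq d0 (m 0)
    obtain ⟨b, hb, e'⟩ := c.dq d0 (m 1)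
    exact ⟨_, mul_mem (mem_sup_left ha) (mem_sup_right (conj_mem_cj w hb)), by rw [k a ha b hb, e, e']; exact vx rfl rfl⟩
  · have := m.mul m (c.nH w1)
    simp only [RingEquiv.refl_apply, mul_zero, add_zero, mul_one, zero_add] at this
    rw [cj_sup, cj_cj w w, mem_nz.1 (cz_le_nz _ (cz_anti c.D₂A (c.czA (Cg.M.memA this (mul_mem w1 w1))))), sup_comm]
  · obtain ⟨s, hs, e⟩ : ∃ s ∈ F.S, Agree B g s := by
      by_cases h : g ∈ nz A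
      · exact (n1 g (t.mono l) h).imp fun b e => ⟨c.BT e.1, e.2⟩
      · obtain ⟨b, hb, e⟩ := n1 _ ((t.mono l).mul_mem c.xT) (swA c (wc.mem_nz t l) h)
        exact ⟨_, mul_mem (inv_mem c.xT) (c.BT hb), by simpa using e.mul_left y⁻¹⟩
    obtain ⟨z, hz, e'⟩ := c.sat.agree_center' (c.cen.mono c.AB c.BT) l (F.of_mem t.le hs) t e.symm
    have u := mul_mem hs (c.BT hz.1)
    by_cases h : s * z ∈ B
    · exact ⟨_, h, 1, one_mem _, by rwa [mul_one]⟩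
    · exact ⟨_, tw _ u y c.xT h c.xnB, y, mem_sup_right (mem_zpowers y), by rwa [mul_assoc _ y, yy, mul_one]⟩

end

omit c

theorem xx (K : Type) [Field K] [Finite K] [CharP K 2] (Γ : Type u) [Group Γ] [Finite Γ] : XX K Γ :=
  fun F B A D H L O x y c _ tw wc q oc => by
    obtain ⟨c⟩ := chg c tw oc.yT oc.yB
    obtain ⟨t, t0, t1⟩ : ∃ t : K, t ≠ 0 ∧ t ≠ 1 := by
      by_contra! e
      have := Nat.card_le_card_of_surjective (![0, 1] : Fin 2 → K) fun l =>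
        (em _).elim (fun e => ⟨0, e.symm⟩) fun k => ⟨1, (e l k).symm⟩
      rw [Nat.card_fin] at this
      omega
    obtain ⟨o, ho, h1, r, m⟩ := torO c oc wc t0
    obtain ⟨c, m⟩ := exists_dg c (oc.OA ho) m t0 t1
    obtain ⟨ε, ρ, ev, w, k, -⟩ := (vd c oc wc ho m t0 t1 tw q h1).fin
    exact ⟨ε, ρ, ev, w, _, k⟩

theorem q2 (K : Type) [Field K] [Finite K] [CharP K 2] (Γ : Type u) [Group Γ] [Finite Γ] : Q2 K Γ :=
  fun F B A D H x c _ tw wc q d0 => by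
    obtain ⟨y, ⟨c⟩, h⟩ := inv1 c tw q d0
    obtain ⟨y, ⟨c⟩, h⟩ := inv2 c tw q d0 h
    obtain ⟨V, v⟩ := vd2 c tw q d0 wc h
    obtain ⟨ε, ρ, ev, w, k, e⟩ := v.fin
    obtain rfl := e d0
    exact ⟨ρ, ev, y, w, _, k⟩

end H12.MF
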