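import Cfsg.Agent.H12.MS0

/-! S5899: the main configuration exists; the case of an insoluble `M`. -/

set_option autoImplicit false
set_option linter.unusedVariables false
set_option linter.unusedSectionVars false

namespace H12.MT
open Cfsg Subgroup H18 H17.GS H28.S H2.GW
open H19 hiding eq_bot_mono
open H28.NG hiding Hyp Uniq Ch
open H29.PU (bm JJ_le_bm bm_le nrm_bm)
open H9 (JJ MaxAb)
open H27.MS H12.MS

universe u
variable {G : Type u} [Group G] [Finite G] {S Y A : Subgroup G} {a : G}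

theorem m0 (s0 : S0.{u}) (cm : CM.{u}) (lc : LC.{u}) : M0.{u} := fun {G} _ _ h => by
  obtain ⟨S, hS⟩ := exists_syl 2 (⊤ : Subgroup G)
  obtain ⟨R, R0, Rp, max, NB, star⟩ := s0 h hS
  have SM : S ≤ N(R) := (nrm_bm le_normalizer).trans NB
  have sM := hS.of_le SM le_top
  have QS := Oc_le_hall sM
  have RS := (le_Oc (normalIn_norm R) Rp).trans QS
  have Zab := abelem_Ohm1_center 2 S
  have ZS : Ohm1 2 Z(S) ≤ Z(S) := Ohm1_le _ _
  have Z0 : Ohm1 2 Z(S) ≠ ⊥ := hS.pi.Ohm1_center_ne_bot (ne_bot_mono RS R0)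
  have ZQ := ZS.trans (inf_le_right.trans (cent_mono QS))
  have YQ := Kc_le_of (abelem_le_Ohm1 Zab (le_inf ((le_inf (ZS.trans (inf_le_left.trans SM)) ZQ).trans
    (h.chr R R0 Rp)) ZQ)) (norms_Ohm1 2 (norms_inf (Oc_norm _ _) (norms_cent (Oc_norm _ _))))
  set Y := Kc (Ohm1 2 Z(S)) N(R) with hY
  have ZY : Ohm1 2 Z(S) ≤ Y := le_Kc
  have ab := abelem_mono (abelem_Ohm1_center 2 _) YQ
  have YS := YQ.trans ((Ohm1_le _ _).trans (inf_le_left.trans QS))
  have Y0 := ne_bot_mono ZY Z0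
  have e : N(Y) = N(R) := le_antisymm (max _ Y0 (ab_pg ab) Kc_norm) Kc_norm
  have nz : ¬ C(Zs S) ≤ N(R) := fun k => h.toHy.ntop R0 Rp (h.cs S _ hS k fun Q a b c =>
    (star _ S bm_le (hS.of_le ((nrm_bm le_normalizer).trans c) le_top) (h.toHy.chN a (hS.pi.of_le (b.trans bm_le)))).trans
      (sup_le (inf_le_right.trans ((cent_mono le_Kc).trans k)) inf_le_right))
  have YB : Y ≤ bm 2 S := by
    by_cases s : Sol N(R)
    · obtain ⟨F, m⟩ := exists_Mo ab (e ▸ s) fun N p q => cents_symm (Kc_cents (cents_symm (by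
        rw [← O2r_sup_syl (sM.inf_normal (K := N) (e ▸ p))]
        exact sup_le ((O2r_le_iff.2 q).trans (cent_mono ZY)) (inf_le_left.trans (cents_symm (ZS.trans inf_le_right)))))
        (e ▸ p.norm))
      obtain ⟨A, a⟩ := H9.exists_maxAb 2 S
      exact (m.maxAb YS (e ▸ SM) a).2.trans JJ_le_bm
    · rcases (cm h (lc h.toHy R0 Rp le_rfl s sM).1).2 with k | ⟨-, k, -⟩
      · exact absurd k.ge nz
      · exact le_inf YS (YQ.trans ((Ohm1_le _ _).trans (inf_le_right.trans (cent_mono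
          ((((Ohm1_le _ _).trans inf_le_left).trans JJ_le_bm).trans k)))))
  exact ⟨S, Y, h, hS, ab, e ▸ hY, e ▸ YQ, YB, e ▸ NB, e ▸ max, e ▸ star, e ▸ nz⟩

section GI
variable (lc : LC.{u}) (cm : CM.{u}) (h : Mn S Y) (s : ¬ Sol N(Y))
include lc cm h s

theorem gi_lc : Lc N(Y) C(Y) S ∧ N(Y) = N(bm 2 S) ∧ bm 2 S ≤ C(Y) := by
  have l := (lc h.hy h.Y0 h.pg le_rfl s h.sM).1
  have e : Oc {2} N(Y) = C(Y) := le_antisymm (cents_symm (h.YQ.trans ((Ohm1_le _ _).trans inf_le_right)))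
    ((l.smp _ ⟨cent_le_norm Y, norm_le_norm_cent Y⟩).resolve_right fun k => h.ncY k.ge)
  rcases (cm h.hz l).2 with k | ⟨k, j, -⟩
  · exact absurd k.ge h.nz
  · exact ⟨e ▸ l, k, e ▸ j⟩

theorem gi_lt (no : NO.{u}) (h1 : A ≤ N(Y)) (h2 : Abelem 2 A) (h3 : ¬ A ≤ C(Y)) :
    #A * #(Y ⊓ C(A)) < #Y * #(A ⊓ C(Y)) :=
  no h.hz (gi_lc lc cm h s).1 (sec_bot h.ab le_rfl le_rfl h.ncY)
    (h.eY.le.trans (Kc_mono (le_inf h.ZY ((Ohm1_le _ _).trans inf_le_right)) le_rfl)) h2 h1 h3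

theorem gi_rk (no : NO.{u}) (h1 : A ≤ N(Y)) (h2 : Abelem 2 A) : #A * #(Y ⊓ C(A)) ≤ #Y * #(A ⊓ C(Y)) := by
  by_cases k : A ≤ C(Y)
  · rw [inf_eq_left.2 k, mul_comm]
    exact Nat.mul_le_mul_right _ (card_le inf_le_left)
  · exact (gi_lt lc cm h s no h1 h2 k).le

end GI

theorem gi (lc : LC.{u}) (cm : CM.{u}) (nt : NT.{u}) (no : NO.{u}) : GI.{u} := fun {G} _ _ {S Y} h s => by
  obtain ⟨l, eB, BC⟩ := gi_lc lc cm h s
  have sc : Sec N(Y) C(Y) ⊥ Y := sec_bot h.ab le_rfl le_rfl h.ncY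
  have t : ∀ a ∈ N(Y), #Y ≤ #(Y ⊓ C[a]) * 2 → a ∈ C(Y) := fun a p q => by_contra fun k =>
    (nt h.hz l sc p k).not_ge q
  have z1 := ne_bot_iff_one_lt_card.1 h.Z0
  have z2 := pg_lt_card h.pg h.ZlY
  refine ⟨⟨h, fun v p => ⟨1, one_mem _, (cj_one _).trans_le (BC.trans (cent_le_cent1 p))⟩,
    fun A => gi_rk lc cm h s no, fun a u p _ _ => absurd (t a p.mem p.hyp.card.le) p.nK, fun X p q => ?_,
    fun g p q => by_contra fun k => ?_⟩, l, sc, eB, fun e => ?_⟩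
  · have X0 : X ≠ ⊥ := fun e => by rw [e, card_bot] at q; omega
    obtain ⟨T, a, b⟩ := h.Bpg.exists_syl (BC.trans (cent_mono p))
    have TC : T ≤ C(Y) := fun x r => t x (h.pgM a.pi b r) (q.trans (Nat.mul_le_mul_right _
      (card_le (le_inf p (le_cent1_iff.2 (a.le r))))))
    exact (h.star _ T b a (h.hy.chC X0 (abelem_mono h.ab p))).trans (sup_le (inf_le_right.trans ((cent_mono
      ((abelem_le_Ohm1 h.ab (le_inf (h.YB.trans b) (cents_symm TC))).trans le_Kc)).trans (cent_le_norm Y))) inf_le_right)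
  · have a := gi_lt lc cm h s no p (abelem_J h.ab g) k
    have b := gi_rk lc cm (h.J g) (cj_norm g Y ▸ nsol_J s g) no q h.ab
    exact a.not_ge b
  · refine h.ZlY.not_ge fun v p => h.memZ p (cents_symm (fun a r => t a (h.SM r) ?_) p)
    have := card_le (le_inf h.ZY ((Ohm1_le _ _).trans (inf_le_right.trans (cent_le_cent1 r))))
    omega

end H12.MT
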