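import Cfsg.Agent.H12.MS0
import Cfsg.Agent.H14.MS1
import Cfsg.Agent.H27.MS3

/-! S5899: the case of an insoluble `M` under the weak hypothesis `I4`. -/

set_option autoImplicit false
set_option linter.unusedVariables false
set_option linter.unusedSectionVars false

namespace H12.MU
open Cfsg Subgroup H18 H17.GS H28.S H2.GW
open H19 hiding eq_bot_mono
open H28.NG hiding Hyp Uniq Ch
open H29.PU (bm JJ_le_bm bm_le nrm_bm)
open H9 (JJ MaxAb)
open H27.MS H12.MS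
open scoped IsMulCommutative

universe u
variable {G : Type u} [Group G] [Finite G] {S Y A W N V : Subgroup G} {a z : G}

theorem le4 (h : H19.PG 2 V) (l : W ≤ V) (c : #W * 2 < #V) : #W * 4 ≤ #V := by
  obtain ⟨i, hi⟩ := h.exists_card
  obtain ⟨j, hj⟩ := (h.of_le l).exists_card
  rw [hi, hj] at c ⊢
  rw [← pow_succ] at c
  rw [show 4 = 2 ^ 2 from rfl, ← pow_add]
  exact Nat.pow_le_pow_right two_pos ((Nat.pow_lt_pow_iff_right one_lt_two).1 c)

/-- the product over an orbit of odd length -/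
theorem fix_odd (h : Abelem 2 Y) (n : N ≤ N(Y)) (s : Syl 2 S N) (c : ⁅Y, N⁆ ≤ W) (hz : z ∈ Y) (zW : z ∉ W)
    (zS : z ∈ C(S)) : ∃ w ∈ Y, w ∉ W ∧ w ∈ C(N) := by
  classical
  have := h.1
  have := Fintype.ofFinite Y
  let α := Y.normalizerMonoidHom.comp (inclusion n)
  have hα : ∀ (g : N) (v : Y), (α g v : G) = g * v * (g : G)⁻¹ := fun _ _ => rfl
  letI : MulAction N Y := MulAction.compHom Y α
  let y : Y := ⟨z, hz⟩
  let O := (MulAction.orbit N y).toFinset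
  have o : Odd O.card := by
    rw [← Set.ncard_eq_toFinset_card', ← MulAction.index_stabilizer]
    refine Nat.odd_iff.2 (Nat.two_dvd_ne_zero.1 fun k => s.not_dvd Nat.prime_two (k.trans ?_))
    exact index_dvd_of_le fun g p => Subtype.ext ((hα g y).trans (mul_inv_eq_of_eq_mul (mem_cent.1 zS _ p)))
  let π := QuotientGroup.mk' (W.subgroupOf Y)
  refine ⟨(∏ x ∈ O, x : Y), Subtype.prop _, fun k => zW ?_, mem_cent.2 fun g p => ?_⟩
  · have e : π (∏ x ∈ O, x) = π y ^ O.card := by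
      rw [map_prod, ← Finset.prod_const]
      refine Finset.prod_congr rfl fun x q => ?_
      obtain ⟨g, rfl⟩ := Set.mem_toFinset.1 q
      refine (QuotientGroup.eq_iff_div_mem).2 (mem_subgroupOf.2 ?_)
      show (α g y / y : Y).1 ∈ W
      simpa [hα, y, commutatorElement_def, div_eq_mul_inv, mul_assoc] using inv_mem (c (commutator_mem_commutator hz g.2))
    obtain ⟨j, hj⟩ := o
    rw [hj, pow_succ, pow_mul, ← map_pow, show y ^ 2 = 1 from Subtype.ext (h.2 z hz), map_one, one_pow, one_mul] at e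
    exact (QuotientGroup.eq_one_iff (N := W.subgroupOf Y) y).1 (e.symm.trans ((QuotientGroup.eq_one_iff _).2 k))
  · have e : α ⟨g, p⟩ (∏ x ∈ O, x) = ∏ x ∈ O, x := by
      rw [map_prod]
      refine Finset.prod_equiv (α ⟨g, p⟩).toEquiv (fun x => ?_) fun _ _ => rfl
      simp only [O, Set.mem_toFinset]
      exact ⟨MulAction.mem_orbit_of_mem_orbit (⟨g, p⟩ : N), fun k => by
        simpa using MulAction.mem_orbit_of_mem_orbit (⟨g, p⟩ : N)⁻¹ (a₂ := (⟨g, p⟩ : N) • x) k⟩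
    exact mul_inv_eq_iff_eq_mul.1 ((hα _ _).symm.trans (congrArg Subtype.val e))

section
variable (h : Mn S Y) (l : Lc N(Y) C(Y) S) (i4 : I4 G)
include h l i4

/-- no transvections on `Y` -/
theorem ntY (mb1 : MB1.{u}) (bk : BK.{u}) (h1 : a ∈ N(Y)) (h2 : a ∉ C(Y)) : #(Y ⊓ C[a]) * 2 < #Y :=
    lt_of_not_ge fun k => by
  obtain ⟨-, s, c⟩ := mb1 l.toFr (sec_bot h.ab le_rfl le_rfl h.ncY) h1 h2
    (by rw [Eb, Cm_bot, cent_zpowers, pow_one, mul_comm]; exact k)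
  rw [sup_bot_eq] at s c
  have b : Bd N(Y) C(Y) S ⁅Y, N(Y)⁆ := ⟨l, s, by simpa using c⟩
  obtain ⟨z, p, q⟩ := SetLike.not_le_iff_exists.1 fun j : Zs S ≤ ⁅Y, N(Y)⁆ => (i4 _ _ _ _ b).2 (le_antisymm
    ((card_le (le_inf j ((Ohm1_le _ _).trans inf_le_right))).trans (bk b).2.2.2.2.2.1.le)
    (ne_bot_iff_one_lt_card.1 h.Z0))
  obtain ⟨w, r, t, e⟩ := fix_odd h.ab le_rfl h.sM le_rfl (h.ZY p) q (Ohm1_le _ _ p).2
  refine h.nz ((cent_le_cent1 (h.memZ r (cent_mono h.SM e))).trans ?_)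
  rw [← cent_zpowers]
  exact (cent_le_norm _).trans (h.mx (ne_bot_of_mem (mem_zpowers w) fun j => t (j ▸ one_mem _)) (zpowers_le.2 r)
    ((cents_symm (zpowers_le.2 e)).trans (cent_le_norm _)))

theorem rkY (mb1 : MB1.{u}) (bk : BK.{u}) (nf : NF.{u}) (f1 : F1.{u}) (h1 : A ≤ N(Y)) (h2 : Abelem 2 A) :
    #A * #(Y ⊓ C(A)) ≤ #Y * #(A ⊓ C(Y)) := by
  by_cases k : A ≤ C(Y)
  · rw [inf_eq_left.2 k, mul_comm]
    exact Nat.mul_le_mul_right _ (card_le inf_le_left)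
  refine le_of_not_gt fun j => ?_
  have l7 := nf l.toFr l.q0 (sec_bot h.ab le_rfl le_rfl h.ncY) h2 h1 k (by rw [Cm_bot]; exact j.le)
  obtain ⟨T, t, aT⟩ := (ab_pg h2).exists_syl h1
  have f := l.toFr.syl' t
  have r0 := H14.MS.cT f l7
  have r1 := pg_lt_card t.pi (lt_of_le_of_ne (sup_le aT f.le) fun e => f1 f l.q0 h2 aT e.ge)
  have r2 := card_sup_mul_inf (A := C(Y)) (B := A) (h1.trans f.nq.norm)
  rw [sup_comm, inf_comm] at r2
  obtain ⟨a, p, q⟩ := SetLike.not_le_iff_exists.1 k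
  have r4 := le4 h.pg inf_le_left (ntY h l i4 mb1 bk (h1 p) q)
  have r5 := card_le (inf_le_inf_left Y (cent_le_cent1 p))
  have p1 := card_pos C(Y)
  have r6 : #A ≤ 4 * #(A ⊓ C(Y)) := Nat.le_of_mul_le_mul_left (by nlinarith) p1
  nlinarith

end

theorem gi_lc (lc : LC.{u}) (cm : CM.{u}) (h : Mn S Y) (s : ¬ Sol N(Y)) :
    Lc N(Y) C(Y) S ∧ N(Y) = N(bm 2 S) ∧ bm 2 S ≤ C(Y) := by
  have l := (lc h.hy h.Y0 h.pg le_rfl s h.sM).1
  have e : Oc {2} N(Y) = C(Y) := le_antisymm (cents_symm (h.YQ.trans ((Ohm1_le _ _).trans inf_le_right)))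
    ((l.smp _ ⟨cent_le_norm Y, norm_le_norm_cent Y⟩).resolve_right fun k => h.ncY k.ge)
  rcases (cm h.hz l).2 with k | ⟨k, j, -⟩
  · exact absurd k.ge h.nz
  · exact ⟨e ▸ l, k, e ▸ j⟩

theorem bdJ {N Q T V : Subgroup G} (b : Bd N Q T V) (g : G) : Bd (cj g N) (cj g Q) (cj g T) (cj g V) :=
  ⟨b.toLc.J g, by simpa only [cj_bot] using b.sec.J g, (card_cj g V).trans b.c8⟩

theorem gi (lc : LC.{u}) (cm : CM.{u}) (mb1 : MB1.{u}) (nf : NF.{u}) (ff : FF.{u}) (f1 : F1.{u}) (bk : BK.{u})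
    (ic : IC.{u}) (i4 : I4 G) (h : Mn S Y) (s : ¬ Sol N(Y)) :
    Gn S Y ∧ Lc N(Y) C(Y) S ∧ Sec N(Y) C(Y) ⊥ Y ∧ N(Y) = N(bm 2 S) ∧ #Y ≠ 4 := by
  obtain ⟨l, eB, BC⟩ := gi_lc lc cm h s
  have sc : Sec N(Y) C(Y) ⊥ Y := sec_bot h.ab le_rfl le_rfl h.ncY
  have t : ∀ a ∈ N(Y), #Y ≤ #(Y ⊓ C[a]) * 2 → a ∈ C(Y) := fun a p q => by_contra fun k =>
    (ntY h l i4 mb1 bk p k).not_ge q
  have z1 := ne_bot_iff_one_lt_card.1 h.Z0
  have z2 := pg_lt_card h.pg h.ZlY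
  refine ⟨⟨h, fun v p => ⟨1, one_mem _, (cj_one _).trans_le (BC.trans (cent_le_cent1 p))⟩,
    fun A => rkY h l i4 mb1 bk nf f1, fun a u p _ _ => absurd (t a p.mem p.hyp.card.le) p.nK, fun X p q => ?_,
    fun g p q => by_contra fun k => ?_⟩, l, sc, eB, fun e => ?_⟩
  · have X0 : X ≠ ⊥ := fun e => by rw [e, card_bot] at q; omega
    obtain ⟨T, a, b⟩ := h.Bpg.exists_syl (BC.trans (cent_mono p))
    have TC : T ≤ C(Y) := fun x r => t x (h.pgM a.pi b r) (q.trans (Nat.mul_le_mul_right _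
      (card_le (le_inf p (le_cent1_iff.2 (a.le r))))))
    exact (h.star _ T b a (h.hy.chC X0 (abelem_mono h.ab p))).trans (sup_le (inf_le_right.trans ((cent_mono
      ((abelem_le_Ohm1 h.ab (le_inf (h.YB.trans b) (cents_symm TC))).trans le_Kc)).trans (cent_le_norm Y))) inf_le_right)
  · rw [hcj] at p q k
    have lg : Lc N(cj g Y) C(cj g Y) (cj g S) := by simpa only [cj_norm, cj_cent] using l.J g
    have b := rkY (h.J g) lg i4 mb1 bk nf f1 q h.ab
    have ag := abelem_J h.ab g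
    obtain ⟨W, wY, c, w⟩ := ff l.toFr (nf l.toFr l.q0 sc ag p k (by rwa [Cm_bot])) sc
      (h.eY.le.trans (Kc_mono (le_inf h.ZY ((Ohm1_le _ _).trans inf_le_right)) le_rfl)) ag p k b
    have d : Bd N(Y) C(Y) S W := ⟨l, w, c⟩
    have dg := bdJ d g
    rw [cj_norm, cj_cent] at dg
    have wg := cj_mono g wY
    refine k ((le_inf p (cents_symm ?_)).trans (w.ker' l.toFr))
    by_cases e : cj g W ⊓ W = ⊥
    · exact (le_inf (wY.trans q) (cents_symm (commg_eq_bot.1 (le_bot_iff.1 (e ▸ le_inf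
        (commg_le_left ((wY.trans q).trans dg.sec.nV)) (commg_le_right ((wg.trans p).trans w.nV))))))).trans
        (dg.sec.ker' dg.toFr)
    · exact ic dg d e
  · refine h.ZlY.not_ge fun v p => h.memZ p (cents_symm (fun a r => t a (h.SM r) ?_) p)
    have := card_le (le_inf h.ZY ((Ohm1_le _ _).trans (inf_le_right.trans (cent_le_cent1 r))))
    omega

end H12.MU
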