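import Cfsg.Agent.H15.MS1
import Cfsg.Agent.H12.MS2

/-! S5899, chunk `TI` under the weak hypothesis `I4`. -/

set_option autoImplicit false
set_option linter.unusedVariables false
set_option linter.unusedSectionVars false

namespace H12.MU
open Cfsg Subgroup H18 H17.GS H28.S H2.GW H27.MS
open H19 hiding eq_bot_mono
open H28.NG hiding Hyp Uniq Ch
open H29.PU (bm)
open H15.MS hiding oc pr ti
open H12.MS

universe u
variable {G : Type u} [Group G] [Finite G] {a b c d e f g m n s t u v w x y z : G}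
  {A B D E F H I K L M N P Q R S T U V W X Y Z : Subgroup G}

/-- no bad subgroup of `Y` on which `B` acts into `D` -/
def Nb (Y B D : Subgroup G) : Prop := ∀ W ≤ Y, #W = 8 → Sec N(Y) C(Y) ⊥ W → ¬ ⁅W, B⁆ ≤ D

theorem Nb.J (h : Nb Y B D) (hm : m ∈ N(Y)) : Nb Y (cj m B) (cj m D) := fun W p q r k => h W p q r (by
  rwa [← cj_of_mem_norm (r.nV hm), ← cj_comm, cj_le_cj] at k)

theorem cz_nb (ic : IC.{u}) (l : Lc N(Y) C(Y) S) (c : Cz Y Q E A v x a) (nB : ¬ cj x A ≤ Y ⊓ cj x Y) :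
    Nb Y (cj x A) (Y ⊓ cj x Y) := fun W wY c8 w k => by
  have wA : W ≤ A := fun u p => by_contra fun u0 => nB fun b r => c.key r (by
    have m := hyp_mul c.hA (wY p) c.aY u0 c.a0
    have e1 := k (commutator_mem_commutator p r)
    have e2 := c.br (commutator_mem_commutator m r)
    rw [commutatorElement_def] at e1 e2
    convert conj_mem_of_norm (c.YD (inv_mem (wY p))) (mul_mem e2 (inv_mem e1)) using 1
    group)
  have d : Bd N(Y) C(Y) S W := ⟨l, w, c8⟩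
  have dg := bdJ d x
  rw [cj_norm, cj_cent] at dg
  have wg := (cj_mono x wA).trans c.BM
  have q := wA.trans c.AM
  have j : W ≤ C(cj x Y) := by
    by_cases e : cj x W ⊓ W = ⊥
    · exact (le_inf q (cents_symm (commg_eq_bot.1 (le_bot_iff.1 (e ▸ le_inf
        (commg_le_left (q.trans dg.sec.nV)) (commg_le_right (wg.trans w.nV))))))).trans (dg.sec.ker' dg.toFr)
    · exact ic dg d e
  have bY := (le_inf c.BM (c.symm.hA.le.trans (cents_symm j))).trans (w.ker' l.toFr)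
  exact nB fun b r => c.key r (by
    rw [mem_cent1_conj.1 (le_cent1_iff.2 (bY r) c.aY), mul_inv_cancel]; exact one_mem _)

theorem oc2 (h : Gn S Y) (hv : v ∈ Y) : Oc {2} C[v] ≤ N(Y) := by
  obtain ⟨m, a, b⟩ := h.b1 v hv
  have pg : H19.PG 2 (bm 2 S) := h.syl.pi.of_le H29.PU.bm_le
  obtain ⟨T, p, q⟩ := (pg.J m).exists_syl b
  obtain ⟨g, -, k⟩ := h.syl.scj_le le_top p.pi
  have e {c} (r : cj c (bm 2 S) ≤ T) : cj g (cj c (bm 2 S)) = bm 2 S := by
    rw [cj_cj]; exact bm_wc (cj_cj g c _ ▸ (cj_mono g r).trans k)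
  refine (Oc_le_hall p).trans fun t r => ?_
  have := cj_inj.1 ((e (c := t * m) (cj_mul t m _ ▸ cj_le_of_mem r q)).trans (e q).symm)
  have := h.NB (mem_norm_iff_cj.2 ((cj_mul m⁻¹ _ _).trans (cj_eq_iff.1 this.symm).symm))
  simpa [mul_assoc] using mul_mem (mul_mem a this) (inv_mem a)

theorem pr2 (ic : IC.{u}) (h : Gn S Y) (l : Lc N(Y) C(Y) S) (v1 : v ∈ Y) (k : ¬ Y ≤ Oc {2} C[v]) (sol : Sol C[v]) :
    ∃ B D a, Pr Y B D a ∧ Nb Y B D := by
  obtain ⟨E, e⟩ := exists_FS (Oc_normal {2} C[v]) sol fun N a b c =>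
    le_Oc a (PiN.of_relIndex' b (Oc_pi _ _) c)
  have Yv := ab_cent1 h.ab v1
  obtain ⟨A, x, a1, -, x1, x0, -, xA, q⟩ := e.dl Yv ((ea_bot h.ab).ab.trans bot_le)
    (fun _ p => sq_one h.ab p ▸ one_mem _) k
  obtain ⟨a, aY, a0⟩ := hyp_ex a1
  obtain ⟨y, y1, y2, y3, y4⟩ := e.exi (Yv aY) (sq_one h.ab aY) x1 (q a aY a0)
  have c : Cz Y _ E A v y a := ⟨h.ab, v1, oc2 h v1, e, a1, (mul_mem_cancel_left (inv_mem x1)).1 (e.le y4),
    fun j => x0 (inv_mem_iff.1 ((mul_mem_cancel_right j).1 y4)), y2, (mul_mem_cancel_left (inv_mem xA)).1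
      (Cm_self ((a1.le.trans Yv).trans e.nK.norm) y4), aY, a0, y3⟩
  suffices k : Pr Y (cj y A) (Y ⊓ cj y Y) a from ⟨_, _, a, k, cz_nb ic l c k.nB⟩
  refine ⟨abelem_mono c.symm.ab c.symm.hA.le, c.BM, c.DB, inf_le_left, by rw [card_cj]; exact a1.card, aY,
    fun b => c.key, fun u p j => by_contra fun u0 => c.xM ?_, fun j => ?_⟩
  · exact (l.nrm _ (ne_bot_of_mem (mem_zpowers u) u0) ⟨zpowers_le' (le_normalizer p.1),
      j.trans (cent1_le_norm_zpowers u)⟩).le (cent1_le_norm_zpowers u (mem_cent1_symm.1 (c.DC p)))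
  · have := card_le j
    rw [card_cj] at this
    exact c.xM (h.hypC _ inf_le_left (a1.card.trans_le (Nat.mul_le_mul_right _ this)) (le_cent1_iff.1 c.DC))

theorem pfalse (h : Pr Y B D a) (hY : Abelem 2 Y) (nb : Nb Y B D) (bk : BK.{u}) (f1 : F1.{u}) (ty : Ty.{u}) (mbd : MBD.{u}) (mbs : MBS.{u}) (ir : IR.{u}) 
    (nt : ∀ b ∈ N(Y), b ∉ C(Y) → #(Y ⊓ C[b]) * 2 < #Y)
    (l : Lc N(Y) C(Y) S) (s : Sec N(Y) C(Y) ⊥ Y) (BS : B ≤ S) : False := by
  have f := l.toFr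
  have QS := H21.MS.fr_le f
  have pD := card_pos D
  have pQ := card_pos C(Y)
  have pB := card_pos B
  have cY := h.card
  have r0 := card_sup_mul_inf (BS.trans (f.syl.le.trans f.nq.norm))
  rw [h.BQ hY] at r0
  have r1 := pg_lt_card f.syl.pi (lt_of_le_not_ge (sup_le QS BS) (sup_comm B _ ▸ f1 f l.q0 h.ab BS))
  replace r1 : #B * #C(Y) * 2 ≤ #S * #D := by nlinarith
  have r2 {b} (p : b ∈ B) (q : b ∉ D) : #(Y ⊓ C[b]) < #B := by
    have := nt _ (h.BM p) (h.nC p q)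
    omega
  obtain ⟨b, b1, b0⟩ := SetLike.not_le_iff_exists.1 h.nB
  have r3 := h.c2 hY b1 b0
  have r4 := r2 b1 b0
  have bb := sq_one h.ab b1
  have r5 := card_sup_zp bb b0 (norms_of_comm h.ab.1 le_rfl h.DB b1)
  obtain ⟨c, c1, c0⟩ : ∃ c ∈ B, c ∉ D ⊔ zpowers b := SetLike.not_le_iff_exists.1 fun k => by
    have := card_le k; omega
  have cD : c ∉ D := mt mem_sup_left c0
  have bc : b * c ∉ D := fun k => c0 (by
    simpa using mul_mem (inv_mem (mem_sup_right (S := D) (mem_zpowers b))) (mem_sup_left k))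
  have eb (k : #B ≤ 8 * #D) : Eb ⊥ Y b 3 := by rw [Eb, Cm_bot, cent_zpowers]; omega
  obtain ⟨-, ⟨E, k⟩ | k | ⟨n, k⟩ | k⟩ := ty f
  · obtain ⟨g, g1, g0⟩ : ∃ g ∈ N(Y), g * b * g⁻¹ ∉ S := by
      by_contra! j
      have i : Kc (zpowers b) N(Y) ≤ S := Kc_le_of_cj fun g p => cj_zpowers g b ▸ zpowers_le' (j g p)
      exact (f.smp _ ⟨i.trans f.syl.le, Kc_norm⟩).elim (fun e => h.nC b1 b0 (e (le_Kc (mem_zpowers b))))
        fun e => f.ns (sol_mono f.syl.pi.sol (e.ge.trans i))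
    have iv {b} (p : b ∈ B) (q : b ∉ D) : Iv S C(Y) b := ⟨BS p, (h.iv hY p q).2⟩
    have j := h.J g1
    have dj : Y ⊓ C[g * b * g⁻¹] ⊓ D = ⊥ := le_bot_iff.1 fun u p => h.zD u p.2 ((k.gen C[u] b c _ (iv b1 b0) (iv c1 cD)
      (h.nC (mul_mem b1 c1) bc) (j.iv hY (conj_mem_cj.2 b1) (mt conj_mem_cj.1 b0)) g0
      (mem_cent1_symm.1 (h.DC b1 p.2).2) (mem_cent1_symm.1 (h.DC c1 p.2).2) (mem_cent1_symm.1 p.1.2)).trans
        (sup_le le_rfl (cent_le_cent1 p.1.1)))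
    have e1 := card_le (sup_le (inf_le_left (b := C[g * b * g⁻¹])) h.DY)
    rw [card_sup_of_disjoint (norms_of_comm hY.1 h.DY inf_le_left) dj] at e1
    have e2 := j.c2 hY (conj_mem_cj.2 b1) (mt conj_mem_cj.1 b0)
    rw [card_cj] at e2
    have e3 := k.lb _ _ s
    rw [card_bot] at e3
    have e4 : #D * #D ≤ #B := by nlinarith
    have e5 := Nat.mul_le_mul r1 r1
    have e6 : #S * #D * (#S * #D) ≤ #B * 2 * #C(Y) ^ 2 * #B := by
      calc _ = #S ^ 2 * 1 * (#D * #D) := by ring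
        _ ≤ _ := Nat.mul_le_mul (cY ▸ e3) e4
    have := Nat.mul_pos (Nat.mul_pos pB pB) (Nat.mul_pos pQ pQ)
    nlinarith
  · rw [k.card] at r1
    have : #B * 2 ≤ 4 * #D := Nat.le_of_mul_le_mul_left (by nlinarith) pQ
    omega
  · obtain ⟨x, y, x1, y1, e, -⟩ := k.ex
    have n := f.syl.le.trans f.nq.norm
    have d4 : #(quo C(Y) B) ≤ 4 := dih4 (H17.MS.qsq (n x1.1) x1.2.2) (H17.MS.qsq (n y1.1) y1.2.2)
      (by rw [← H17.MS.quo2 (n x1.1) (n y1.1), ← e]; exact quo_mono _ BS) fun ξ p => by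
        obtain ⟨z, r, q, rfl⟩ := mem_quo p
        exact H17.MS.qsq q (by rw [sq_one h.ab r]; exact one_mem _)
    have e1 := card_inf_mul_relIndex C(Y) B
    rw [h.BQ hY, ← card_quo (BS.trans n)] at e1
    have e2 : #B ≤ 4 * #D := by nlinarith
    have l7 := mbd f k s (h.iv hY b1 b0) (.inl (eb (by omega)))
    have cB {w} (p : w ∈ Y) (q : B ≤ C[w]) : w ∈ D := by_contra fun w0 => by
      have wb {b} (r : b ∈ B) : w ∈ Y ⊓ C[b] := ⟨p, mem_cent1_symm.1 (q r)⟩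
      have hy {b} (r : b ∈ B) (t : b ∉ D) : w * (a * b * a⁻¹ * b⁻¹) ∈ D := by
        have m := h.cm1 hY r
        have m0 := mt (h.key b r) t
        have t1 := card_sup_zp (sq_one hY m.1) m0 (norms_of_comm hY.1 le_rfl h.DY m.1)
        have t2 := r2 r t
        refine hyp_mul (hyp_of_card (h.DC r) ?_) (wb r) m w0 m0
        rcases (sup_le (h.DC r) (zpowers_le' m)).eq_or_lt with j | j
        · rw [← j, t1]
        · have := pg_lt_card ((ab_pg hY).of_le inf_le_left) j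
          omega
      have t := mem_cent1_conj'.1 ((mul_mem_cancel_left (show w ∈ C[b] from (wb b1).2)).1 (h.DC b1 (hy c1 cD)).2)
      refine cD (h.key c c1 ((mul_mem_cancel_left (hy b1 b0)).1 ?_))
      convert hy (mul_mem b1 c1) bc using 1
      rw [← t]; group
    have cz {w} (p : w ∈ Y) (q : N(Y) ≤ C[w]) : w = 1 := h.zD w (cB p (h.BM.trans q)) q
    obtain ⟨W, ⟨w1, w2, w3⟩, mn⟩ := (Set.toFinite {W : Subgroup G | W ≤ Y ∧ W ≠ ⊥ ∧ N(Y) ≤ N(W)}).exists_minimal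
      ⟨Y, le_rfl, fun j => b0 (h.key b b1 (by rw [mem_bot.1 (j ▸ h.aY : a ∈ (⊥ : Subgroup G))]; simp)), le_rfl⟩
    have sW : Sec N(Y) C(Y) ⊥ W := ⟨ea_bot (abelem_mono hY w1), w3, nbot, (cent_mono w1).trans Cm_bot.ge, fun j =>
      w2 (eq_bot_iff.2 fun w p => cz (w1 p) (j.trans (Cm_bot.le.trans (cent_le_cent1 p))))⟩
    obtain j | ⟨j, w, w4, R, w5, -⟩ := ir f l7 sW fun X _ p q => or_iff_not_imp_left.2 fun r =>
      p.antisymm (mn ⟨p.trans w1, r, q⟩ p)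
    · have c8 : #W = 8 := by simpa using j
      exact nb W w1 c8 sW fun u p => cB (w1 (commg_le_left (h.BM.trans w3) p))
        (le_cent1_iff.2 ((bk ⟨l, sW, c8⟩).2.2.2.2.2.2.2.1 B h.BM h.ab p))
    have bM := h.BM b1
    have e3 := (ea_bot hY).card_br bM (nbot (mem_top b))
    rw [Cm_bot, cent_zpowers, card_bot, sup_bot_eq] at e3
    have e4 : #(H2.GW.cm Y b) ≤ 4 := Nat.le_of_mul_le_mul_left (by nlinarith) (card_pos (Y ⊓ C[b]))
    have e5 := orb_card hY (cm_le bM) f.syl.le (w1 w4)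
    have e6 := card_le (w5.trans (sup_bot_eq _).le)
    have e7 := card_inf_mul_relIndex (Cm (H2.GW.cm Y b) Y) S
    have e8 := pg_lt_card (f.syl.pi.of_le (inf_le_right (a := Cm (H2.GW.cm Y b) Y))) (lt_of_le_not_ge (le_inf
      (Cm_of_cent (norms_of_cents (cent_mono (cm_le bM))) le_rfl) QS) fun j => h.nC b1 b0 (j ⟨⟨cm_norm' Y b, fun y p => by
        convert inv_mem (mem_cm (t := b) p) using 1; group⟩, BS b1⟩))
    rw [(H17.MS.l7 f l7).1] at e7
    have e9 : (Cm (H2.GW.cm Y b) Y).relIndex S ≤ 4 := Nat.le_of_mul_le_mul_left (by nlinarith) pQ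
    have := Nat.mul_le_mul e4 (Nat.pow_le_pow_right two_pos e9)
    rw [card_bot] at j
    omega
  · have := c9 f k
    exact mbs f k s (h.iv hY b1 b0) (eb (by
      have : #B * 2 ≤ 16 * #D := Nat.le_of_mul_le_mul_left (by nlinarith) pQ
      omega))

theorem ti (f1 : F1.{u}) (ty : Ty.{u}) (mbd : MBD.{u}) (mbs : MBS.{u}) (ir : IR.{u}) (mb1 : MB1.{u}) (bk : BK.{u})
    (ic : IC.{u}) (i4 : I4 G) (h : Gn S Y) (l : Lc N(Y) C(Y) S) (s : Sec N(Y) C(Y) ⊥ Y) (v1 : v ∈ Y) (v0 : v ≠ 1)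
    (k : ¬ Y ≤ Oc {2} C[v]) : ¬ Sol C[v] := fun sol => by
  obtain ⟨B, D, a, p, nb⟩ := pr2 ic h l v1 k sol
  obtain ⟨m, q, r⟩ := l.syl.scj_le p.BM (ab_pg p.ab)
  exact pfalse (p.J q) h.ab (nb.J q) bk f1 ty mbd mbs ir (fun _ => ntY h.toMn l i4 mb1 bk) l s r

end H12.MU
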