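import Cfsg.Agent.H1.MS2
import Cfsg.Agent.H8.MS1
import Cfsg.Agent.H12.MS0

/-! S5899, chunk `NM7`: a normalized model of `N/Q ≅ L₃(2)`. -/

set_option autoImplicit false
set_option linter.unusedVariables false
set_option linter.unusedSectionVars false
set_option synthInstance.maxSize 2000

namespace H12.MU
open Cfsg Subgroup H18 H17.GS H28.S H2.GW
open H19 hiding eq_bot_mono
open H28.NG hiding Hyp Uniq Ch
open H27.MS H12.MS H1.MS
open H8.MS (L3 t8 U θ m3)
open scoped MatrixGroups Matrix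

universe u

theorem pt_mul (x y : L3) : pt (x * y) = x.1 *ᵥ pt y := (Matrix.mulVec_mulVec _ _ _).symm
theorem ln_mul (x y : L3) : ln (y * x) = ln x ᵥ* (y⁻¹).1 := by
  rw [ln, ln, mul_inv_rev, Matrix.vecMul_vecMul]; rfl

/-- the stabilizer of the base point -/
def P1 : Subgroup L3 := MulAction.stabilizer L3 e1
theorem mP1 {x : L3} : x ∈ P1 ↔ pt x = e1 := Iff.rfl
def jj : L3 := m3 0 0 1 0 1 0 1 0 0
/-- the graph automorphism -/
def σ : L3 →* L3 := (MulAut.conj jj).toMonoidHom.comp θ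
theorem σσ : ∀ x, σ (σ x) = x := by decide +kernel
theorem σp : ∀ x, pt (σ x) = e1 ↔ ln x = e3 := by decide +kernel
theorem σl (x : L3) : ln (σ x) = e3 ↔ pt x = e1 := by rw [← σp, σσ]
/-- the stabilizer of the base line -/
def P2 : Subgroup L3 := P1.comap σ
theorem mP2 {x : L3} : x ∈ P2 ↔ ln x = e3 := σp x
theorem up_pl : ∀ x : L3, H8.MS.Up x ↔ pt x = e1 ∧ ln x = e3 := by decide +kernel
theorem c24 : Fintype.card {x : L3 // pt x = e1} = 24 := by decide +kernel
theorem cP1 : #P1 = 24 := (Nat.card_eq_fintype_card (α := {x : L3 // pt x = e1})).trans c24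
theorem σs : Function.Surjective σ := fun x => ⟨σ x, σσ x⟩
theorem σi : Function.Injective σ := fun x y e => by rw [← σσ x, e, σσ]
theorem cP2 : #P2 = 24 := by
  have a := P1.card_mul_index
  have b := P2.card_mul_index
  rw [P2, index_comap_of_surjective _ σs, ← a, cP1] at b
  exact Nat.eq_of_mul_eq_mul_right (Nat.pos_of_ne_zero index_ne_zero_of_finite) b
theorem o7 : ∀ x : L3, pt x ≠ e1 → ln x ≠ e3 → ∃ i, (t8 i * x) ^ 7 = 1 ∧ t8 i * x ≠ 1 := by decide +kernel

theorem cls {X : Subgroup L3} (h : U ≤ X) (c : #X = 24) : X = P1 ∨ X = P2 := by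
  have k : ∀ x ∈ X, x ∈ P1 ∨ x ∈ P2 := fun x p => by_contra fun q => by
    obtain ⟨i, a, b⟩ := o7 x (fun e => q (.inl e)) fun e => q (.inr (mP2.2 e))
    have := Fact.mk (by norm_num : Nat.Prime 7)
    have d := orderOf_eq_prime a b ▸ orderOf_dvd_natCard X (mul_mem (h (H8.MS.t8U i)) p)
    omega
  refine or_iff_not_imp_left.2 fun n => eq_of_le_of_card_ge (fun y q => by_contra fun r => n
    (eq_of_le_of_card_ge (fun x p => by_contra fun s => ?_) (by rw [c, cP1]))) (by rw [c, cP2])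
  exact (k _ (mul_mem p q)).elim (fun e => s ((mul_mem_cancel_right ((k y q).resolve_right r)).1 e))
    fun e => r ((mul_mem_cancel_left ((k x p).resolve_left s)).1 e)

variable {G : Type u} [Group G] [Finite G] {N Q T P : Subgroup G} {π : N →* L3}

theorem md_cls (f : Fr N Q T) (m : H1.MS.Md N Q T π) (h1 : T ≤ P) (h2 : P ≤ N) (h3 : #P = 3 * #T) :
    (∀ g : N, (g : G) ∈ P ↔ pt (π g) = e1) ∨ ∀ g : N, (g : G) ∈ P ↔ ln (π g) = e3 := by
  have mem {X} (q : Q ≤ X) (g : N) : (g : G) ∈ X ↔ π g ∈ im π X := ⟨mem_im_of, fun ⟨x, hx, e⟩ => by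
    simpa using mul_mem (show x.1 ∈ X from hx) (q ((m.ker (x⁻¹ * g)).1 (by rw [map_mul, map_inv, e, inv_mul_cancel])))⟩
  have cd {X} (q : Q ≤ X) (l : X ≤ N) : #X = #(im π X) * #Q := by
    have e : π.ker = Q.subgroupOf N := Subgroup.ext m.ker
    rw [← card_mul_relIndex q, im, ← relIndex_ker, e, relIndex_subgroupOf l, mul_comm]
  have eT : im π T = U := Subgroup.ext fun y => by
    obtain ⟨g, rfl⟩ := m.sj y
    rw [← mem f.le, m.mT, H8.MS.mem_U, up_pl]
  have c1 := cd f.le f.TN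
  have c2 := cd (f.le.trans h1) h2
  rw [eT, H8.MS.card_U] at c1
  have c3 : #(im π P) = 24 := Nat.eq_of_mul_eq_mul_right (card_pos Q) (by omega)
  exact (cls (eT ▸ im_mono h1) c3).imp (fun e g => by rw [mem (f.le.trans h1), e, mP1])
    fun e g => by rw [mem (f.le.trans h1), e, mP2]

theorem nm7 : NM7.{u} := fun {G} _ _ {N Q T P} f l h1 h2 h3 => by
  obtain ⟨π, m, e⟩ : ∃ π, H1.MS.Md N Q T π ∧ ∀ g : N, (g : G) ∈ P ↔ pt (π g) = e1 := by
    obtain ⟨π, a, b, c⟩ := H8.MS.std f l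
    have m : H1.MS.Md N Q T π := ⟨a, b, fun g => (c g).trans (up_pl _)⟩
    refine (md_cls f m h1 h2 h3).elim (fun e => ⟨π, m, e⟩) fun e => ⟨σ.comp π, ⟨?_, fun g => ?_, fun g => ?_⟩, fun g => ?_⟩
    · rw [MonoidHom.coe_comp]; exact σs.comp a
    · rw [MonoidHom.comp_apply, map_eq_one_iff σ σi, b]
    · rw [m.mT, MonoidHom.comp_apply, σp, σl, and_comm]
    · rw [MonoidHom.comp_apply, σp, e]
  exact ⟨π, m, e, fun P' a b c n => (md_cls f m a b c).resolve_left fun k => n (le_antisymm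
    (fun x p => (e ⟨x, b p⟩).2 ((k _).1 p)) fun x p => (k ⟨x, h2 p⟩).2 ((e _).1 p))⟩

end H12.MU
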