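import Cfsg.Agent.H24.ND0

/-! S4780, chunk `DA`, part 1: Artin independence, norms, stabilizers. -/

set_option autoImplicit false
set_option linter.unusedSectionVars false

open Subgroup MulAction H19 H20 H6 Cfsg H3.PT H3.GR

namespace H12.NDA

universe u
variable {G : Type u} [Group G] [Finite G] {B : Subgroup G} [hB : B.Normal] {V : Type u}
  [AddCommGroup V] [Finite V] [Nontrivial V] [DistribMulAction G V] {g x y c : G} {v : V}

structure Hy (B : Subgroup G) (V : Type u) [AddCommGroup V] [DistribMulAction G V] (g : G) : Prop where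
  ab : ∀ a ∈ B, ∀ b ∈ B, a * b = b * a
  gen : B ⊔ zpowers g = ⊤
  ne : B ≠ ⊤
  nc : ∃ b ∈ B, b ∉ center G
  fp : ∀ x, x ∉ B → Fpf B (center G) x
  irr : ∀ U : AddSubgroup V, (∀ (g : G), ∀ v ∈ U, g • v ∈ U) → U = ⊥ ∨ U = ⊤
  sr : ∀ x ∈ B, x ∉ center G → ∀ v : V, x • v = v → v = 0
  st : ∀ v : V, v ≠ 0 → Ab (stabilizer G v) ∧ ¬ B.index ∣ (stabilizer G v).index ∧
    ∀ w : V, w ≠ 0 → (stabilizer G v).index ∣ (stabilizer G w).index →
      (stabilizer G v).index = (stabilizer G w).index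

theorem rep (B A : Subgroup G) [B.Normal] : ∃ (ι : Type u) (_ : Fintype ι) (_ : Nonempty ι) (ρ : ι → G),
    (∀ i, ρ i ∈ A) ∧ (∀ i j, (ρ i)⁻¹ * ρ j ∈ B → i = j) ∧
    ∀ a ∈ A, ∃ e : ι ≃ ι, ∀ i, (ρ (e i))⁻¹ * (a * ρ i) ∈ B := by
  have k : ∀ q : A.map (QuotientGroup.mk' B), ∃ a ∈ A, (a : G ⧸ B) = q.1 := fun q => q.2
  choose ρ h1 h2 using k
  refine ⟨_, Fintype.ofFinite _, ⟨1⟩, ρ, h1, fun i j e => Subtype.ext ?_, fun a ha =>
    ⟨Equiv.mulLeft ⟨a, mem_map_of_mem _ ha⟩, fun i => QuotientGroup.eq.1 ?_⟩⟩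
  · rw [← h2, ← h2]; exact QuotientGroup.eq.2 e
  · rw [h2, QuotientGroup.mk_mul, h2]; rfl

namespace Hy
variable (h : Hy B V g)
include h

theorem cenB (hx : x ∈ B) (v0 : v ≠ 0) (e : x • v = v) : x ∈ center G :=
  by_contra fun n => v0 (h.sr x hx n v e)

theorem triv (hx : x ∈ B) (v0 : v ≠ 0) (e : x • v = v) (w : V) : x • w = w := by
  have hc := mem_center_iff.1 (h.cenB hx v0 e)
  let U : AddSubgroup V :=
    { carrier := {w | x • w = w}
      zero_mem' := smul_zero x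
      add_mem' := fun {a b} ha hb => by
        change x • (a + b) = _; rw [smul_add, show x • a = a from ha, show x • b = b from hb]
      neg_mem' := fun {a} ha => by change x • (-a) = _; rw [smul_neg, show x • a = a from ha] }
  rcases h.irr U (fun k w hw => by
    change x • k • w = _; rw [← mul_smul, ← hc, mul_smul, show x • w = w from hw]) with a | a
  · exact absurd ((AddSubgroup.eq_bot_iff_forall _).1 a v e) v0
  · exact (AddSubgroup.eq_top_iff' _).1 a w

theorem cen (hy : y ∉ B) (hc : c ∈ B) (v0 : v ≠ 0) (e : (y * c * y⁻¹) • v = c • v) : c ∈ center G := by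
  have a := hB.conj_mem c hc y
  refine h.fp y hy c hc ?_
  rw [h.ab _ a _ (inv_mem hc)]
  exact h.cenB (mul_mem (inv_mem hc) a) v0 (by rw [mul_smul, e, inv_smul_smul])

theorem art {ι : Type u} (x : ι → G) (hx : ∀ i j, (x i)⁻¹ * x j ∈ B → i = j) (S : Finset ι) :
    ∀ v : ι → V, (∀ b ∈ B, ∑ i ∈ S, (x i * b * (x i)⁻¹) • v i = 0) → ∀ i ∈ S, v i = 0 := by
  classical
  obtain ⟨b0, b1, b2⟩ := h.nc
  induction S using Finset.induction_on with
  | empty => simp
  | insert a S ha ih =>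
  intro v hv
  have k : ∀ i ∈ S, v i = 0 := fun i hi => by_contra fun v0 => by
    have e := ih (fun i => (x i * b0 * (x i)⁻¹) • v i - (x a * b0 * (x a)⁻¹) • v i) (fun b hb => by
      have e1 := hv (b * b0) (mul_mem hb b1)
      have e2 := congrArg ((x a * b0 * (x a)⁻¹) • ·) (hv b hb)
      simp only [smul_zero, Finset.smul_sum] at e2
      have e3 := congrArg₂ (· - ·) e1 e2
      simp only [sub_zero, ← Finset.sum_sub_distrib] at e3
      have t : ∀ i, (x i * (b * b0) * (x i)⁻¹) • v i - (x a * b0 * (x a)⁻¹) • (x i * b * (x i)⁻¹) • v i =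
          (x i * b * (x i)⁻¹) • ((x i * b0 * (x i)⁻¹) • v i - (x a * b0 * (x a)⁻¹) • v i) := fun i => by
        rw [smul_sub, ← mul_smul, ← mul_smul, ← mul_smul,
          h.ab _ (hB.conj_mem _ b1 _) _ (hB.conj_mem _ hb _)]
        congr 2; group
      simp only [t] at e3
      rwa [Finset.sum_insert ha, sub_self, smul_zero, zero_add] at e3) i hi
    have n : x i * (x a)⁻¹ ∉ B := fun e => ha (hx a i (by
      simpa [mul_assoc] using hB.conj_mem _ e (x a)⁻¹) ▸ hi)
    have := h.cen n (hB.conj_mem _ b1 (x a)) v0 (by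
      rw [← sub_eq_zero.1 e]; congr 1; group)
    exact b2 (by simpa [mul_assoc] using (inferInstance : (center G).Normal).conj_mem _ this (x a)⁻¹)
  intro i hi
  rcases Finset.mem_insert.1 hi with rfl | hi
  · have := hv 1 (one_mem _)
    rwa [Finset.sum_insert ha, Finset.sum_eq_zero fun j hj => by rw [k j hj, smul_zero], add_zero,
      mul_one, mul_inv_cancel, one_smul] at this
  · exact k i hi

theorem art2 {ι : Type u} [Fintype ι] {A : Subgroup G} {ρ : ι → G} (h1 : ∀ i, ρ i ∈ A)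
    (h2 : ∀ i j, (ρ i)⁻¹ * ρ j ∈ B → i = j) (hx : ∀ a ∈ A, a⁻¹ * x ∉ B) (v w : ι → V)
    (e : ∀ b ∈ B, ∑ i, (ρ i * b * (ρ i)⁻¹) • v i = ∑ i, (x * ρ i * b * (x * ρ i)⁻¹) • w i) (i : ι) :
    v i = 0 := by
  have k : ∀ i j, (ρ i)⁻¹ * (x * ρ j) ∉ B := fun i j e =>
    hx _ (mul_mem (h1 i) (inv_mem (h1 j))) (by simpa [mul_assoc] using hB.conj_mem _ e (ρ j))
  refine h.art (ι := ι ⊕ ι) (Sum.elim ρ fun i => x * ρ i) ?_ Finset.univ
    (Sum.elim v fun i => -w i) (fun b hb => ?_) (.inl i) (Finset.mem_univ _)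
  · rintro (i | i) (j | j) e
    · rw [h2 i j e]
    · exact absurd e (k i j)
    · exact absurd (by simpa using inv_mem e) (k j i)
    · rw [h2 i j (by simpa [mul_assoc] using e)]
  · simp only [Fintype.sum_sum_type, Sum.elim_inl, Sum.elim_inr, smul_neg, Finset.sum_neg_distrib]
    rw [e b hb, add_neg_cancel]

theorem nz {A : Subgroup G} (hA : ∀ a ∈ A, a ∈ B → ∀ v : V, a • v = v) :
    (∃ u : V, u ≠ 0 ∧ ∀ a ∈ A, a • u = u) ∧
    ∀ x, (∀ u : V, (∀ a ∈ A, a • u = u) → x • u = u) → ∃ a ∈ A, a⁻¹ * x ∈ B := by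
  obtain ⟨ι, _, ⟨i⟩, ρ, h1, h2, h3⟩ := rep B A
  obtain ⟨v, v0⟩ := exists_ne (0 : V)
  have f : ∀ v : V, ∀ a ∈ A, a • ∑ i, ρ i • v = ∑ i, ρ i • v := fun v a ha => by
    obtain ⟨e, he⟩ := h3 a ha
    rw [Finset.smul_sum, ← Equiv.sum_comp e fun i => ρ i • v]
    refine Finset.sum_congr rfl fun i _ => ?_
    have := hA _ (mul_mem (inv_mem (h1 (e i))) (mul_mem ha (h1 i))) (he i) v
    rwa [mul_smul, inv_smul_eq_iff, mul_smul] at this
  have z : ρ i • v ≠ 0 := fun e => v0 (by rw [← inv_smul_smul (ρ i) v, e, smul_zero])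
  have t : ∀ (r b : G), (r * b * r⁻¹) • r • v = r • b • v := fun r b => by
    rw [← mul_smul, inv_mul_cancel_right, mul_smul]
  refine ⟨by_contra fun n => z (h.art ρ h2 Finset.univ (fun i => ρ i • v) (fun b _ => ?_) i
    (Finset.mem_univ _)), fun x hx => by_contra fun n => z (h.art2 (x := x) h1 h2
      (fun a ha e => n ⟨a, ha, e⟩) (fun i => ρ i • v) (fun i => (x * ρ i) • v) (fun b _ => ?_) i)⟩
  · simp only [t]
    exact by_contra fun e => n ⟨_, e, f _⟩
  · simp only [t]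
    simp only [mul_smul x]
    rw [← Finset.smul_sum, hx _ (f _)]

theorem gB : g ∉ B := fun e => h.ne (by rw [← h.gen, sup_eq_left.2 (zpowers_le.2 e)])

theorem dec (x : G) : ∃ b ∈ B, ∃ k ∈ zpowers g, b * k = x :=
  mem_sup_of_normal_left.1 (h.gen ▸ mem_top x)

end Hy

/-- the abelian supplement -/
def HH (g : G) : Subgroup G := center G ⊔ zpowers g

theorem HH_c (hx : x ∈ HH g) (hy : y ∈ HH g) : x * y = y * x := by
  have k : ∀ {a : G}, g * a = a * g → HH g ≤ centralizer {a} := fun {a} e =>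
    sup_le (center_le_centralizer _) (zpowers_le.2 (mem_centralizer_singleton_iff.2 e))
  exact mem_centralizer_singleton_iff.1 (k (mem_centralizer_singleton_iff.1 (k rfl hy)).symm hx)

theorem g_H : zpowers g ≤ HH g := le_sup_right
theorem c_H : center G ≤ HH g := le_sup_left

namespace Hy
variable (h : Hy B V g)
include h

theorem HB (hx : x ∈ HH g) (hb : x ∈ B) : x ∈ center G :=
  h.fp g h.gB x hb (by rw [HH_c (g_H (mem_zpowers g)) hx]; simp)

theorem CH (hy : y ∈ HH g) (yB : y ∉ B) (e : y * c = c * y) : c ∈ HH g := by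
  obtain ⟨b, hb, k, hk, rfl⟩ := h.dec c
  refine mul_mem (c_H (h.fp y yB b hb ?_)) (g_H hk)
  rw [mul_assoc b, HH_c (g_H hk) hy, ← mul_assoc, ← mul_assoc, mul_left_inj] at e
  rw [e]; simp

theorem CJ (hx : x ∉ B) : ∃ c ∈ B, c * x * c⁻¹ ∈ HH g := by
  obtain ⟨b, hb, k, hk, rfl⟩ := h.dec x
  have kB : k ∉ B := fun e => hx (mul_mem hb e)
  obtain ⟨y, hy, e⟩ := (h.fp k kB).exists_comm (nr (mem_top k)) (nr (mem_top k))
    (le_top.trans nr) hb
  refine ⟨y⁻¹, inv_mem hy, ?_⟩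
  have := mem_center_iff.1 e
  generalize hz : (y * k * y⁻¹ * k⁻¹)⁻¹ * b = z at e this
  have eb : b = (y * k * y⁻¹ * k⁻¹) * z := by rw [← hz]; group
  rw [eb, this]
  have : y⁻¹ * (z * (y * k * y⁻¹ * k⁻¹) * k) * y⁻¹⁻¹ = y⁻¹ * z * y * k := by group
  rw [this]
  exact mul_mem (c_H ((inferInstance : (center G).Normal).conj_mem' _ e y)) (g_H hk)

variable (hy : y ∈ HH g) (yB : y ∉ B)
include hy yB

theorem sH (v0 : v ≠ 0) (e : y • v = v) : stabilizer G v ≤ HH g := fun c hc =>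
  h.CH hy yB (congrArg Subtype.val ((h.st v v0).1.is_comm.comm ⟨y, e⟩ ⟨c, hc⟩))

theorem s1 (v0 : v ≠ 0) (ev : y • v = v) (e : x • v = v) (w : V) (ew : y • w = w) : x • w = w :=
  by_contra fun n => by
  have hs : ∀ v w : V, v ≠ 0 → w ≠ 0 → stabilizer G v ≤ stabilizer G w →
      stabilizer G w ≤ stabilizer G v := fun v w v0 w0 l =>
    relIndex_eq_one.1 (by
      have a := relIndex_mul_index l
      rw [← (h.st w w0).2.2 v v0 (index_dvd_of_le l)] at a
      exact (Nat.mul_eq_right (index_ne_zero_of_finite)).1 a)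
  have hx := h.sH hy yB v0 ev e
  have k : ∀ w : V, w ≠ 0 → y • w = w → stabilizer G w ≤ stabilizer G (x • w - w) :=
    fun w w0 ew a ha => by
      rw [mem_stabilizer_iff, smul_sub, ← mul_smul, HH_c (h.sH hy yB w0 ew ha) hx, mul_smul,
        show a • w = w from ha]
  have w0 : w ≠ 0 := by rintro rfl; exact n (smul_zero x)
  have e1 : x • (v + w) - (v + w) = x • w - w := by rw [smul_add, e, add_sub_add_left_eq_sub]
  have s0 : v + w ≠ 0 := fun e => n (sub_eq_zero.1 (by rw [← e1, e, smul_zero, sub_zero]))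
  have h1 := hs (v + w) _ s0 (sub_ne_zero.2 n) (e1 ▸ k _ s0 (by rw [smul_add, ev, ew]))
  refine n (hs w v w0 v0 (fun a ha => ?_) e)
  have := h1 (k w w0 ew ha)
  rwa [mem_stabilizer_iff, smul_add, show a • w = w from ha, add_left_inj] at this

end Hy

end H12.NDA
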