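import Cfsg.Agent.H12.ND1

/-! S4780, chunk `DA`, part 2. -/

set_option autoImplicit false
set_option linter.unusedSectionVars false

open Subgroup MulAction H19 H20 H6 Cfsg H3.PT H3.GR

namespace H12.NDA

universe u
variable {G : Type u} [Group G] [Finite G] {B : Subgroup G} [hB : B.Normal] {V : Type u}
  [AddCommGroup V] [Finite V] [Nontrivial V] [DistribMulAction G V] {g x y c : G} {v : V}

abbrev K0 (G V : Type u) [Group G] [AddCommGroup V] [DistribMulAction G V] : Subgroup G :=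
  (toPermHom G V).ker
noncomputable abbrev mm (B : Subgroup G) (V : Type u) [AddCommGroup V] [DistribMulAction G V] : ℕ :=
  (K0 G V).relIndex B
noncomputable abbrev od (B : Subgroup G) [B.Normal] (x : G) : ℕ := orderOf (x : G ⧸ B)

theorem mem_K : x ∈ K0 G V ↔ ∀ v : V, x • v = v := Equiv.ext_iff

theorem od_dvd {n : ℕ} : od B x ∣ n ↔ x ^ n ∈ B := by
  rw [orderOf_dvd_iff_pow_eq_one, ← QuotientGroup.mk_pow, QuotientGroup.eq_one_iff]

theorem od_one : od B x = 1 ↔ x ∈ B := by rw [← Nat.dvd_one, od_dvd, pow_one]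

theorem odK (hx : x ∈ B) : od (K0 G V) x ∣ mm B V := by
  have := relIndex_ker (K := B) (QuotientGroup.mk' (K0 G V))
  rw [QuotientGroup.ker_mk'] at this
  rw [mm, this]
  exact (B.map _).orderOf_dvd_natCard (mem_map_of_mem _ hx)

theorem ofK {r : ℕ} (hr : r.Prime) (n : ¬ r ∣ mm B V) (hx : x ∈ B) (e : x ^ r ∈ K0 G V) :
    x ∈ K0 G V :=
  od_one.1 (Nat.eq_one_of_dvd_coprimes (hr.coprime_iff_not_dvd.2 n) (od_dvd.2 e) (odK hx))

namespace Hy
variable (h : Hy B V g)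
include h

theorem idx (v0 : v ≠ 0) : ¬ B.relIndex (stabilizer G v) ∣ mm B V := fun ⟨k, hk⟩ => by
  have e : stabilizer G v ⊓ B = K0 G V ⊓ B := le_antisymm
    (fun a ha => ⟨mem_K.2 (h.triv ha.2 v0 ha.1), ha.2⟩) fun a ha => ⟨mem_K.1 ha.1 v, ha.2⟩
  have a := relIndex_mul_index (inf_le_left : stabilizer G v ⊓ B ≤ _)
  have b := relIndex_mul_index (inf_le_right : K0 G V ⊓ B ≤ _)
  rw [inf_relIndex_left, e] at a
  rw [inf_relIndex_right, ← a, show (K0 G V).relIndex B = _ from hk, mul_assoc,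
    Nat.mul_right_inj (relIndex_ne_zero' _ _)] at b
  exact (h.st v v0).2.1 (Dvd.intro_left _ b)

theorem ex (v0 : v ≠ 0) : ∃ y ∈ HH g, y ∉ B ∧ ∃ c ∈ B, y • c • v = c • v := by
  obtain ⟨x, a, b⟩ := SetLike.not_le_iff_exists.1 fun e => (h.st v v0).2.1 (index_dvd_of_le e)
  obtain ⟨c, hc, e⟩ := h.CJ b
  refine ⟨_, e, fun e => b (by simpa [mul_assoc] using hB.conj_mem' _ e c), c, hc, ?_⟩
  rw [← mul_smul, inv_mul_cancel_right, mul_smul, show x • v = v from a]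

theorem pr (hy : y ∈ HH g) (yB : y ∉ B) (v0 : v ≠ 0) (e : y • v = v) :
    (od B y).Prime ∧ ¬ od B y ∣ mm B V := by
  have s := relIndex_ker (K := stabilizer G v) (QuotientGroup.mk' B)
  rw [QuotientGroup.ker_mk'] at s
  have d : od B y ∣ B.relIndex (stabilizer G v) :=
    s ▸ ((stabilizer G v).map _).orderOf_dvd_natCard (mem_map_of_mem _ e)
  have n1 : B.relIndex (stabilizer G v) ≠ 1 := fun e => yB (od_one.1 (Nat.dvd_one.1 (e ▸ d)))
  obtain ⟨p, hp, pd⟩ := Nat.exists_prime_and_dvd n1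
  have := Fact.mk hp
  obtain ⟨⟨_, z, hz, rfl⟩, oz⟩ := exists_prime_orderOf_dvd_card' p (s ▸ pd)
  replace oz : od B z = p := (Subgroup.orderOf_coe _).trans oz
  have zB : z ∉ B := fun e => hp.ne_one (oz.symm.trans (od_one.2 e))
  have l : (stabilizer G v).map (QuotientGroup.mk' B) ≤ zpowers (QuotientGroup.mk' B z) := by
    rintro _ ⟨x, hx, rfl⟩
    obtain ⟨a, ha, e⟩ := (h.nz (A := zpowers z) fun a ha aB =>
      h.triv aB v0 (zpowers_le.2 hz ha)).2 x fun u hu =>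
        h.s1 (h.sH hy yB v0 e hz) zB v0 hz hx u (hu z (mem_zpowers z))
    rw [← MonoidHom.map_zpowers]
    exact ⟨a, ha, QuotientGroup.eq.2 e⟩
  have q : B.relIndex (stabilizer G v) = p :=
    Nat.dvd_antisymm (by rw [s, ← oz, od, ← Nat.card_zpowers]; exact card_dvd_of_le l) pd
  have r : od B y = p := ((Nat.dvd_prime hp).1 (q ▸ d)).resolve_left fun e => yB (od_one.1 e)
  exact ⟨r ▸ hp, r ▸ q ▸ h.idx v0⟩

theorem og : od B g = B.index := orderOf_eq_card_of_zpowers_eq_top (by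
  have := congrArg (Subgroup.map (QuotientGroup.mk' B)) h.gen
  rwa [Subgroup.map_sup, QuotientGroup.map_mk'_self, bot_sup_eq, MonoidHom.map_zpowers,
    map_top_of_surjective _ (QuotientGroup.mk'_surjective B)] at this)

theorem kk {d : ℕ} (hd : d ∣ B.index) (hc : d.Coprime (mm B V)) (d1 : d ≠ 1) : d.Prime := by
  have a : od B (g ^ (B.index / d)) = d := by
    rw [od, QuotientGroup.mk_pow, ← h.og]
    exact orderOf_pow_orderOf_div (orderOf_pos _).ne' (hd.trans h.og.symm.dvd)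
  have hk : g ^ (B.index / d) ∈ HH g := pow_mem (g_H (mem_zpowers g)) _
  generalize g ^ (B.index / d) = k at a hk
  have b : od B (k ^ mm B V) = d := by
    rw [od, QuotientGroup.mk_pow, (a ▸ hc : (od B k).Coprime _).orderOf_pow]; exact a
  obtain ⟨u, u0, hu⟩ := (h.nz (A := zpowers (k ^ mm B V)) fun z hz zB => by
    obtain ⟨n, rfl⟩ := mem_powers_iff_mem_zpowers.2 hz
    have : k ^ n ∈ B := od_dvd.1 (a ▸ b ▸ od_dvd.2 zB)
    change ∀ v : V, ((k ^ _) ^ n) • v = v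
    rw [← pow_mul, mul_comm, pow_mul]
    exact mem_K.1 (od_dvd.1 (odK this))).1
  exact b ▸ (h.pr (pow_mem hk _) (fun e => d1 (b ▸ od_one.2 e)) u0 (hu _ (mem_zpowers _))).1

theorem zp {r : ℕ} (hr : r.Prime) (e1 : od B x = r) (e2 : od B y = r) : ∃ n : ℕ, (x ^ n)⁻¹ * y ∈ B := by
  obtain ⟨e, he⟩ : r ∣ B.index := e1 ▸ orderOf_dvd_natCard _
  have e0 : e ≠ 0 := by rintro rfl; exact index_ne_zero_of_finite he
  have k : ∀ z : G, od B z = r → zpowers (z : G ⧸ B) = zpowers ((g : G ⧸ B) ^ e) := fun z hz => by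
    refine eq_of_le_of_card_ge (zpowers_le.2 ?_) ?_
    · obtain ⟨b, hb, _, hk, rfl⟩ := h.dec z
      obtain ⟨i, rfl⟩ := mem_powers_iff_mem_zpowers.2 hk
      have t : ((b * g ^ i : G) : G ⧸ B) = (g : G ⧸ B) ^ i := by
        rw [QuotientGroup.mk_mul, (QuotientGroup.eq_one_iff b).2 hb, one_mul, QuotientGroup.mk_pow]
      have : od B g ∣ i * r := by
        rw [orderOf_dvd_iff_pow_eq_one, pow_mul, ← t, ← hz]; exact pow_orderOf_eq_one _
      rw [h.og, he, mul_comm i, Nat.mul_dvd_mul_iff_left hr.pos] at this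
      obtain ⟨j, rfl⟩ := this
      change ((b * g ^ (e * j) : G) : G ⧸ B) ∈ _
      rw [t, pow_mul]; exact pow_mem (mem_zpowers _) _
    · rw [Nat.card_zpowers, Nat.card_zpowers, orderOf_pow_of_dvd e0 (by
        rw [show orderOf _ = _ from h.og, he]; exact dvd_mul_left _ _), show orderOf _ = _ from h.og, he,
        Nat.mul_div_cancel _ (Nat.pos_of_ne_zero e0)]
      exact hz.ge
  obtain ⟨n, hn⟩ := mem_powers_iff_mem_zpowers.2 ((k x e1).trans (k y e2).symm ▸ mem_zpowers _ :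
    (y : G ⧸ B) ∈ zpowers (x : G ⧸ B))
  exact ⟨n, QuotientGroup.eq.1 (by rw [QuotientGroup.mk_pow]; exact hn)⟩

variable (hy : y ∈ HH g) (yB : y ∉ B) (v0 : v ≠ 0) (ev : y • v = v)
include hy yB v0 ev

theorem yK : y ^ od B y ∈ K0 G V :=
  mem_K.2 (h.triv (od_dvd.1 dvd_rfl) v0 (pow_mem (show y ∈ stabilizer G v from ev) _))

theorem cover (w : V) : ∃ c ∈ B, y • c • w = c • w := by
  by_cases w0 : w = 0
  · exact ⟨1, one_mem _, by simp [w0]⟩
  obtain ⟨x, hx, xB, c, hc, e⟩ := h.ex w0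
  have c0 : c • w ≠ 0 := fun e => w0 (by rw [← inv_smul_smul c w, e, smul_zero])
  obtain ⟨p1, p2⟩ := h.pr hy yB v0 ev
  obtain ⟨q1, q2⟩ := h.pr hx xB c0 e
  have r : od B x = od B y := by_contra fun n => Nat.not_prime_mul q1.ne_one p1.ne_one
    (h.kk (((Nat.coprime_primes q1 p1).2 n).mul_dvd_of_dvd_of_dvd (orderOf_dvd_natCard _)
      (orderOf_dvd_natCard _)) (Nat.Coprime.mul_left (q1.coprime_iff_not_dvd.2 q2)
        (p1.coprime_iff_not_dvd.2 p2)) fun e => q1.ne_one (Nat.eq_one_of_mul_eq_one_right e))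
  obtain ⟨n, hn⟩ := h.zp p1 r rfl
  have z := ofK p1 p2 hn (by
    rw [Commute.mul_pow (HH_c (inv_mem (pow_mem hx n)) hy), inv_pow, ← pow_mul, mul_comm n, pow_mul]
    exact mul_mem (inv_mem (pow_mem (r ▸ h.yK hx xB c0 e) n)) (h.yK hy yB v0 ev))
  refine ⟨c, hc, ?_⟩
  have := mem_K.1 z (c • w)
  rw [mul_smul, inv_smul_eq_iff] at this
  rw [this]
  exact pow_mem (show x ∈ stabilizer G (c • w) from e) n

theorem int {W X : AddSubgroup V} (hW : ∀ b ∈ B, ∀ w ∈ W, b • w ∈ W) (hX : ∀ b ∈ B, ∀ w ∈ X, b • w ∈ X)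
    (W0 : W ≠ ⊥) (X0 : X ≠ ⊥) : W ⊓ X ≠ ⊥ := fun e => by
  have k : ∀ {W : AddSubgroup V}, (∀ b ∈ B, ∀ w ∈ W, b • w ∈ W) → (∀ w ∈ W, y • w ∈ W) ∧
      (W ≠ ⊥ → ∃ u ∈ W, u ≠ 0 ∧ y • u = u) := fun {W} hW => ⟨fun w hw => by
        obtain ⟨c, hc, e⟩ := h.cover hy yB v0 ev w
        have := hW _ (hB.conj_mem _ (inv_mem hc) y) _ (hW c hc w hw)
        rwa [mul_smul, inv_smul_eq_iff.2 e.symm, mul_smul, inv_smul_smul] at this,
      fun W0 => by
        obtain ⟨⟨w, hw⟩, w0⟩ := (AddSubgroup.ne_bot_iff_exists_ne_zero).1 W0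
        obtain ⟨c, hc, e⟩ := h.cover hy yB v0 ev w
        exact ⟨_, hW c hc w hw, fun e => w0 (Subtype.ext (show w = 0 by
          rw [← inv_smul_smul c w, e, smul_zero])), e⟩⟩
  obtain ⟨a, a1, a2, a3⟩ := (k hW).2 W0
  obtain ⟨b, b1, b2, b3⟩ := (k hX).2 X0
  obtain ⟨b0, n1, n2⟩ := h.nc
  obtain ⟨c, hc, t⟩ := h.cover hy yB v0 ev (a + b0 • b)
  have m1 := hW c hc a a1
  have m2 := hX _ (mul_mem hc n1) b b1
  rw [smul_add, smul_add, ← mul_smul c b0] at t
  have t1 : y • c • a - c • a = (c * b0) • b - y • (c * b0) • b := by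
    rw [sub_eq_sub_iff_add_eq_add, t, add_comm]
  have t2 : y • c • a - c • a = 0 := (AddSubgroup.eq_bot_iff_forall _).1 e _
    (AddSubgroup.mem_inf.2 ⟨W.sub_mem ((k hW).1 _ m1) m1, t1 ▸ X.sub_mem m2 ((k hX).1 _ m2)⟩)
  have f : ∀ {c : G} {a : V}, c ∈ B → a ≠ 0 → y • a = a → y • c • a = c • a → c ∈ center G :=
    fun {c a} hc a0 e1 e2 => h.cen yB hc a0 (by
      rw [mul_smul, mul_smul, inv_smul_eq_iff.2 e1.symm, e2])
  exact n2 ((mul_mem_cancel_left (f hc a2 a3 (sub_eq_zero.1 t2))).1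
    (f (mul_mem hc n1) b2 b3 (sub_eq_zero.1 (t1.symm.trans t2)).symm))

theorem simp {W : AddSubgroup V} (hW : ∀ b ∈ B, ∀ w ∈ W, b • w ∈ W) (W0 : W ≠ ⊥) : W = ⊤ := by
  obtain ⟨M, ⟨M1, M0⟩, hM⟩ := (wellFounded_lt (α := AddSubgroup V)).has_min
    {W | (∀ b ∈ B, ∀ w ∈ W, b • w ∈ W) ∧ W ≠ ⊥} ⟨W, hW, W0⟩
  have k : ∀ X : AddSubgroup V, (∀ b ∈ B, ∀ w ∈ X, b • w ∈ X) → X ≠ ⊥ → M ≤ X := fun X a b =>
    inf_eq_left.1 (by_contra fun n => hM (M ⊓ X) ⟨fun c hc w hw => ⟨M1 c hc w hw.1, a c hc w hw.2⟩,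
      h.int hy yB v0 ev M1 a M0 b⟩ (lt_of_le_of_ne inf_le_left n))
  refine top_le_iff.1 (((h.irr M fun x w hw => ?_).resolve_left M0).ge.trans (k W hW W0))
  refine k (M.comap (DistribSMul.toAddMonoidHom V x)) (fun b hb w hw => ?_) (fun e => M0 ?_) hw
  · change x • b • w ∈ M
    have := M1 _ (hB.conj_mem b hb x) _ hw
    rwa [DistribSMul.toAddMonoidHom_apply, ← mul_smul, inv_mul_cancel_right, mul_smul] at this
  · refine (AddSubgroup.eq_bot_iff_forall _).2 fun u hu => ?_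
    have := (AddSubgroup.eq_bot_iff_forall _).1 e (x⁻¹ • u) (by
      change x • x⁻¹ • u ∈ M; rwa [smul_inv_smul])
    rw [← smul_inv_smul x u, this, smul_zero]

theorem fin (hx : x ∈ HH g) (xB : x ∉ B) (n : ∀ a ∈ zpowers x, a⁻¹ * y ∉ B) : False := by
  obtain ⟨ι, _, ⟨i⟩, ρ, h1, h2, h3⟩ := rep B (zpowers x)
  refine v0 (h.art2 h1 h2 n (fun _ => v) (fun _ => v) (fun b hb => ?_) i)
  obtain ⟨p1, p2⟩ := h.pr hy yB v0 ev
  let w : V → V := fun u => ∑ i, (ρ i * b * (ρ i)⁻¹) • u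
  have t : ∀ u, ∑ i, (y * ρ i * b * (y * ρ i)⁻¹) • u = y • w (y⁻¹ • u) := fun u => by
    simp only [w, Finset.smul_sum, ← mul_smul]
    exact Finset.sum_congr rfl fun i _ => by congr 1; group
  have wB : ∀ c ∈ B, ∀ u, w (c • u) = c • w u := fun c hc u => by
    simp only [w, Finset.smul_sum, ← mul_smul]
    exact Finset.sum_congr rfl fun i _ => by rw [h.ab _ (hB.conj_mem b hb _) c hc]
  have wa : ∀ u u', w (u + u') = w u + w u' := fun u u' => by
    simp only [w, smul_add, Finset.sum_add_distrib]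
  have wn : ∀ u, w (-u) = -w u := fun u => by simp only [w, smul_neg, Finset.sum_neg_distrib]
  have wx : ∀ u, w (x • u) = x • w u := fun u => by
    obtain ⟨e, he⟩ := h3 x (mem_zpowers x)
    simp only [w, Finset.smul_sum, ← mul_smul]
    rw [← Equiv.sum_comp e]
    refine Finset.sum_congr rfl fun i _ => ?_
    have := h.ab _ (he i) b hb
    congr 1
    calc ρ (e i) * b * (ρ (e i))⁻¹ * x = ρ (e i) * (b * ((ρ (e i))⁻¹ * (x * ρ i))) * (ρ i)⁻¹ := by group
      _ = _ := by rw [← this]; group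
  rw [t, inv_smul_eq_iff.2 ev.symm]
  change w v = _
  by_cases w0 : w v = 0
  · rw [w0, smul_zero]
  obtain ⟨c, hc, e⟩ := h.cover hy yB v0 ev (w v)
  have d1 : (y * c * y⁻¹)⁻¹ * c ∈ B := mul_mem (inv_mem (hB.conj_mem c hc y)) hc
  have d2 : y • w v = ((y * c * y⁻¹)⁻¹ * c) • w v := by
    rw [mul_smul, eq_inv_smul_iff, ← mul_smul, inv_mul_cancel_right, mul_smul, e]
  generalize (y * c * y⁻¹)⁻¹ * c = β at d1 d2
  let U : AddSubgroup V :=
    { carrier := {u | y • w (y⁻¹ • u) = β • w u}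
      zero_mem' := by simp [w]
      add_mem' := fun {a b} ha hb => by
        change y • w (y⁻¹ • (a + b)) = β • w (a + b)
        rw [smul_add, wa, wa, smul_add, smul_add, show y • w (y⁻¹ • a) = _ from ha,
          show y • w (y⁻¹ • b) = _ from hb]
      neg_mem' := fun {a} ha => by
        change y • w (y⁻¹ • (-a)) = β • w (-a)
        rw [smul_neg, wn, wn, smul_neg, smul_neg, show y • w (y⁻¹ • a) = _ from ha] }
  have hU : ∀ u, y • w (y⁻¹ • u) = β • w u := (AddSubgroup.eq_top_iff' U).1 (h.simp hy yB v0 ev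
    (fun a ha u hu => by
      change y • w (y⁻¹ • a • u) = β • w (a • u)
      rw [wB a ha, ← mul_smul β, h.ab β d1 a ha, mul_smul, ← show y • w (y⁻¹ • u) = _ from hu,
        show y⁻¹ • a • u = (y⁻¹ * a * y) • y⁻¹ • u by rw [← mul_smul, ← mul_smul]; congr 1; group,
        wB _ (hB.conj_mem' a ha y), ← mul_smul, ← mul_smul]
      congr 1; group)
    fun e => v0 ((AddSubgroup.eq_bot_iff_forall _).1 e v (by
      change y • w (y⁻¹ • v) = β • w v
      rw [inv_smul_eq_iff.2 ev.symm, d2])))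
  have cm := HH_c hx hy
  have bc : β ∈ center G := h.cen (v := x • w v) xB d1
    (fun e => w0 (by rw [← inv_smul_smul x (w v), e, smul_zero])) (by
      rw [← mul_smul, inv_mul_cancel_right, mul_smul, ← d2, ← wx, ← hU, ← mul_smul y⁻¹,
        show y⁻¹ * x = x * y⁻¹ from (Commute.inv_right cm).eq.symm, mul_smul,
        inv_smul_eq_iff.2 ev.symm, wx, ← mul_smul, ← mul_smul, cm])
  have pw : ∀ k : ℕ, (y ^ k) • w v = (β ^ k) • w v := fun k => by
    induction k with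
    | zero => simp
    | succ k ih => rw [pow_succ, mul_smul, d2, ← mul_smul, mem_center_iff.1 bc, mul_smul, ih,
        ← mul_smul, pow_succ']
  rw [d2]
  exact (mem_K.1 (ofK p1 p2 d1 (mem_K.2 (h.triv (pow_mem d1 _) w0 (by
    rw [← pw]; exact mem_K.1 (h.yK hy yB v0 ev) _)))) _).symm

end Hy

theorem da : H24.ND.DA.{u} := by
  intro G _ _ B _ V _ _ _ _ ab ⟨g, hg⟩ ne nc fp _ irr sr st
  have h : Hy B V g := ⟨fun a ha b hb => congrArg Subtype.val (ab.is_comm.comm ⟨a, ha⟩ ⟨b, hb⟩), hg, ne,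
    SetLike.not_le_iff_exists.1 nc, fp, irr, sr, st⟩
  obtain ⟨v, v0⟩ := exists_ne (0 : V)
  obtain ⟨y, hy, yB, c, -, e⟩ := h.ex v0
  have c0 : c • v ≠ 0 := fun e => v0 (by rw [← inv_smul_smul c v, e, smul_zero])
  obtain ⟨p1, p2⟩ := h.pr hy yB c0 e
  obtain ⟨k, hk⟩ : od B y ∣ B.index := orderOf_dvd_natCard _
  by_cases k1 : k = 1
  · rwa [hk, k1, mul_one]
  have a : od B (g ^ od B y) = k := by
    rw [od, QuotientGroup.mk_pow, orderOf_pow_of_dvd p1.ne_zero ((Dvd.intro _ hk.symm).trans h.og.symm.dvd),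
      show orderOf _ = _ from h.og, hk, Nat.mul_div_cancel_left _ p1.pos]
  refine (h.fin hy yB c0 e (pow_mem (g_H (mem_zpowers g)) _) (fun e => k1 (a ▸ od_one.2 e))
    fun z hz zB => Nat.not_prime_mul p1.ne_one p1.ne_one (h.kk (hk ▸ Nat.mul_dvd_mul_left _ ?_)
      (Nat.Coprime.mul_left (p1.coprime_iff_not_dvd.2 p2) (p1.coprime_iff_not_dvd.2 p2))
      fun e => p1.ne_one (Nat.eq_one_of_mul_eq_one_right e))).elim
  refine Dvd.dvd.trans (orderOf_dvd_of_mem_zpowers ?_) a.dvd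
  rw [← QuotientGroup.eq.2 zB]
  generalize g ^ od B y = x at hz
  change QuotientGroup.mk' B z ∈ zpowers (QuotientGroup.mk' B x)
  rw [← MonoidHom.map_zpowers]; exact mem_map_of_mem _ hz

end H12.NDA
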