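/-
S5258, chunk L2: the unipotent group is transitive on the other points.
-/
import Cfsg.Agent.H8.PU2

set_option autoImplicit false
set_option linter.unusedSectionVars false

namespace H12.PU
open Subgroup H8.PU H8.PU.Cd H24.SP
universe v

theorem cnt {Γ ι : Type*} [Group Γ] (B : Subgroup Γ) (X : Set Γ) (f : ι → Γ)
    (inj : ∀ i j, (f i)⁻¹ * f j ∈ B → i = j) (hX : ∀ g, g ∈ X ↔ ∃ i, (f i)⁻¹ * g ∈ B) :
    Nat.card X = Nat.card ι * Nat.card B := by
  rw [← Nat.card_prod]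
  refine (Nat.card_eq_of_bijective (fun x : ι × B => (⟨f x.1 * x.2, (hX _).2 ⟨x.1, by simp⟩⟩ : X))
    ⟨?_, ?_⟩).symm
  · rintro ⟨i, b⟩ ⟨j, c⟩ e
    have e : f i * b = f j * c := congrArg Subtype.val e
    obtain rfl := inj i j (by
      rw [eq_mul_inv_of_mul_eq e.symm, mul_assoc, inv_mul_cancel_left]
      exact mul_mem b.2 (inv_mem c.2))
    exact Prod.ext rfl (Subtype.ext (mul_left_cancel e))
  · rintro ⟨g, hg⟩
    obtain ⟨i, h⟩ := (hX g).1 hg
    exact ⟨(i, ⟨_, h⟩), Subtype.ext (by simp)⟩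

theorem cz {Γ : Type*} [Group Γ] {a b t : Γ} : a⁻¹ * b ∈ centralizer {t} ↔ b * t * b⁻¹ = a * t * a⁻¹ := by
  rw [mem_centralizer_singleton_iff, mul_inv_eq_iff_eq_mul, mul_assoc, inv_mul_eq_iff_eq_mul]
  simp only [mul_assoc]

theorem ar {q k : ℕ} (hq : 1 < q) (hk : 0 < k) (h : q * k + 1 ∣ (q ^ 2 * (q * k) + 1) * q ^ 2) : k = 1 := by
  have c : (q * k + 1).Coprime (q ^ 2) := Nat.Coprime.pow_right _ (by simp)
  obtain ⟨j, hj⟩ := c.dvd_of_dvd_mul_right h
  obtain ⟨i, hi⟩ : ∃ i : ℤ, (q : ℤ) ^ 2 - 1 = (q * k + 1) * i :=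
    ⟨q ^ 2 - j, by zify at hj; linear_combination -hj⟩
  by_contra n
  have k2 : (2 : ℤ) ≤ k := by omega
  have q1 : (1 : ℤ) < q := by omega
  have i0 : 0 < i := by by_contra! i0; nlinarith [mul_nonneg (show (0 : ℤ) ≤ q * k + 1 by positivity) (neg_nonneg.2 i0)]
  have := Int.le_of_dvd (show 0 < i + 1 by omega) (⟨q - k * i, by linear_combination -hi⟩ : (q : ℤ) ∣ i + 1)
  nlinarith [mul_nonneg (show (0 : ℤ) ≤ q by omega) (show (0 : ℤ) ≤ (k - 2) * i by positivity)]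

variable {K : Type v} [Field K] [Finite K] {σ : K →+* K} [IV σ] {p : ℕ} [Fact p.Prime] [CharP K p]
  {G : Subgroup (AV K)} {g g' t : AV K} {c c' : K}

theorem bo_ex (h : Bo g) (c : K) : ∃ d, g (0, 0, c) = (0, 0, d) := ⟨_, Prod.ext (h c).1 (Prod.ext (h c).2 rfl)⟩

/-- points sharing a vector coincide -/
theorem sh (o : Opp G) (hg : g ∈ G) (hg' : g' ∈ G) (h0 : c ≠ 0) (e : g (0, 0, c) = g' (0, 0, c')) :
    Bo (g'⁻¹ * g) := by_contra fun n =>
  h0 (o _ (mul_mem (inv_mem hg') hg) n c (by rw [mul_ap, e, inv_ap]))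

theorem uq (o : Opp G) (hg : g ∈ G) (n : ¬ Bo g) (h : Bo (g⁻¹ * g'))
    (e : (g (0, 0, c)).1 = (g' (0, 0, c')).1) : g (0, 0, c) = g' (0, 0, c') := by
  obtain ⟨d, hd⟩ := bo_ex h c'
  have e' : g' (0, 0, c') = g (0, 0, d) := by rw [← hd, mul_ap, ap_inv]
  have := o g hg n (c - d) (by
    rw [show ((0, 0, c - d) : K × K × K) = (0, 0, c) - (0, 0, d) by simp, map_sub, Prod.fst_sub, e, e', sub_self])
  rw [e', sub_eq_zero.1 this]

theorem ex1 (o : Opp G) (hg : g ∈ G) (n : ¬ Bo g) (a : K) : ∃ c, (g (0, 0, c)).1 = a :=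
  Finite.surjective_of_injective (f := fun c => (g (0, 0, c)).1) (fun c d e => sub_eq_zero.1 (o g hg n _ (by
    rw [show ((0, 0, c - d) : K × K × K) = (0, 0, c) - (0, 0, d) by simp, map_sub, Prod.fst_sub, sub_eq_zero]
    exact e))) a

theorem ne0 {v : K × K × K} (e : g (0, 0, c) = v) (h : v.1 = 1) : c ≠ 0 ∧ ¬ Bo g :=
  ⟨fun z => by
    rw [z, show ((0, 0, 0) : K × K × K) = 0 from rfl, map_zero] at e
    simp [← e] at h, fun b => by rw [← e, (b c).1] at h; exact zero_ne_one h⟩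

/-- the stabilizer of the base point -/
def BB (o : Opp G) : Subgroup (AV K) where
  carrier := {g | g ∈ G ∧ Bo g}
  one_mem' := ⟨one_mem G, fun _ => ⟨rfl, rfl⟩⟩
  mul_mem' := fun {a b} h h' => ⟨mul_mem h.1 h'.1, fun c => by
    obtain ⟨d, e⟩ := bo_ex h'.2 c
    rw [mul_ap, e]; exact h.2 d⟩
  inv_mem' := fun {a} h => ⟨inv_mem h.1, by
    obtain ⟨d, e⟩ := bo_ex h.2 1
    simpa using sh o (one_mem G) h.1 (c := d) (c' := 1) (fun z => by
      rw [z, show ((0, 0, 0) : K × K × K) = 0 from rfl, map_eq_zero_iff _ a.injective] at e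
      simp at e) e.symm⟩

theorem trU {v w : K × K × K} (h : v.1 = 1) (h' : w.1 = 1) (e : hh σ v v = hh σ w w) :
    ∃ u : Cd σ, uu u v = w := by
  obtain ⟨a, b, c⟩ := v
  obtain ⟨a', b', c'⟩ := w
  simp only [hh] at h h' e
  subst h h'
  refine ⟨⟨0, 0, 0, 0, b - b', σ (c' - c - b * σ (b - b')), by simp, ?_⟩, ?_⟩
  · simp only [map_sub, map_mul, ss, map_one] at e ⊢
    linear_combination -e
  · simp [uu_ap, ss]; ring

theorem cf (ht : Dg σ t 1 (-1) (.refl K)) (x : K) (v : K × K × K) :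
    (uu (xx (σ := σ) x) * t * (uu (xx (σ := σ) x))⁻¹) v =
      (v.1, -v.2.1 - 2 * v.1 * x, v.2.2 - 2 * v.1 * x * σ x - 2 * v.2.1 * σ x) := by
  rw [← map_inv, mul_ap, mul_ap, uu_ap, uu_ap, ht]
  ext <;> simp [ss, s_th] <;> ring

theorem inv_class (h : LH σ p G) (h2 : (2 : K) ≠ 0) (ht : Dg σ t 1 (-1) (.refl K)) (hg : g * t * g⁻¹ ∈ G)
    (f : ∀ c, (g * t * g⁻¹) (0, 0, c) = (0, 0, c)) :
    ∃ x, g * t * g⁻¹ = uu (xx (σ := σ) x) * t * (uu (xx (σ := σ) x))⁻¹ := by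
  have s2 : ∀ v, (g * t * g⁻¹) ((g * t * g⁻¹) v) = v := fun v => by
    simp only [mul_ap, inv_ap, ht _]; simp
  have s1 : ¬ ∀ v, (g * t * g⁻¹) v = v := fun k => by
    have := k (g (0, 1, 0))
    rw [mul_ap, mul_ap, inv_ap, g.injective.eq_iff, ht] at this
    simp only [Prod.ext_iff, RingEquiv.refl_apply] at this
    exact h2 (by linear_combination -this.2.1)
  generalize g * t * g⁻¹ = s at *
  obtain ⟨u, r, τ, φ, r0, t0, d⟩ := h.bor s hg fun c => by simp [f]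
  have e : ∀ v, s v = uu u (r * φ v.1, r * τ * φ v.2.1, r * τ * σ τ * φ v.2.2) := fun v => by
    rw [← d v, mul_ap, ap_inv]
  have e1 : ∀ c, r * τ * σ τ * φ c = c := fun c => by simpa [e, uu_ap] using f c
  have e2 : r * τ * σ τ = 1 := by simpa using e1 1
  simp only [e2, one_mul] at e1
  simp only [e1, e2, one_mul, uu_ap] at e
  have e3 := s2 (1, 0, 0)
  have e4 := s2 (0, 1, 0)
  simp only [e, Prod.ext_iff] at e3 e4
  have e5 : (τ - 1) * (τ + 1) = 0 := by linear_combination e4.2.1 - τ ^ 2 * e3.1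
  rcases mul_eq_zero.1 e5 with k | k
  · obtain rfl : τ = 1 := sub_eq_zero.1 k
    obtain rfl : r = 1 := by simpa using e2
    have x0 : u.x = 0 := mul_left_cancel₀ h2 (by linear_combination -e3.2.1)
    have y0 : σ u.y = 0 := mul_left_cancel₀ h2 (by rw [x0] at e3; linear_combination e3.2.2)
    exact (s1 fun v => by simp [e, x0, y0]).elim
  · obtain rfl : τ = -1 := eq_neg_of_add_eq_zero_left k
    obtain rfl : r = 1 := by simpa using e2
    refine ⟨u.x / 2, LinearEquiv.ext fun v => ?_⟩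
    rw [cf ht, e, map_div₀, map_ofNat]
    refine Prod.ext (by simp) (Prod.ext ?_ ?_) <;> dsimp only <;> field_simp
    linear_combination v.1 * e3.2.2

/-- the points in the fixed space of `t` -/
def A0 (G : Subgroup (AV K)) : Set K := {c | ∃ g ∈ G, ∃ d, g (0, 0, d) = (1, 0, c)}

theorem a0 (h : LH σ p G) (hg : g ∈ G) {b : K} (e : g (0, 0, c) = (1, b, c')) :
    c' - σ (th σ * (b * σ b)) ∈ A0 G :=
  ⟨(uu (xx (σ := σ) (-b)))⁻¹ * g, mul_mem (inv_mem (h.syl.1 ⟨_, rfl⟩)) hg, c, by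
    rw [mul_ap, e, ← (uu (xx (σ := σ) (-b))).injective.eq_iff, ap_inv]; simp [uu_ap]⟩

theorem sk (h : LH σ p G) (o : Opp G) (h2 : (2 : K) ≠ 0) (hc : c ∈ A0 G) (hc' : c' ∈ A0 G) :
    c + σ c = c' + σ c' := by
  obtain ⟨t, tG, ht⟩ := h.tt
  have U : ∀ u : Cd σ, uu u ∈ G := fun u => h.syl.1 ⟨u, rfl⟩
  choose γ γG δ hγ using fun c : A0 G => c.2
  have n := fun c => ne0 (hγ c) rfl
  have c1 := cnt (BB o) G (fun i : Option (K × A0 G) => i.elim 1 fun i => uu (xx (σ := σ) i.1) * γ i.2) ?_ ?_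
  have c2 := cnt (BB o) {g | g ∈ G ∧ ∀ c, t (g (0, 0, c)) = g (0, 0, c)}
    (fun i : Option (A0 G) => i.elim 1 γ) ?_ ?_
  have c3 := cnt (G ⊓ centralizer {t}) {g | g ∈ G ∧ ∀ c, (g * t * g⁻¹) (0, 0, c) = (0, 0, c)}
    (fun x : K => uu (xx (σ := σ) x)) ?_ ?_
  · have c4 : Nat.card {g | g ∈ G ∧ ∀ c, t (g (0, 0, c)) = g (0, 0, c)} =
        Nat.card {g | g ∈ G ∧ ∀ c, (g * t * g⁻¹) (0, 0, c) = (0, 0, c)} :=
      Nat.card_congr ((Equiv.inv _).subtypeEquiv fun g => by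
        simp only [Set.mem_setOf_eq, Equiv.inv_apply, inv_mem_iff, inv_inv, mul_ap]
        exact and_congr_right fun _ => forall_congr' fun c => by rw [← g.injective.eq_iff (a := g⁻¹ _), ap_inv])
    obtain ⟨j, hj⟩ := card_dvd_of_le (inf_le_left : G ⊓ centralizer {t} ≤ G)
    have c5 : Nat.card (A0 G) = Nat.card (Fx σ) * Nat.card ((fun c => c + σ c) '' A0 G) := by
      rw [← card_sk, ← Nat.card_prod]
      refine (Nat.card_eq_of_bijective (fun x : Sk σ × ((fun c => c + σ c) '' A0 G) =>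
        (⟨x.1 - th σ * x.2, ?_⟩ : A0 G)) ⟨?_, ?_⟩).symm
      · obtain ⟨⟨s, hs⟩, _, b, ⟨g, hg, d, e⟩, rfl⟩ := x
        exact ⟨uu (xy (σ := σ) (σ (s - th σ * (b + σ b) - b)) (by
          simp only [map_sub, map_mul, map_add, ss, s_th, hs, map_neg, map_one]; ring)) * g, mul_mem (U _) hg, d, by
          rw [mul_ap, e]; simp [uu_ap, ss]⟩
      · rintro ⟨⟨s, hs⟩, _, b, hb, rfl⟩ ⟨⟨s', hs'⟩, _, b', hb', rfl⟩ e
        have e : s - th σ * (b + σ b) = s' - th σ * (b' + σ b') := congrArg Subtype.val e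
        have e' := congrArg σ e
        simp only [map_sub, map_mul, map_add, ss, s_th, hs, hs'] at e'
        have k : b + σ b = b' + σ b' := by linear_combination e + e'
        exact Prod.ext (Subtype.ext (by simpa [k] using e)) (Subtype.ext k)
      · rintro ⟨b, hb⟩
        exact ⟨(⟨b + th σ * (b + σ b), by simp only [map_mul, map_add, ss, s_th]; ring⟩, ⟨_, b, hb, rfl⟩),
          Subtype.ext (by simp)⟩
    have : Nonempty ((fun c => c + σ c) '' A0 G) := ⟨⟨_, c, hc, rfl⟩⟩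
    rw [Finite.card_option, Nat.card_prod, c5, card_K σ] at c1
    rw [Finite.card_option, c5, c4, c3, card_K σ] at c2
    have k := ar (one_lt_fx σ) Nat.card_pos ⟨j, Nat.eq_of_mul_eq_mul_right (Nat.card_pos (α := BB o)) (by
      rw [mul_right_comm, ← c1, mul_right_comm, ← c2]
      exact (congrArg (· * _) hj).trans (by ring))⟩
    exact congrArg Subtype.val ((Nat.card_eq_one_iff_unique.1 k).1.elim ⟨_, c, hc, rfl⟩ ⟨_, c', hc', rfl⟩)
  · intro x y k
    have := congrArg (fun g : AV K => (g (1, 0, 0)).2.1) (cz.1 (mem_inf.1 k).2)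
    simp only [cf ht] at this
    exact mul_left_cancel₀ h2 (by linear_combination this)
  · refine fun g => ⟨fun k => ?_, fun ⟨x, k⟩ => ?_⟩
    · obtain ⟨x, e⟩ := inv_class h h2 ht (mul_mem (mul_mem k.1 tG) (inv_mem k.1)) k.2
      exact ⟨x, mem_inf.2 ⟨mul_mem (inv_mem (U _)) k.1, cz.2 e⟩⟩
    · refine ⟨by simpa using mul_mem (U (xx x)) (mem_inf.1 k).1, fun c => ?_⟩
      rw [cz.1 (mem_inf.1 k).2, cf ht]
      simp
  · rintro (_ | i) (_ | j) k
    · rfl
    · exact ((n j).2 (by simpa using k.2)).elim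
    · exact ((n i).2 (by simpa using (inv_mem k).2)).elim
    · have := uq o (γG i) (n i).2 (g' := γ j) k.2 (c := δ i) (c' := δ j) (by rw [hγ, hγ])
      rw [hγ, hγ] at this
      exact congrArg some (Subtype.ext (by simpa using this))
  · refine fun g => ⟨fun k => ?_, ?_⟩
    · by_cases b : Bo g
      · exact ⟨none, by simpa using ⟨k.1, b⟩⟩
      obtain ⟨d, e⟩ := ex1 o k.1 b 1
      have := congrArg (·.2.1) (k.2 d)
      simp only [ht _, RingEquiv.refl_apply] at this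
      have e' : g (0, 0, d) = (1, 0, _) :=
        Prod.ext e (Prod.ext (mul_left_cancel₀ h2 (by linear_combination -this)) rfl)
      exact ⟨some ⟨_, g, k.1, d, e'⟩, mul_mem (inv_mem (γG _)) k.1,
        sh o k.1 (γG _) (ne0 e' rfl).1 (e'.trans (hγ ⟨_, g, k.1, d, e'⟩).symm)⟩
    · rintro ⟨_ | i, k⟩
      · have k : g ∈ BB o := by simpa using k
        exact ⟨k.1, fun c => by obtain ⟨d, e⟩ := bo_ex k.2 c; rw [e, ht]; simp⟩
      · refine ⟨by simpa using mul_mem (γG i) k.1, fun c => ?_⟩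
        obtain ⟨d, e⟩ := bo_ex k.2 c
        have e : g (0, 0, c) = γ i (0, 0, d) := by rw [← e, mul_ap]; exact (ap_inv _ _).symm
        rw [e]
        exact (uq o (γG i) (n i).2 (sh o (mul_mem tG (γG i)) (γG i) (n i).1 (c' := δ i) (by
          rw [mul_ap, hγ, ht]; simp)) (by rw [mul_ap, ht]; simp)).symm
  all_goals
    have w : ∀ i : K × A0 G, (uu (xx (σ := σ) i.1) * γ i.2) (0, 0, δ i.2) =
      (1, -i.1, i.2.1 + σ (th σ * (i.1 * σ i.1))) := fun i => by rw [mul_ap, hγ]; simp [uu_ap]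
    have m : ∀ i : K × A0 G, uu (xx (σ := σ) i.1) * γ i.2 ∈ G := fun i => mul_mem (U _) (γG _)
  · rintro (_ | i) (_ | j) k
    · rfl
    · exact ((ne0 (w j) rfl).2 (by simpa using k.2)).elim
    · exact ((ne0 (w i) rfl).2 (by simpa using (inv_mem k).2)).elim
    · have := uq o (m i) (ne0 (w i) rfl).2 (g' := uu (xx (σ := σ) j.1) * γ j.2) k.2 (c := δ i.2) (c' := δ j.2) (by rw [w, w])
      simp only [w, Prod.mk.injEq, neg_inj] at this
      exact congrArg some (Prod.ext this.2.1 (Subtype.ext (by simpa [this.2.1] using this.2.2)))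
  · refine fun g => ⟨fun k => ?_, fun ⟨i, k⟩ => ?_⟩
    · by_cases b : Bo g
      · exact ⟨none, by simpa using ⟨k, b⟩⟩
      obtain ⟨d, e⟩ := ex1 o k b 1
      have e' : g (0, 0, d) = (1, _, _) := Prod.ext e rfl
      exact ⟨some (_, ⟨_, a0 h k e'⟩), mul_mem (inv_mem (m _)) k,
        sh o k (m (-(g (0, 0, d)).2.1, _)) (ne0 e' rfl).1 (e'.trans ((w _).trans (by simp)).symm)⟩
    · cases i with
      | none => simpa using k.1
      | some i => exact (mul_mem_cancel_left (inv_mem (m i))).1 k.1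

theorem l2 : L2 σ p := fun G h o g hg g' hg' n n' => by
  obtain ⟨d, e⟩ := ex1 o hg n 1
  obtain ⟨d', e'⟩ := ex1 o hg' n' 1
  obtain ⟨u, k⟩ := trU (σ := σ) e e' (by
    by_cases h2 : p = 2
    · rw [h.sq h2 g hg _ (by simp [hh]), h.sq h2 g' hg' _ (by simp [hh])]
    have := sk h o (fun z => h2 ((Nat.prime_dvd_prime_iff_eq Fact.out Nat.prime_two).1
      ((CharP.cast_eq_zero_iff K p 2).1 z))) (a0 h hg (Prod.ext e rfl)) (a0 h hg' (Prod.ext e' rfl))
    simp only [hh, e, e', map_sub, map_mul, ss, s_th, map_one, map_neg] at this ⊢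
    linear_combination this)
  exact ⟨u, by simpa [mul_assoc] using sh o (mul_mem (h.syl.1 ⟨u, rfl⟩) hg) hg' (ne0 rfl e).1 k⟩

end H12.PU
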