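import Cfsg.Agent.H12.DirPow

/-! Homomorphisms and subdirect subgroups of a direct power of a non-abelian simple group. -/

set_option maxHeartbeats 400000
open Subgroup
open scoped commutatorElement

namespace H12

variable {ι T : Type*} [Finite ι] [Group T] [IsSimpleGroup T]

theorem eq_one_of_comm (hT : ¬ IsMulCommutative T) {x : T} (h : ∀ s : T, s * x = x * s) :
    x = 1 := by
  by_contra hx
  obtain ⟨s, hs⟩ := exists_comm_ne_one hT hx
  exact hs (commutatorElement_eq_one_iff_mul_comm.2 (h s))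

/-- A surjection `T ^ ι → T` is a coordinate projection followed by an automorphism. -/
theorem hom_pi (hT : ¬ IsMulCommutative T) (f : (ι → T) →* T) (hf : Function.Surjective f) :
    ∃ (i : ι) (α : MulAut T), ∀ x, f x = α (x i) := by
  classical
  obtain ⟨i, s, hs⟩ : ∃ i s, f (Pi.mulSingle i s) ≠ 1 := by
    by_contra h
    push Not at h
    obtain ⟨t, ht⟩ := exists_ne (1 : T)
    obtain ⟨x, rfl⟩ := hf t
    exact ht (mem_of_mulSingle_mem (N := f.ker) fun i => h i _)
  let g := f.comp (MonoidHom.mulSingle (fun _ : ι => T) i)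
  have h1 : g.range.Normal := ⟨by
    rintro _ ⟨t, rfl⟩ y
    obtain ⟨y, rfl⟩ := hf y
    refine ⟨y i * t * (y i)⁻¹, ?_⟩
    simp only [g, MonoidHom.comp_apply, ← map_mul, ← map_inv]
    congr 1
    ext j
    by_cases h : j = i
    · subst h; simp
    · simp [h]⟩
  have h2 : Function.Surjective g := MonoidHom.range_eq_top.1
    (h1.eq_bot_or_eq_top.resolve_left fun h => hs ((h.le ⟨s, rfl⟩ : g s ∈ ⊥)))
  have h3 : Function.Injective g := (MonoidHom.ker_eq_bot_iff g).1
    (g.normal_ker.eq_bot_or_eq_top.resolve_right fun h => hs (h.ge (mem_top s)))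
  refine ⟨i, MulEquiv.ofBijective g ⟨h3, h2⟩, fun x => ?_⟩
  change f x = g (x i)
  rw [← inv_mul_eq_one]
  refine eq_one_of_comm hT fun t => ?_
  obtain ⟨t, rfl⟩ := h2 t
  simp only [g, MonoidHom.comp_apply, ← map_mul, ← map_inv]
  congr 1
  ext j
  by_cases h : j = i
  · subst h; simp
  · simp [h]

theorem aut_pi (hT : ¬ IsMulCommutative T) (φ : MulAut (ι → T)) :
    ∃ (τ : Equiv.Perm ι) (α : ι → MulAut T), ∀ x j, φ x j = α j (x (τ j)) := by
  classical
  choose τ α h using fun j => hom_pi hT ((Pi.evalMonoidHom (fun _ => T) j).comp φ.toMonoidHom)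
    ((Function.surjective_eval j).comp φ.surjective)
  refine ⟨Equiv.ofBijective τ (Finite.surjective_iff_bijective.1 fun i => ?_), α,
    fun x j => h j x⟩
  by_contra hi
  push Not at hi
  obtain ⟨t, ht⟩ := exists_ne (1 : T)
  have : φ (Pi.mulSingle i t) = 1 := funext fun j => (h j _).trans (by simp [hi j])
  exact ht (by simpa using congrFun (φ.map_eq_one_iff.1 this) i)

theorem exists_supp (hT : ¬ IsMulCommutative T) (X : Subgroup (ι → T))
    (hX : ∀ i t, ∃ x ∈ X, x i = t) (i : ι) (t : T) :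
    ∃ x ∈ X, x i = t ∧ ∀ j, (∃ y ∈ X, y j = 1 ∧ y i ≠ 1) → x j = 1 := by
  classical
  let A : Set ι → Subgroup T := fun J =>
    (X ⊓ ⨅ j ∈ J, (Pi.evalMonoidHom (fun _ => T) j).ker).map (Pi.evalMonoidHom (fun _ => T) i)
  have hA : ∀ J t, t ∈ A J ↔ ∃ x ∈ X, x i = t ∧ ∀ j ∈ J, x j = 1 := fun J t => by
    simp [A, mem_iInf, and_assoc, and_comm, and_left_comm]
  have hN : ∀ J, (A J).Normal := fun J => ⟨fun t ht s => by
    obtain ⟨x, hx, rfl, h⟩ := (hA J t).1 ht
    obtain ⟨y, hy, rfl⟩ := hX i s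
    exact (hA _ _).2 ⟨_, mul_mem (mul_mem hy hx) (inv_mem hy), rfl, fun j hj => by simp [h j hj]⟩⟩
  suffices h : ∀ J : Set ι, J.Finite → (∀ j ∈ J, ∃ y ∈ X, y j = 1 ∧ y i ≠ 1) → A J = ⊤ from
    (hA _ t).1 ((h _ (Set.toFinite _) fun _ h => h).ge (mem_top t))
  intro J hJ
  induction J, hJ using Set.Finite.induction_on with
  | empty => exact fun _ => eq_top_iff.2 fun t _ => (hA _ _).2 (by simpa using hX i t)
  | @insert j J _ _ ih =>
    intro h
    obtain ⟨y, hy, h1, h2⟩ := h j (Set.mem_insert _ _)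
    obtain ⟨s, hs⟩ := exists_comm_ne_one hT h2
    obtain ⟨x, hx, rfl, h3⟩ := (hA _ s).1
      ((ih fun k hk => h k (Set.mem_insert_of_mem _ hk)).ge (mem_top s))
    refine (hN _).eq_bot_or_eq_top.resolve_left fun h4 => hs (mem_bot.1 (h4.le ((hA _ _).2
      ⟨⁅x, y⁆, mul_mem (mul_mem (mul_mem hx hy) (inv_mem hx)) (inv_mem hy), rfl, ?_⟩)))
    rintro k (rfl | hk)
    · simp [commutatorElement_def, h1]
    · simp [commutatorElement_def, h3 k hk]

/-- **Scott's lemma**: a subdirect subgroup of `T ^ ι` is a product of full diagonals. -/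
theorem scott (hT : ¬ IsMulCommutative T) (X : Subgroup (ι → T))
    (hX : ∀ i t, ∃ x ∈ X, x i = t) : ∃ (c : ι → ι) (β : ι → MulAut T),
    (∀ i j, c i = c j ↔ ∀ x ∈ X, x i = 1 ↔ x j = 1) ∧
      ∀ y, y ∈ X ↔ ∀ i j, c i = c j → β i (y i) = β j (y j) := by
  classical
  let r : Setoid ι := ⟨fun i j => ∀ x ∈ X, x i = 1 ↔ x j = 1, fun _ _ _ => Iff.rfl,
    fun h x hx => (h x hx).symm, fun h h' x hx => (h x hx).trans (h' x hx)⟩
  let π : ι → X →* T := fun i => (Pi.evalMonoidHom (fun _ => T) i).comp X.subtype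
  have hπ : ∀ i, Function.Surjective (π i) := fun i t =>
    let ⟨x, hx, h⟩ := hX i t; ⟨⟨x, hx⟩, h⟩
  let c : ι → ι := fun i => (Quotient.mk r i).out
  have hc : ∀ i j, c i = c j ↔ r i j := fun i j => Quotient.out_inj.trans Quotient.eq
  have hk : ∀ i, (π i).ker = (π (c i)).ker := fun i =>
    Subgroup.ext fun x => (Quotient.mk_out (s := r) i x x.2).symm
  let β : ι → MulAut T := fun i => (QuotientGroup.quotientKerEquivOfSurjective _ (hπ i)).symm.trans
    ((QuotientGroup.quotientMulEquivOfEq (hk i)).trans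
      (QuotientGroup.quotientKerEquivOfSurjective _ (hπ _)))
  have hβ : ∀ x ∈ X, ∀ i, β i (x i) = x (c i) := fun x hx i => by
    have : (QuotientGroup.quotientKerEquivOfSurjective _ (hπ i)).symm (x i) =
        QuotientGroup.mk ⟨x, hx⟩ := (MulEquiv.symm_apply_eq _).2 rfl
    simp only [β, MulEquiv.trans_apply, this]
    rfl
  refine ⟨c, β, hc, fun y => ⟨fun hy i j h => by rw [hβ y hy, hβ y hy, h], fun hy => ?_⟩⟩
  suffices h : ∀ J : Set ι, J.Finite → ∃ x ∈ X, ∀ j ∈ J, x j = y j by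
    obtain ⟨x, hx, h⟩ := h Set.univ (Set.toFinite _)
    exact (funext fun j => h j trivial : x = y) ▸ hx
  intro J hJ
  induction J, hJ using Set.Finite.induction_on with
  | empty => exact ⟨1, one_mem _, by simp⟩
  | @insert i J _ _ ih =>
    obtain ⟨x, hx, h⟩ := ih
    by_cases h1 : ∃ j ∈ J, c i = c j
    · obtain ⟨j, hj, h1⟩ := h1
      refine ⟨x, hx, ?_⟩
      rintro k (rfl | hk)
      · exact (β k).injective (by rw [hy _ _ h1, ← h j hj, hβ x hx, hβ x hx, h1])
      · exact h k hk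
    obtain ⟨z, hz, h2, h3⟩ := exists_supp hT X hX i ((x i)⁻¹ * y i)
    refine ⟨x * z, mul_mem hx hz, ?_⟩
    rintro k (rfl | hk')
    · simp [h2]
    rw [Pi.mul_apply, h3, mul_one, h k hk']
    by_contra h4
    push Not at h4
    refine h1 ⟨k, hk', (hc _ _).2 fun w hw => ⟨fun h5 => ?_, h4 w hw⟩⟩
    have h6 : (π k).ker ≤ (π i).ker := fun v hv => h4 v v.2 hv
    rcases ((π i).normal_ker.map _ (hπ k)).eq_bot_or_eq_top with h7 | h7
    · exact h7.le (mem_map_of_mem (π k) (x := ⟨w, hw⟩) h5)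
    · replace h7 := congrArg (comap (π k)) h7
      rw [comap_map_eq, sup_eq_left.2 h6, comap_top] at h7
      obtain ⟨t, ht⟩ := exists_ne (1 : T)
      obtain ⟨v, rfl⟩ := hπ i t
      exact absurd (h7.ge (mem_top v)) ht

end H12
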