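import Cfsg.Agent.H12.TM5

/-! The certificate checker: soundness of the enumeration of maps (adapted from `H6/DR2`). -/

set_option autoImplicit false
set_option linter.unusedSectionVars false

namespace H12.TM
open Cfsg Subgroup H16 H1.Am H24.SS H19

universe u
variable {G : Type u} [Group G] [Finite G] {F H X : Subgroup G} {p : Par} {el : ℕ → G} {N n x y a b c d e i j l q : ℕ}
  {M mul : Mu} {g g' w : G} {us vs xs ys es r : List ℕ} {s : St} {W ct L : Wl} {os : List (ℕ × ℕ)} {A : List Wl} {k1 : Kt}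

theorem flK_s (h : Md el N M) (a : Im el N g xs vs) (hy : y < N) {k : (ℕ → Bool) → Bool} (c : flK M y xs vs L k = true) :
    ∃ f, k f = true ∧ ∀ q < N, g * el y * g⁻¹ = el q → f q = true := by
  induction L generalizing k with
  | nil => exact ⟨_, c, fun _ _ _ => rfl⟩
  | cons r L ih =>
    have c' : (force (pr M xs (n1 r 2)) fun c => force (pr M vs (n1 r 2)) fun b => (Nat.rec
      (force (pr M vs (n1 r 1)) fun a => cn M y (pr M xs (n1 r 1)) c y &&' flK M y xs vs L fun f => k fun q => cn M q a b q &&' f q)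
      (fun _ _ => Nat.beq (M y y) c &&' flK M y xs vs L fun f => k fun q => Nat.beq (M q q) b &&' f q) (h0 r) : Bool)) = true := c
    rw [force_eq, force_eq] at c'
    obtain ⟨b1, b2, b3⟩ := Im.pr h a (n1 r 2)
    obtain ⟨d1, d2, d3⟩ := Im.pr h a (n1 r 1)
    cases e : h0 r <;> rw [e] at c'
    · replace c' := an_iff.1 ((force_eq _ _).symm.trans c')
      obtain ⟨f, f1, f2⟩ := ih c'.2
      refine ⟨_, f1, fun q hq j => an_iff.2 ⟨(cn_iff h hq d2 b2 hq).2 ?_, f2 q hq j⟩⟩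
      rw [← j, ← d3, ← b3, conj_mul, conj_mul, (cn_iff h hy d1 b1 hy).1 c'.1]
    · replace c' := an_iff.1 c'
      obtain ⟨f, f1, f2⟩ := ih c'.2
      refine ⟨_, f1, fun q hq j => an_iff.2 ⟨Nat.beq_eq.mpr ((mb_iff h hq hq b2).2 ?_), f2 q hq j⟩⟩
      rw [← j, ← b3, conj_mul, (mb_iff h hy hy b1).1 (Nat.beq_eq.mp c'.1)]
theorem osK_s {cu : Cur} {k : List (ℕ × ℕ) → Bool} (c : osK p N M cu L k = true) : ∃ os, k os = true ∧ ∀ o ∈ os, o.1 < cu.bd ∧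
    o.2 < N ∧ M o.1 o.2 = 0 ∧ (∀ v ∈ cu.vs, cmm M o.1 v = true) ∧ (cu.fl = true → fb p o.1 = false) ∧
      (cu.sq = true → ∃ e, pr M cu.ys e = o.1) := by
  induction L generalizing k with
  | nil => exact ⟨_, c, nofun⟩
  | cons r L ih =>
    have c' : (force (h0 r) fun o => force (n1 r 1) fun o' => Nat.blt o cu.bd &&' Nat.blt o' N &&'
      Nat.beq (M o o') 0 &&' allB (cmm M o) cu.vs &&' (!cu.fl ||' !fb p o) &&' (!cu.sq ||' Nat.beq (pr M cu.ys (n1 r 2)) o) &&'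
      osK p N M cu L fun os => k ((o, o') :: os)) = true := c
    simp only [force_eq, an_iff, oo_iff, Nat.blt_eq, Nat.beq_eq, allB_iff, nt_iff, ← imp_iff_not_or] at c'
    obtain ⟨c1, c2, c3, c4, c5, c6, c7⟩ := c'
    obtain ⟨os, a, b⟩ := ih c7
    exact ⟨_, a, List.forall_mem_cons.2 ⟨⟨c1, c2, c3, c4, fun e => Bool.eq_false_iff.2 (c5 e), fun e => ⟨_, c6 e⟩⟩, b⟩⟩
theorem orb_s (h : Md el N M) (o : ∀ o ∈ os, o.1 < N ∧ o.2 < N ∧ M o.1 o.2 = 0 ∧ el o.1 ∈ X) (hx : x < N)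
    (c : bt (orb M os x) y = true) : Cj X (el x) (el y) := by
  induction os generalizing x with
  | nil => exact bt_one.1 c ▸ Cj.rfl
  | cons a os ih =>
    replace ih := fun x => @ih x fun b hb => o b (List.mem_cons_of_mem _ hb)
    obtain ⟨a1, a2, a3, a4⟩ := o a List.mem_cons_self
    change bt (force (orb M os x) fun B => force (cjf M a.1 a.2 x) fun y =>
      Bool.rec (Nat.lor B (orb M os y)) B (bt B y)) y = true at c
    simp only [force_eq] at c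
    obtain ⟨b1, b2⟩ := h.cj a1 a2 (eq_inv_of_mul_eq_one_right ((m0_iff h a1 a2).1 a3)) x hx
    exact (bt_or c).elim (ih x hx) fun c => Cj.trans ⟨_, a4, b2⟩ (ih _ b1 c)
theorem orbs_s (h : Md el N M) (o : ∀ o ∈ os, o.1 < N ∧ o.2 < N ∧ M o.1 o.2 = 0 ∧ el o.1 ∈ X) (l : ∀ x ∈ us, x < N)
    (c : bt (orbs M os us) y = true) : ∃ x ∈ us, Cj X (el x) (el y) := by
  induction us with
  | nil => exact (bt_zero c).elim
  | cons x us ih =>
    change bt (force (orbs M os us) fun B => Bool.rec (Nat.lor B (orb M os x)) B (bt B x)) y = true at c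
    rcases bt_or (force_eq _ _ ▸ c) with c | c
    · obtain ⟨x, a, b⟩ := ih (fun z hz => l z (List.mem_cons_of_mem _ hz)) c
      exact ⟨x, List.mem_cons_of_mem _ a, b⟩
    · exact ⟨x, List.mem_cons_self, orb_s h o (l x List.mem_cons_self) c⟩
theorem Im.cen (a : Im el N g xs vs) (h : ∀ v ∈ vs, w * el v = el v * w) : Im el N (w * g) xs vs :=
  Im.cmp a (List.forall₂_same.2 fun v k => ⟨Im.lt2 a v k, Im.lt2 a v k, mul_inv_eq_iff_eq_mul.2 (h v k)⟩)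
theorem Ok.lab (o : Ok F p el mul s) (h : IsConj (el y) (el q)) :
    ¬ bt (sel (bt s.yb y) s.nb (sel (bt s.nb y) s.yb 0)) q = true := by
  cases e : bt s.yb y
  · cases e' : bt s.nb y
    exacts [bt_zero, fun k => (o.nb y e').2 ((o.yb q k).2.trans h.symm)]
  · exact fun k => (o.nb q k).2 ((o.yb y e).2.trans h)
/-- the witness of the current enumeration -/
def Cw (F : Subgroup G) (el : ℕ → G) (N : ℕ) (c : Cur) (g : G) : Prop := (c.fl = true → g ∈ F) ∧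
  Im el N g c.xs c.vs ∧ (∀ y ∈ c.ys, y < N ∧ ∃ q < c.bd, g * el y * g⁻¹ = el q) ∧ (c.sq = true → ∃ m < N, g * g = el m)
theorem Ok.cy (o : Ok F p el mul s) (h : Cw F el s.N s.cu g) (e : ℕ) :
    pr (ff mul) s.cu.ys e < s.N ∧ ∃ q < s.cu.bd, g * el (pr (ff mul) s.cu.ys e) * g⁻¹ = el q :=
  (pr_mem (H := H19.cj g⁻¹ (o.tm.Kn o.cu.1)) o.tm.md (fun y k => ⟨(h.2.2.1 y k).1, mem_cj_inv.2
    ((h.2.2.1 y k).2.imp fun _ a => ⟨a.1, a.2.symm⟩)⟩) e).imp_right fun k =>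
      (o.tm.mem_Kn.1 (mem_cj_inv.1 k)).imp fun _ a => ⟨a.1, a.2.symm⟩
theorem stp_s (o : Ok F p el mul s) (h1 : Kk F p k1) (h : Cw F el s.N s.cu g) (hy : y < s.N) (hq : q < s.N)
    (e : g * el y * g⁻¹ = el q) {it : (ℕ → Bool) → Bool} (hi : ∀ f, it f = true → f q = true)
    (c : stp p mul s A k1 y it = true) : Con F p := by
  have T := o.tm
  have cy := o.cy h
  have bd := o.cu.1
  have c' : (flK (ff mul) y s.cu.xs s.cu.vs (ar A 2) fun pass => osK p s.N (ff mul) s.cu (ar A 3) fun os =>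
    ltA s.N (rw2 A 4 0) &&' force (orbs (ff mul) os (rw2 A 4 0)) fun B => fB (fb p y) fun fy =>
      force (sel (bt s.yb y) s.nb (sel (bt s.nb y) s.yb 0)) fun Q => force (Nat.lor B Q) fun Q =>
      it (fun q => bt Q q ||' !bq fy (fb p q) ||' !pass q) &&' apK s.cu.xs [y] fun xs' =>
        allI (fun i r => apK s.cu.vs [r] fun vs' => k1 i mul (s.sCu ⟨xs', vs', s.cu.ys, s.cu.sq, s.cu.fl, s.cu.bd⟩))
          (rw2 A 4 0) 0) = true := c
  obtain ⟨g1, g2, g3, g4⟩ := h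
  obtain ⟨f, c, f1⟩ := flK_s T.md g2 hy c'
  obtain ⟨os, c, o1⟩ := osK_s c
  simp only [force_eq, fB_eq, an_iff, apK_eq, ltA_iff] at c
  obtain ⟨c1, c2, c3⟩ := c
  have j := hi _ c2
  rw [oo_iff, oo_iff, nt_iff, nt_iff, bq_iff, bt_lor] at j
  have cj := isConj_iff.2 ⟨g, e⟩
  let U : Subgroup G := T.Kn bd ⊓ centralizer {x | ∃ v ∈ s.cu.vs, el v = x} ⊓ cond s.cu.fl F ⊤ ⊓
    cond s.cu.sq (H19.cj g⁻¹ T.md.K) ⊤
  obtain ⟨r, hr, k⟩ := orbs_s (X := U) T.md (fun o a => by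
    obtain ⟨b1, b2, b3, b4, b5, b6⟩ := o1 o a
    have l := b1.trans_le (T.dle bd)
    refine ⟨l, b2, b3, ⟨⟨(T.el_Kn l).2 b1, ?_⟩, ?_⟩, ?_⟩
    · rintro _ ⟨v, hv, rfl⟩
      exact ((cm_iff T.md l (Im.lt2 g2 v hv)).1 (b4 v hv)).symm
    · revert b5; cases s.cu.fl
      exacts [fun _ => trivial, fun b => (T.fi _ l).2 (b rfl)]
    · revert b6; cases s.cu.sq
      exacts [fun _ => trivial, fun b => let ⟨e, b⟩ := b rfl; let ⟨_, q, d1, d2⟩ := cy e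
        mem_cj_inv.2 ⟨q, d1.trans_le (T.dle bd), by rw [← d2, b]⟩]) c1
    ((((j.resolve_right fun j => j.elim (· (T.fb_cj hy hq cj)) (· (f1 q hq e)))).resolve_right (o.lab cj)))
  obtain ⟨k, ⟨⟨⟨u1, u2⟩, u3⟩, u4⟩, ek⟩ := k.symm
  obtain ⟨i, c4⟩ := allI_m c3 hr
  replace u1 : k ∈ T.Kn bd := u1
  refine h1 _ _ _ _ c4 (o.sCu ⟨bd, k * g, fun a => mul_mem (by rw [show s.cu.fl = true from a] at u3; exact u3) (g1 a),
    List.rel_append (Im.cen g2 fun v hv => (u2 _ ⟨v, hv, rfl⟩).symm) (.cons ⟨hy, c1 r hr, by rw [← ek, ← e]; group⟩ .nil),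
    fun y a => ⟨(g3 y a).1, ?_⟩, fun a => ?_⟩)
  · obtain ⟨q, b1, b2⟩ := (g3 y a).2
    obtain ⟨q', d1, d2⟩ := mul_mem (mul_mem u1 (T.mem_Kn.2 ⟨q, b1, rfl⟩)) (inv_mem u1)
    exact ⟨q', d1, by rw [d2, ← b2]; group⟩
  · obtain ⟨m, b1, b2⟩ := g4 a
    rw [show s.cu.sq = true from a] at u4
    obtain ⟨q', d1, d2⟩ := mul_mem (mul_mem (T.Kn_le u1) (mem_cj_inv.1 u4)) (T.md.mem b1)
    exact ⟨q', d1, by rw [d2, ← b2]; group⟩

theorem sFUL : Snd.{u} rFUL := fun G _ _ F p gl mul s A k1 k2 el _ h1 _ o c => by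
  rw [rFUL, force_eq] at c
  obtain ⟨bd, g, h⟩ := o.cu
  obtain ⟨hy, q, a, b⟩ := o.cy h (nm A 0)
  have hq := a.trans_le (o.tm.dle bd)
  refine stp_s o h1 h hy hq b (fun f c => ?_) c
  rcases sel_iff.1 c with c | c
  · exact aQ_s c.2 q a
  simp only [an_iff, oo_iff, nt_iff, ← imp_iff_not_or, allB_iff, al2_iff, Nat.beq_eq] at c
  obtain ⟨-, c1, c2, c3⟩ := c
  refine c3 q (o.ca (fun z k => ?_) q hq (fun k => ?_) fun z k => ?_)
  · obtain ⟨e, -, d, -⟩ := fa_ex c1 k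
    exact d ▸ (Im.pr o.tm.md h.2.1 e).2.1
  · rw [← b, conj_mul, (m0_iff o.tm.md hy hy).1 (c2 k)]; simp
  · obtain ⟨e, -, rfl, d⟩ := fa_ex c1 k
    obtain ⟨d1, -, d2⟩ := Im.pr o.tm.md h.2.1 e
    rw [← d2, ← b, conj_mul, conj_mul, (cm_iff o.tm.md hy d1).1 d]
theorem Tm.cos (T : Tm F p el N M) (a : Im el N g (atl p i) xs) (hq : q < N) (hx : x < N)
    (h : ∀ y ∈ xs, el q * el y * (el q)⁻¹ = el x * el y * (el x)⁻¹) {f : ℕ → Bool}
    (c : (aR (ak p i) fun e => force (M q (pr M xs e)) f) = true) : f x = true := by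
  obtain ⟨z, hz, e⟩ := mul_mem (inv_mem (T.md.mem hq)) (T.md.mem hx)
  obtain ⟨n, k⟩ := T.el_pow hz
  obtain ⟨e', b, d⟩ := T.caw a k fun y j => by
    rw [e]
    calc _ = (el q)⁻¹ * (el x * el y * (el x)⁻¹) * el x := by group
      _ = _ := by rw [← h y j]; group
  have := aR_iff.1 c e' b
  rwa [force_eq, (mb_iff T.md hq (pr_lt T.md (Im.lt2 a) e') hx).2 (by rw [← d, e]; group)] at this
theorem sCOS : Snd.{u} rCOS := fun G _ _ F p gl mul s A k1 k2 el _ h1 _ o c => by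
  simp only [rCOS, force_eq (pr _ _ _), force_eq (nm _ _), an_iff, Nat.blt_eq] at c
  generalize nm A 1 = i at c
  have T := o.tm
  obtain ⟨bd, g, h⟩ := o.cu
  obtain ⟨hy, q, a, b⟩ := o.cy h (nm A 0)
  have hq := a.trans_le (T.dle bd)
  obtain ⟨w, as, d, -, c'⟩ := o.wk T.atN c.2
  simp only [fm_eq, an_iff, al2_iff, Nat.beq_eq] at c'
  obtain ⟨c1, c2, c3⟩ := c'
  have k : Im el s.N g as ((rw2 A 0 1).map (pr (ff mul) s.cu.vs)) :=
    List.forall₂_map_right_iff.2 (c1.imp fun _ e k => k ▸ Im.pr T.md h.2.1 e)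
  refine stp_s o h1 h hy hq b (fun f j => T.cos (Im.cmp d k) c.1 hq (fun v hv => ?_) j) c3
  obtain ⟨x, -, ⟨x1, x2, x3⟩, e, j⟩ := fa_ex' (a3_s c2 k) hv
  obtain ⟨d1, d2, d3⟩ := Im.pr T.md h.2.1 e
  rw [mul_inv_eq_iff_eq_mul.2 ((cn_iff T.md c.1 x2 d2 c.1).1 (an_iff.1 j).2), ← d3, ← x3, ← b,
    ← mul_inv_eq_iff_eq_mul.2 ((cn_iff T.md hy x1 d1 hy).1 (an_iff.1 j).1)]
  group
theorem fsK_s (h : Md el N M) (a : Im el N g xs vs) {k : (ℕ → Bool) → Bool} (c : fsK M xs vs L k = true) :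
    ∃ f, k f = true ∧ ∀ q < N, g * g = el q → f q = true := by
  induction L generalizing k with
  | nil => exact ⟨_, c, fun _ _ _ => rfl⟩
  | cons r L ih =>
    have c' : (force (pr M xs (h0 r)) fun x => force (pr M vs (n1 r 1)) fun b =>
      Nat.beq (pr M xs (n1 r 1)) (pr M vs (h0 r)) &&' fsK M xs vs L fun f => k fun q => cn M q x b q &&' f q) = true := c
    rw [force_eq, force_eq, an_iff, Nat.beq_eq] at c'
    obtain ⟨b1, b2, b3⟩ := Im.pr h a (h0 r)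
    obtain ⟨d1, d2, d3⟩ := Im.pr h a (n1 r 1)
    obtain ⟨f, f1, f2⟩ := ih c'.2
    refine ⟨_, f1, fun q hq j => an_iff.2 ⟨(cn_iff h hq b1 d2 hq).2 ?_, f2 q hq j⟩⟩
    rw [← j, ← d3, c'.1, ← b3]; group
theorem sSQR : Snd.{u} rSQR := fun G _ _ F p gl mul s A k1 k2 el _ h1 _ o c => by
  have T := o.tm
  obtain ⟨-, g, g1, g2, -, g4⟩ := o.cu
  unfold rSQR at c
  generalize s.cu = cu at c g1 g2 g4
  obtain ⟨xs, vs, ys, sq, fl, bd⟩ := cu
  obtain ⟨c0, c⟩ := an_iff.1 c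
  obtain ⟨m, hm, em⟩ := g4 c0
  obtain ⟨f, c, f1⟩ := fsK_s T.md g2 c
  simp only [fm_eq, an_iff, allB_iff, force_eq (pr _ _ _), force_eq (nm _ _), oo_iff, nt_iff, ← imp_iff_not_or] at c
  obtain ⟨c1, c2, c3⟩ := c
  have j : ((fl &&' fb p m) ||' mem (rw2 A 4 0) m ||' !f m ||' anyB (fun r => force (ff mul r m) (mem (rw2 A 4 0)))
      ((rw2 A 3 0).map fun e => ff mul (pr (ff mul) xs e) (pr (ff mul) vs e))) = true := by
    rcases sel_iff.1 c2 with c | ⟨-, c⟩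
    · exact aQ_s c.2 m hm
    generalize nm A 1 = i at c
    rw [an_iff, Nat.blt_eq] at c
    obtain ⟨w, as, d, -, c'⟩ := o.wk T.atN c.2
    refine T.cos d c.1 hm (fun v hv => ?_) (an_iff.1 c').2
    obtain ⟨e, e', j⟩ := a3_m (an_iff.1 c').1 hv
    simp only [an_iff, Nat.beq_eq] at j
    obtain ⟨rfl, j1, j2⟩ := j
    obtain ⟨b1, b2, b3⟩ := Im.pr T.md g2 e
    obtain ⟨d1, d2, d3⟩ := Im.pr T.md g2 e'
    rw [mul_inv_eq_iff_eq_mul.2 ((cn_iff T.md c.1 b1 d2 c.1).1 j2), ← d3, j1, ← b3, ← em]; group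
  have fin : ∀ g' m', m' ∈ rw2 A 4 0 → (fl = true → g' ∈ F) → Im el s.N g' xs vs → (m' < s.N → g' * g' = el m') → Con F p :=
    fun g' m' a b d e => by
      obtain ⟨i, k⟩ := allI_m c3 a
      rw [an_iff, Nat.blt_eq] at k
      exact h1 _ _ _ _ k.2 (o.sMp ⟨g', b, d, fun _ => ⟨k.1, e k.1⟩⟩)
  simp only [oo_iff, an_iff, mem_iff, nt_iff, anyB_iff, force_eq, List.mem_map] at j
  rcases j with j | j | j | ⟨_, ⟨e, he, rfl⟩, j⟩
  · rw [(T.fi m hm).1 (em ▸ T.sqF g)] at j; cases j.2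
  · exact fin g m j g1 g2 fun _ => em
  · exact (j (f1 m hm em)).elim
  obtain ⟨b1, b2, b3⟩ := Im.pr T.md g2 e
  refine fin (el (pr (ff mul) xs e) * g) _ j (fun a => mul_mem ((T.fi _ b1).2 (Bool.eq_false_iff.2 ((c1 e he).1 a))) (g1 a))
    (Im.cen g2 fun v hv => (cm_iff T.md b1 (Im.lt2 g2 v hv)).1 ((c1 e he).2 v hv)) fun _ => ?_
  rw [T.md.ev (T.md.lt b1 b2) hm, T.md.ev b1 b2, ← b3, ← em]; group
theorem flt_s {f : ℕ → Bool} {k : List ℕ → Bool} (c : flt f k n xs = true) :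
    ∃ l, k l = true ∧ (∀ q ∈ xs, q ∈ l) ∧ ∀ q < n, f q = true → q ∈ l := by
  induction n generalizing xs with
  | zero => exact ⟨xs, c, fun _ h => h, nofun⟩
  | succ n ih =>
    have c' : sel (f n) (flt f k n (n :: xs)) (flt f k n xs) = true := c
    rcases sel_iff.1 c' with ⟨e, c⟩ | ⟨e, c⟩ <;> obtain ⟨l, a, b, d⟩ := ih c
    · exact ⟨l, a, fun q h => b q (List.mem_cons_of_mem _ h), fun q h j =>
        (Nat.lt_succ_iff_lt_or_eq.1 h).elim (d q · j) fun h => b q (h ▸ List.mem_cons_self)⟩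
    · exact ⟨l, a, b, fun q h j => (Nat.lt_succ_iff_lt_or_eq.1 h).elim (d q · j) fun h => by rw [h, e] at j; cases j⟩
theorem sCCH : Snd.{u} rCCH := fun G _ _ F p gl mul s A k1 k2 el _ h1 _ o c => by
  rw [rCCH, fB_eq] at c
  obtain ⟨l, a, -, b⟩ := flt_s c
  refine h1 _ _ _ _ a (o.sCa fun h q hq d e => b q hq ?_)
  simp only [an_iff, oo_iff, nt_iff, ← imp_iff_not_or, allB_iff]
  exact ⟨fun k => (o.tm.md.one hq hq).2 (d k), fun z k => (cm_iff o.tm.md hq (h z k)).2 (e z k)⟩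

end H12.TM
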