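import Cfsg.Agent.H12.TM4

/-! Soundness of the rules on class tables and conjugates of `t` (adapted from `H1/HQ3`, `H1/HQ4`). -/

set_option autoImplicit false
set_option linter.unusedSectionVars false

namespace H12.TM
open Cfsg Subgroup H16 H1.Am H24.SS H19

universe u
variable {G : Type u} [Group G] [Finite G] {F H X Y : Subgroup G} {p : Par} {el : ℕ → G} {N n x y a b c i j l q d : ℕ}
  {M mul : Mu} {g w : G} {us vs xs ys r : List ℕ} {s : St} {W L : Wl} {A : List Wl} {os : List (ℕ × ℕ)}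

theorem Cj.mono {K : Subgroup G} {x y : G} (h : Cj H x y) (k : H ≤ K) : Cj K x y := let ⟨g, a, b⟩ := h; ⟨g, k a, b⟩
theorem Cj.pw1 {x y : G} (h : Cj H x y) (k : x ^ n = 1) : y ^ n = 1 := by
  obtain ⟨g, -, rfl⟩ := h; rw [conj_pow, k]; simp
theorem Cj.og {x y : G} (h : Cj H x y) : oG x = oG y := by obtain ⟨g, -, rfl⟩ := h; rw [oG_cj]
/-- a chain of subgroups of index two, with the given generators -/
def Ch (el : ℕ → G) (N : ℕ) : List (ℕ × ℕ) → Subgroup G → Prop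
  | [], X => X = ⊥
  | o :: os, X => ∃ Y, Ch el N os Y ∧ Y ≤ X ∧ o.1 < N ∧ o.2 < N ∧ el o.2 = (el o.1)⁻¹ ∧ el o.1 ∈ X ∧ el o.1 ∉ Y ∧
      ∀ a ∈ X, ∀ b ∈ X, a ∉ Y → b ∉ Y → a * b ∈ Y

theorem cj_step {o x z : G} (h : Y ≤ X) (a : o ∈ X) (b : o ∉ Y) (c : ∀ a ∈ X, ∀ b ∈ X, a ∉ Y → b ∉ Y → a * b ∈ Y) :
    Cj X x z ↔ Cj Y x z ∨ Cj Y (o * x * o⁻¹) z := by
  refine ⟨fun ⟨g, g1, g2⟩ => ?_, fun k => k.elim (Cj.mono · h) fun k => Cj.trans ⟨o, a, rfl⟩ (Cj.mono k h)⟩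
  by_cases k : g ∈ Y
  exacts [.inl ⟨g, k, g2⟩, .inr ⟨g * o⁻¹, c _ g1 _ (inv_mem a) k (mt inv_mem_iff.1 b), by rw [← g2]; group⟩]

theorem orb_cons (M : Mu) (o : ℕ × ℕ) (os : List (ℕ × ℕ)) (x : ℕ) : orb M (o :: os) x =
    sel (bt (orb M os x) (cjf M o.1 o.2 x)) (orb M os x) (Nat.lor (orb M os x) (orb M os (cjf M o.1 o.2 x))) :=
  (force_eq (orb M os x) fun B => force (cjf M o.1 o.2 x) fun y => sel (bt B y) B (Nat.lor B (orb M os y))).trans
    (force_eq (cjf M o.1 o.2 x) fun y => sel (bt (orb M os x) y) (orb M os x) (Nat.lor (orb M os x) (orb M os y)))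

theorem orb_iff (h : Md el N M) (C : Ch el N os X) (hx : x < N) (z : ℕ) :
    bt (orb M os x) z = true ↔ z < N ∧ Cj X (el x) (el z) := by
  induction os generalizing x X z with
  | nil =>
    obtain rfl : X = ⊥ := C
    refine bt_one.trans ⟨fun e => e ▸ ⟨hx, Cj.rfl⟩, fun ⟨a, g, b, e⟩ => h.inj hx a ?_⟩
    rw [← e, mem_bot.1 b]; simp
  | cons o os ih =>
    obtain ⟨Y, c1, c2, c3, c4, c5, c6, c7, c8⟩ := C
    have e := orb_cons M o os x
    obtain ⟨y1, y2⟩ := h.cj c3 c4 c5 x hx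
    rw [e, cj_step c2 c6 c7 c8, y2]
    cases k : bt (orb M os x) (cjf M o.1 o.2 x)
    · exact bt_lor.trans (by rw [ih c1 hx, ih c1 y1, and_or_left])
    · rw [ih c1 hx] at k
      exact (ih c1 hx z).trans (and_congr_right fun _ => ⟨.inl, fun j => j.elim id k.2.trans⟩)

theorem orc_s (h : Md el N M) (C : Ch el N os X) (hx : x < N) (k : ℕ → ℕ → Bool) :
    orc M os x k = k (orb M os x) (Nat.card ↥(X ⊓ C[el x])) := by
  induction os generalizing X k with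
  | nil =>
    obtain rfl : X = ⊥ := C
    rw [bot_inf_eq, card_bot]
    exact force_eq (Nat.shiftLeft 1 x) fun B => k B 1
  | cons o os ih =>
    obtain ⟨Y, c1, c2, c3, c4, c5, c6, c7, c8⟩ := C
    have e := orb_cons M o os x
    have e' : orc M (o :: os) x k = orc M os x fun B c => force (cjf M o.1 o.2 x) fun y =>
      sel (bt B y) (force (Nat.mul 2 c) (k B)) (force (Nat.lor B (orb M os y)) fun B => k B c) := rfl
    obtain ⟨y1, y2⟩ := h.cj c3 c4 c5 x hx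
    rw [e', ih c1, e]
    simp only [force_eq]
    cases j : bt (orb M os x) (cjf M o.1 o.2 x)
    · rw [sel_f]
      congr 3
      refine le_antisymm (inf_le_inf_right _ c2) fun g k => ⟨by_contra fun gY => ?_, k.2⟩
      rw [Bool.eq_false_iff, ne_eq, orb_iff h c1 hx, ← y2] at j
      exact j ⟨y1, el o.1 * g, c8 _ c6 _ k.1 c7 gY, by rw [mul_assoc _ g, mem_cent1.1 k.2]; group⟩
    · rw [sel_t]
      obtain ⟨-, w, w1, w2⟩ := (orb_iff h c1 hx _).1 j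
      congr 1
      have m : w⁻¹ * el o.1 ∈ X ⊓ C[el x] := mem_inf.2 ⟨mul_mem (inv_mem (c2 w1)) c6, mem_cent1.2 (by
        calc _ = w⁻¹ * (el o.1 * el x * (el o.1)⁻¹) * el o.1 := by group
          _ = _ := by rw [y2, ← w2]; group)⟩
      have n : w⁻¹ * el o.1 ∉ Y := fun z => c7 ((mul_mem_cancel_left (inv_mem w1)).1 z)
      rw [← card_mul_relIndex (inf_le_inf_right C[el x] c2), relIndex_eq_two_iff.2 ⟨_, m, fun b k => ?_⟩]
      · exact mul_comm 2 _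
      · by_cases z : b ∈ Y
        · exact .inr ⟨⟨z, k.2⟩, fun v => n ((mul_mem_cancel_left z).1 v.1)⟩
        · exact .inl ⟨⟨c8 _ k.1 _ m.1 z n, mul_mem k.2 m.2⟩, fun v => z v.1⟩

theorem osL_s (T : Tm F p el N M) (hn : n ∣ N) {k : List (ℕ × ℕ) → Bool} (e : osL p l N M L n k = true) :
    ∃ os, Ch el N os (T.Kn hn ⊓ HL F l) ∧ k os = true := by
  induction L generalizing n k with
  | nil =>
    obtain ⟨a, b⟩ := an_iff.1 e
    obtain rfl := Nat.beq_eq.mp a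
    refine ⟨[], eq_bot_iff.2 fun g ⟨⟨x, a, b⟩, _⟩ => ?_, b⟩
    rw [← b, Nat.lt_one_iff.1 a]; exact T.md.e0
  | cons r L ih =>
    have c : (force (h0 r) fun o => force (n1 r 1) fun o' => inL p l o &&' (Nat.beq (Nat.mul 2 o) n ||'
      (Nat.beq n 4 &&' Nat.beq o 1 &&' !inL p l 2)) &&' Nat.blt o' N &&' Nat.beq (M o o') 0 &&'
        osL p l N M L o fun os => k ((o, o') :: os)) = true := e
    simp only [force_eq, an_iff, oo_iff, nt_iff, Nat.beq_eq, Nat.blt_eq, Nat.mul_eq] at c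
    obtain ⟨c1, c2, c3, c4, c5⟩ := c
    generalize h0 r = o at *
    obtain ⟨h2, e2⟩ : ∃ h2 : 2 * o ∣ N, T.Kn hn ⊓ HL F l = T.Kn h2 ⊓ HL F l := by
      rcases c2 with rfl | ⟨rfl, rfl, c2⟩
      · exact ⟨hn, rfl⟩
      · refine ⟨(show 2 * 1 ∣ 4 by decide).trans hn, le_antisymm ?_ (inf_le_inf_right _ (T.Kn_mono (by decide)))⟩
        rintro _ ⟨⟨x, a, rfl⟩, b⟩
        exact ⟨⟨x, inl_lt (i := 1) c2 a ((T.inL (a.trans_le (T.dle hn))).2 b), rfl⟩, b⟩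
    have h1 : o ∣ N := (Dvd.intro_left 2 rfl).trans h2
    have o0 : 0 < o := Nat.pos_of_dvd_of_pos h1 T.md.pos
    have ho : o < N := (show o < 2 * o by omega).trans_le (T.dle h2)
    obtain ⟨os, a, b⟩ := ih h1 c5
    have le : T.Kn h1 ≤ T.Kn h2 := T.Kn_mono (by omega)
    have ix : (T.Kn h1).relIndex (T.Kn h2) = 2 := by
      have := card_mul_relIndex le
      rw [T.card_Kn, T.card_Kn] at this
      exact Nat.eq_of_mul_eq_mul_left o0 (this.trans (mul_comm 2 o))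
    refine ⟨_, e2 ▸ ⟨_, a, inf_le_inf_right _ le, ho, c3, eq_inv_of_mul_eq_one_right ((m0_iff T.md ho c3).1 c4),
      ⟨(T.el_Kn ho).2 (by omega), (T.inL ho).1 c1⟩, fun z => ((T.el_Kn ho).1 z.1).false, fun u a v b c d =>
        ⟨?_, mul_mem a.2 b.2⟩⟩, b⟩
    exact (mul_mem_iff_of_index_two ix (a := ⟨u, a.1⟩) (b := ⟨v, b.1⟩)).2
      (iff_of_false (fun z => c ⟨z, a.2⟩) fun z => d ⟨z, b.2⟩)

theorem clK_s (T : Tm F p el N M) (C : Ch el N os (T.md.K ⊓ HL F l)) {U : ℕ} {k : ℕ → Wl → Bool}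
    (e : clK p l N M os xs U k = true) : ∃ V L, k V L = true ∧ (∀ r ∈ L, Rw (HL F l) el N r ∧ bt U (h0 r) = false) ∧
      (L.Pairwise fun r r' => bt (n1 r 2) (h0 r') = false) ∧
      ∀ x, bt V x = true → bt U x = true ∨ ∃ r ∈ L, bt (n1 r 2) x = true := by
  induction xs generalizing U k with
  | nil => exact ⟨U, [], e, nofun, .nil, fun _ => .inl⟩
  | cons y xs ih =>
    have c : (Nat.blt y N &&' inL p l y &&' !bt U y &&' orc M os y fun B c => force (olg M y) fun o =>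
      force (Nat.lor U B) fun U => clK p l N M os xs U fun V L => k V ([y, c, B, o] :: L)) = true := e
    simp only [an_iff, Nat.blt_eq, Bool.not_eq_true'] at c
    obtain ⟨c1, c2, c3, c4⟩ := c
    rw [orc_s T.md C c1, force_eq, force_eq] at c4
    obtain ⟨V, L, a1, a2, a3, a4⟩ := ih c4
    have nb : ∀ r ∈ L, bt U (h0 r) = false ∧ bt (orb M os y) (h0 r) = false := fun r h => by
      have := (a2 r h).2
      rwa [Bool.eq_false_iff, ne_eq, bt_lor, not_or, Bool.not_eq_true, Bool.not_eq_true] at this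
    refine ⟨V, _, a1, List.forall_mem_cons.2 ⟨⟨⟨c1, (T.inL c1).1 c2, fun x => (orb_iff T.md C c1 x).trans
      (and_congr_right fun _ => ⟨fun ⟨_, ⟨⟨k, a, b⟩, d⟩, e⟩ => ⟨k, a, b ▸ d, b ▸ e⟩,
        fun ⟨k, a, b, d⟩ => ⟨_, ⟨T.md.mem a, b⟩, d⟩⟩), T.cz_eq.symm, olg_s T.md c1⟩, c3⟩,
      fun r h => ⟨(a2 r h).1, (nb r h).1⟩⟩, .cons (fun r h => (nb r h).2) a3, fun x h => ?_⟩
    rcases a4 x h with z | ⟨r, z, v⟩
    exacts [(bt_lor.1 z).imp_right fun z => ⟨_, List.mem_cons_self, z⟩, .inr ⟨r, List.mem_cons_of_mem _ z, v⟩]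

theorem sCLS : Snd.{u} rCLS := by
  intro G _ _ F p gl mul s A k1 k2 el hg h1 h2 o c
  simp only [rCLS, force_eq] at c
  have T := o.tm
  obtain ⟨os, C, c⟩ := osL_s T dvd_rfl c
  obtain ⟨V, L, c, a1, a2, a3⟩ := clK_s T C c
  rw [an_iff] at c
  have B : Tb (HL F (nm A 0)) el s.N (nm A 1) L := ⟨fun r h => (a1 r h).1, a2, fun _ x hx m z => by
    have := aQ_s c.1 x hx
    simp only [oo_iff, nt_iff, Nat.beq_eq, T.inL hx, sqn_z T.md hx] at this
    exact (a3 x (this.resolve_right fun v => v.elim (· m) (· z))).resolve_left bt_zero⟩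
  refine h1 _ _ _ el c.2 ?_
  rw [sel_beq]
  split_ifs with z
  exacts [o.sC0 (z ▸ B), o.sC1 (by rwa [hl_ne z, ← hl_ne (F := F) one_ne_zero] at B)]

theorem sLAB : Snd.{u} rLAB := by
  intro G _ _ F p gl mul s A k1 k2 el hg h1 h2 o c
  simp only [rLAB, force_eq, an_iff, Nat.blt_eq] at c
  obtain ⟨c1, c2, c3⟩ := c
  by_cases k : IsConj (el 2) (el (nm A 0))
  · obtain ⟨g, e⟩ := isConj_iff.1 k
    obtain ⟨g', a, b⟩ := o.tm.fix' g
    exact h2 _ _ _ el c3 (o.sMp ⟨g', fun _ => a, .cons ⟨o.tm.l32, c1, (b _ rfl).trans e⟩ .nil,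
      fun q => (show 4096 < 4096 from q).false.elim⟩)
  · exact h1 _ _ _ el c2 (o.sLb (fun y z => (bt_lor.1 z).elim (o.nb y) fun z => bt_one.1 z ▸ ⟨c1, k⟩) o.yb)

theorem lbK_s (o : Ok F p el mul s) {k : ℕ → ℕ → Bool} {nb yb : ℕ}
    (h1 : ∀ y, bt nb y = true → y < s.N ∧ ¬ IsConj (el 2) (el y)) (h2 : ∀ y, bt yb y = true → y < s.N ∧ IsConj (el 2) (el y))
    (e : lbK p (ff mul) s k A nb yb = true) : ∃ nb yb, (∀ y, bt nb y = true → y < s.N ∧ ¬ IsConj (el 2) (el y)) ∧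
      (∀ y, bt yb y = true → y < s.N ∧ IsConj (el 2) (el y)) ∧ k nb yb = true := by
  have T := o.tm
  induction A generalizing nb yb with
  | nil => exact ⟨nb, yb, h1, h2, e⟩
  | cons a A ih =>
    obtain ⟨r, W, rfl, c⟩ := one_iff.1 (show (one a fun r W => force (n1 r 2) fun x => force (n1 r 3) fun j =>
      force (n1 (nth [] s.ct0 (n1 r 1)) 2) fun B => bt B x &&' wk s.N (ff mul) s.ms W [x] fun l => force (h0 l) fun y =>
      sel (Nat.beq (h0 r) 0) ((Nat.beq y 2 ||' bt yb y) &&' force (Nat.lor yb B) (lbK p (ff mul) s k A nb))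
      ((isNo p nb y ||' sel (Nat.beq (h0 r) 2) (nsq p &&' Nat.blt j s.N &&' Nat.beq (ff mul j j) y) (sel (Nat.beq (h0 r) 3)
        (bt (n1 (nth [] s.ct0 j) 2) y &&' Nat.blt (s1 p) (n1 (nth [] s.ct0 j) 1)) (al2 Nat.beq (nth [] s.nf j) [0, 2, y]))) &&'
        force (Nat.lor nb B) fun nb => lbK p (ff mul) s k A nb yb)) = true from e)
    simp only [force_eq, an_iff] at c
    have R := o.c0.rw _ (row_mem c.1)
    obtain ⟨g, y, hy, g1, -, d⟩ := o.wk1 (R.blt c.1) c.2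
    rw [show h0 [y] = y from rfl] at d
    have i : ∀ z, bt (n1 (nth [] s.ct0 (n1 r 1)) 2) z = true → IsConj (el y) (el z) := fun z v =>
      (isConj_iff.2 ⟨g, g1⟩).symm.trans ((R.cj c.1).symm.trans (R.cj v)).isConj
    rcases sel_iff.1 d with ⟨-, d⟩ | ⟨-, d⟩ <;> rw [an_iff] at d
    · refine ih h1 (fun z v => (bt_lor.1 v).elim (h2 z) fun v => ⟨R.blt v, IsConj.trans ?_ (i z v)⟩) d.2
      exact (oo_iff.1 d.1).elim (fun v => Nat.beq_eq.mp v ▸ .refl _) fun v => (h2 y v).2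
    · refine ih (fun z v => (bt_lor.1 v).elim (h1 z) fun v => ⟨R.blt v, fun q => ?_⟩) h2 d.2
      replace q := q.trans (i z v).symm
      rcases oo_iff.1 d.1 with m | m
      · exact T.no nb h1 hy m q
      rcases sel_iff.1 m with ⟨-, m⟩ | ⟨-, m⟩
      · simp only [an_iff, Nat.blt_eq, Nat.beq_eq] at m
        obtain ⟨g, e⟩ := isConj_iff.1 q.symm
        exact T.lk.nsq m.1 (g * el (n1 r 3) * g⁻¹) (by rw [conj_mul, ← T.md.ev m.2.1 m.2.1, m.2.2, e])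
      rcases sel_iff.1 m with ⟨-, m⟩ | ⟨-, m⟩
      · rw [an_iff, Nat.blt_eq, ← (o.c0.rw _ (row_mem m.1)).bsz T m.1] at m
        exact (T.cz_le q).not_gt m.2
      · rw [al2_eq] at m
        have := o.nf _ ((nth_mem [] s.nf (n1 r 3)).resolve_left (by rw [m]; nofun))
        rw [m] at this
        exact this.2.2 (cj_top.2 q)

theorem sLBL : Snd.{u} rLBL := fun _ _ _ _ _ _ _ _ _ _ _ el _ h1 _ o c =>
  let ⟨_, _, a, b, e⟩ := lbK_s o o.nb o.yb c; h1 _ _ _ el e (o.sLb a b)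

theorem md1 (T : Tm F p el N M) : Md el (s1 p) (bmu p) :=
  ⟨fun a b => ⟨T.bm _ a _ b ▸ T.cl _ T.sd _ a _ b, T.bv a b⟩, fun a b => T.md.inj (T.lt a) (T.lt b), s32 p, T.md.e0⟩

theorem bg_lt (h : x ∈ bg p) : x < s1 p := by
  obtain ⟨a, h', b⟩ := p
  cases h'
  exacts [(by decide : ∀ x ∈ [1, 2, 4, 8, 16], x < 32) x h, (by decide : ∀ x ∈ [1, 2, 4, 8, 16, 32], x < 64) x h]

theorem sEMB : Snd.{u} rEMB := by
  intro G _ _ F p gl mul s A k1 k2 el hg h1 h2 o c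
  have := Fact.mk Nat.prime_two
  have T := o.tm
  obtain ⟨g, y, hy, g1, -, c⟩ := o.wk1 T.l32 c
  rw [force_eq, show h0 [y] = y from rfl] at c
  have i : IsConj (el 2) (el y) := isConj_iff.2 ⟨g, g1⟩
  simp only [an_iff, Nat.beq_eq] at c
  · have e := (o.c0.rw _ (row_mem c.1)).bsz T c.1
    rw [c.2.1, T.cz_eq] at e
    obtain ⟨d, d1, d2⟩ := (T.syl_of inf_le_right i e).exists_cj_le (X := cj g T.S1) ((T.pgl T.Kn_le).map _) (T.sylc g1).1
    obtain ⟨g', u, v⟩ := T.fix' (d * g)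
    refine h1 _ _ _ el c.2.2 (o.sCu ⟨dvd_rfl, g', fun _ => u, .cons ⟨T.l32, hy, (v _ rfl).trans ?_⟩ .nil, fun x k => ?_, nofun⟩)
    · rw [← mul_inv_eq_iff_eq_mul.2 (mem_cent1.1 d1), ← g1]; group
    · obtain ⟨q, hq, z⟩ := (H25.cj_le.1 d2 _ (conj_mem_cj.2 ⟨x, bg_lt k, rfl⟩)).1.1
      exact ⟨T.lt (bg_lt k), q, hq, (v _ (T.tc (bg_lt k))).trans (by rw [z]; group)⟩

end H12.TM
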