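import Cfsg.Agent.H12.TM4
import Cfsg.Agent.H3.HT1

/-! Counting cosets by the class of the conjugate of `t`; the splitting rule (adapted from `H3/HT2`-`HT4`). -/

set_option autoImplicit false
set_option linter.unusedSectionVars false

namespace H12.TM
open Cfsg Subgroup MulAction H16 H1.Am H24.SS H19 H3.HT

universe u
variable {G : Type u} [Group G] [Finite G] {F : Subgroup G} {p : Par} {el : ℕ → G} {N x y co : ℕ}
  {M : Mu} {g c : G} {r : List ℕ} {ct : Wl}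

attribute [local instance] two_fact

theorem par_cons {f : List ℕ → Bool} {L : Wl} : par f (r :: L) = true ↔ (f r = true ↔ ¬ par f L = true) := by
  change (Bool.rec (par f L) (!par f L) (f r) : Bool) = true ↔ _
  cases f r <;> cases par f L <;> simp

theorem par_card {α : Type*} [Finite α] {R : List ℕ → Set α} {f : List ℕ → Bool} {L : Wl} {X : Set α}
    (hd : L.Pairwise fun r r' => ∀ q ∈ R r, q ∉ R r') (hc : ∀ q ∈ X, ∃ r ∈ L, q ∈ R r)
    (hp : ∀ r ∈ L, Odd (X ∩ R r).ncard ↔ f r = true) : Odd X.ncard ↔ par f L = true := by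
  induction L generalizing X with
  | nil =>
    rw [Set.eq_empty_of_forall_notMem (s := X) fun q h => by simpa using hc q h]
    simp [par]
  | cons r L ih =>
    obtain ⟨d1, d2⟩ := List.pairwise_cons.1 hd
    rw [par_cons, ← hp r List.mem_cons_self, ← ih (X := X \ R r) d2 (fun q h => ?_) (fun r' h => ?_),
      ← Set.ncard_inter_add_ncard_sdiff_eq_ncard X (R r), Nat.odd_add, Nat.not_odd_iff_even]
    · obtain ⟨r', a, b⟩ := hc q h.1
      exact ⟨r', (List.mem_cons.1 a).resolve_left fun e => h.2 (e ▸ b), b⟩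
    · rw [← hp r' (List.mem_cons_of_mem _ h)]
      congr! 2
      exact Set.ext fun q => ⟨fun k => ⟨k.1.1, k.2⟩, fun k => ⟨⟨k.1, fun e => d1 r' h q e k.2⟩, k.2⟩⟩

variable (T : Tm F p el N M)

/-- the cosets on which `t` has a conjugate in the class of the row -/
def XR (r : List ℕ) : Set (G ⧸ T.md.K) := {q | ∃ x, bt (n1 r 2) x = true ∧ q.out⁻¹ * el 2 * q.out = el x}
/-- the cosets fixed by `S₁` -/
def Fx (q : G ⧸ T.md.K) : Prop := ∀ c ∈ T.S1, c • q = q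

variable {T} (R : Rw (HL F 0) el N r)
include R

theorem xr_mk : (g : G ⧸ T.md.K) ∈ XR T r ↔ ∃ x, bt (n1 r 2) x = true ∧ g⁻¹ * el 2 * g = el x := by
  have k : ∀ (g : G) (s : T.md.K), (∃ x, bt (n1 r 2) x = true ∧ g⁻¹ * el 2 * g = el x) →
      ∃ x, bt (n1 r 2) x = true ∧ (g * s)⁻¹ * el 2 * (g * s) = el x := fun g s ⟨x, a, b⟩ => by
    obtain ⟨y, hy, e⟩ := T.md.K.mul_mem (T.md.K.mul_mem (T.md.K.inv_mem s.2) (T.md.mem (R.blt a))) s.2
    exact ⟨y, R.step T a hy ⟨(s : G)⁻¹, ⟨T.md.K.inv_mem s.2, hl0⟩, by rw [e, inv_inv]⟩, by rw [e, ← b]; group⟩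
  obtain ⟨s, hs⟩ := QuotientGroup.mk_out_eq_mul T.md.K g
  change (∃ x, _) ↔ _
  rw [hs]
  exact ⟨fun h => by simpa using k _ s⁻¹ h, k g s⟩

theorem xr_rep {q : G ⧸ T.md.K} (h : q ∈ XR T r) : ∃ g : G, (g : G ⧸ T.md.K) = q ∧ g⁻¹ * el 2 * g = el (h0 r) := by
  obtain ⟨x, a, b⟩ := h
  obtain ⟨k, hk, e⟩ := R.kj T a
  exact ⟨q.out * k, by rw [QuotientGroup.mk_mul_of_mem _ hk.1]; exact q.out_eq, by
    rw [mul_inv_rev, mul_assoc, mul_assoc, ← mul_assoc q.out⁻¹, ← mul_assoc (q.out⁻¹ * _), b, ← e]; group⟩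

theorem xr_inv (hc : c ∈ C[el 2]) {q : G ⧸ T.md.K} (h : q ∈ XR T r) : c • q ∈ XR T r := by
  obtain ⟨x, a, b⟩ := h
  rw [smul_eq, xr_mk R]
  refine ⟨x, a, ?_⟩
  calc _ = q.out⁻¹ * (c⁻¹ * (el 2 * c)) * q.out := by group
    _ = _ := by rw [← mem_cent1.1 hc, ← b]; group

theorem xr_card (h : IsConj (el 2) (el (h0 r))) : (XR T r).ncard * n1 r 1 = Nat.card C[el 2] := by
  obtain ⟨g, e⟩ := isConj_iff.1 h.symm
  have e' : g⁻¹ * el 2 * g = el (h0 r) := by rw [← e]; group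
  have a : XR T r = orbit C[el 2] (g : G ⧸ T.md.K) := Set.ext fun q => ⟨fun hq => by
    obtain ⟨g', rfl, b⟩ := xr_rep R hq
    refine ⟨⟨g' * g⁻¹, mem_cent1.2 ?_⟩, ?_⟩
    · calc _ = g' * (g⁻¹ * el 2 * g) * g⁻¹ := by group
        _ = _ := by rw [e', ← b]; group
    · change ((g' * g⁻¹ * g : G) : G ⧸ T.md.K) = _
      rw [inv_mul_cancel_right], fun ⟨c, hd⟩ => hd ▸ xr_inv R c.2 ((xr_mk R).2 ⟨_, R.self T, e'⟩)⟩
  have b : Nat.card (stabilizer C[el 2] (g : G ⧸ T.md.K)) = n1 r 1 := by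
    rw [R.sz, T.cz_eq, show HL F 0 = ⊤ from if_pos rfl, inf_top_eq, ← card_cj g, cj_inf, cj_cent1, e]
    refine Nat.card_congr ⟨fun c => ⟨c.1.1, mem_cj.2 ?_, c.1.2⟩, fun c => ⟨⟨c.1, c.2.2⟩, ?_⟩, fun _ => rfl, fun _ => rfl⟩
    · have : ((c.1.1 * g : G) : G ⧸ T.md.K) = g := c.2
      rw [mul_assoc]; exact QuotientGroup.eq.1 this.symm
    · change ((c.1 * g : G) : G ⧸ T.md.K) = g
      exact (QuotientGroup.eq.2 (mul_assoc g⁻¹ c.1 g ▸ mem_cj.1 c.2.1)).symm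
  rw [a, ← b, ← Nat.card_coe_set_eq, ← Nat.card_prod]
  exact Nat.card_congr (orbitProdStabilizerEquivGroup _ _)

theorem odd_of {P : G ⧸ T.md.K → Prop} (h : IsConj (el 2) (el (h0 r))) (e : n1 r 1 = s1 p)
    (k : ∀ q ∈ XR T r, Fx T q → P q) : Odd ({q | P q ∧ Fx T q} ∩ XR T r).ncard := by
  have a : ¬ Even (XR T r).ncard := fun a => T.lk.syl (by
    rw [← xr_card (T := T) R h, e]; exact Nat.mul_dvd_mul_right a.two_dvd _)
  rw [par_fix (T.pgl (T.Kn_le (h := T.sd))) fun c hc q hq => xr_inv R (T.S1_le hc) hq, Nat.not_even_iff_odd] at a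
  convert a using 2
  exact Set.ext fun q => ⟨fun b => ⟨b.2, b.1.2⟩, fun b => ⟨⟨k q b.1 b.2, b.2⟩, b.1⟩⟩

/-- a representative of a fixed coset -/
theorem fx_rep {q : G ⧸ T.md.K} (h : q ∈ XR T r) (k : Fx T q) : ∃ g : G, (g : G ⧸ T.md.K) = q ∧
    g⁻¹ * el 2 * g = el (h0 r) ∧ T.md.K ⊓ C[el (h0 r)] = H19.cj g⁻¹ T.S1 := by
  obtain ⟨g, rfl, e⟩ := xr_rep R h
  have a := T.sylc (g := g⁻¹) (w := el (h0 r)) (by rw [inv_inv, e])
  refine ⟨g, rfl, e, a.eq_of_le (T.pgl inf_le_left) (le_inf (H25.cj_le.2 fun c hc => ?_) a.1) inf_le_right⟩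
  have : ((c * g : G) : G ⧸ T.md.K) = g := k c hc
  rw [inv_inv, mul_assoc]; exact QuotientGroup.eq.1 this.symm

theorem even_of {P : G ⧸ T.md.K → Prop} (nb : ℕ) (hn : ∀ y, bt nb y = true → y < N ∧ ¬ IsConj (el 2) (el y))
    (k : rel p nb r = true → ∀ q ∈ XR T r, Fx T q → ¬ P q) : ¬ Odd ({q | P q ∧ Fx T q} ∩ XR T r).ncard := by
  rw [Set.eq_empty_of_forall_notMem (s := _ ∩ _) fun q b => k ?_ q b.2 b.1.2 b.1.1]
  · simp
  obtain ⟨g, -, e, a⟩ := fx_rep R b.2 b.1.2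
  have c : IsConj (el 2) (el (h0 r)) := isConj_iff.2 ⟨g⁻¹, by rw [inv_inv, e]⟩
  simp only [rel, an_iff, Nat.beq_eq, nt_iff]
  refine ⟨?_, ?_, fun d => T.no nb hn R.lt d c⟩
  · rw [R.sz, T.cz_eq, show HL F 0 = ⊤ from if_pos rfl, inf_top_eq, a, card_cj, T.card_Kn]
  · rw [R.od, ← e, ← T.oG_t, ← oG_cj (g := g⁻¹) (g' := el 2), inv_inv]

theorem yes_cj (yb : ℕ) (hy : ∀ y, bt yb y = true → y < N ∧ IsConj (el 2) (el y)) (h : yes yb r = true) :
    IsConj (el 2) (el (h0 r)) :=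
  (oo_iff.1 h).elim (fun a => (hy _ a).2) fun a => (R.cj a).isConj.symm

omit R
theorem rel_sz {nb : ℕ} (h : rel p nb r = true) : n1 r 1 = s1 p := Nat.beq_eq.mp (an_iff.1 h).1

theorem cnt_par (B : Tb (HL F 0) el N co ct) (hc : 0 < co) {P : G ⧸ T.md.K → Prop} {f : List ℕ → Bool}
    (hp : ∀ r ∈ ct, Odd ({q | P q ∧ Fx T q} ∩ XR T r).ncard ↔ f r = true) :
    Odd {q | P q ∧ Fx T q}.ncard ↔ par f ct = true := by
  refine par_card (R := XR T) ((B.dj T).imp_of_mem ?_) (fun q h => ?_) hp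
  · rintro r r' a b k q ⟨x, c, d⟩ ⟨y, e, j⟩
    refine k x c ?_
    rwa [T.md.inj ((B.rw r a).blt c) ((B.rw r' b).blt e) (d.symm.trans j)]
  · obtain ⟨x, a, b⟩ := (fx _ q).1 (h.2 (el 2) ⟨2, (show 2 < 32 by decide).trans_le (s32 p), rfl⟩)
    obtain ⟨r, c, d⟩ := B.cov hc x a hl0 (by
      obtain ⟨k, rfl⟩ := Nat.exists_eq_succ_of_ne_zero hc.ne'
      have : el x ^ 2 = 1 := by
        rw [b, sq]
        calc _ = q.out⁻¹ * (el 2 * el 2) * q.out := by group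
          _ = 1 := by rw [T.tt]; group
      rw [pow_succ', pow_mul, this, one_pow])
    exact ⟨r, c, x, d, b.symm⟩

/-- the character on `K` -/
theorem chi0 {c : ℕ} (h : hmK p 0 N M c = true) : ∃ ϕ : T.md.K →* ℤˣ, ∀ x < N, ∀ k, ϕ ⟨el x, k⟩ = sgn (chi c x) :=
  let ⟨ψ, a⟩ := T.chi h
  ⟨ψ.comp (inclusion (le_inf le_rfl fun _ _ => hl0)), fun x b _ => a x b _⟩

theorem tv2 (ϕ : T.md.K →* ℤˣ) (h : g ∈ F) (k : g * g = 1) : Even {q : G ⧸ T.md.K | W ϕ g q.out}.ncard := by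
  refine tv (n := 1) (by rw [pow_one, sq, k]) (T.nohom (l := 0) ((MonoidHom.transfer ϕ).comp (HL F 0).subtype) h)
    fun j hj c ⟨a, b⟩ => b ?_
  obtain ⟨i, rfl⟩ := Nat.exists_eq_succ_of_ne_zero hj.ne'
  rw [← map_one ϕ]; congr 1; ext
  simp [pow_succ', pow_mul, k]


theorem sCNT : Snd.{u} rCNT := by
  classical
  intro G _ _ F p gl mul s A k1 k2 el hg h1 h2 o c
  exfalso
  simp only [rCNT, force_eq, an_iff, sel_iff, Nat.blt_eq, allB_iff, oo_iff, nt_iff] at c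
  obtain ⟨c0, ⟨-, c1, c2, c3⟩ | ⟨-, c1, c2, c3, c4⟩⟩ := c
  · refine c3 ((cnt_par (T := o.tm) (P := fun _ => True) o.c0 c0 fun r hr => ⟨fun a => ?_, fun a => ?_⟩).1 ?_)
    · by_contra b
      exact even_of (o.c0.rw r hr) _ o.nb (fun i => absurd i b) a
    · exact odd_of (o.c0.rw r hr) (yes_cj (o.c0.rw r hr) _ o.yb ((c2 r hr).resolve_left fun b => b a)) (rel_sz a)
        fun _ _ _ => trivial
    · rw [← Nat.not_even_iff_odd]
      intro a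
      have b := (par_fix (o.tm.pgl (o.tm.Kn_le (h := o.tm.sd))) (Y := (Set.univ : Set (G ⧸ o.tm.md.K)))
        fun _ _ _ _ => trivial).2 a
      rw [Set.ncard_univ] at b
      refine o.sy c1 ?_
      rw [← o.tm.md.K.index_mul_card, o.tm.card]
      exact Nat.mul_dvd_mul_right b.two_dvd _
  obtain ⟨ϕ, hϕ⟩ := chi0 (T := o.tm) c1
  have v : ∀ r ∈ s.ct0, ∀ q ∈ XR o.tm r, W ϕ (el 2) q.out ↔ chi (nm A 1) (h0 r) = true := fun r hr q a => by
    obtain ⟨g, rfl, e⟩ := xr_rep (o.c0.rw r hr) a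
    have l := (o.c0.rw r hr).lt
    have : ∀ k, ϕ ⟨g⁻¹ * el 2 * g, k⟩ ≠ 1 ↔ chi (nm A 1) (h0 r) = true := fun k => by
      rw [show (⟨_, k⟩ : o.tm.md.K) = ⟨_, o.tm.md.mem l⟩ from Subtype.ext e, hϕ _ l, Ne, sgn_one, Bool.not_eq_false]
    rw [W_out]
    exact ⟨fun ⟨k, j⟩ => (this k).1 j, fun j => ⟨e ▸ o.tm.md.mem l, (this _).2 j⟩⟩
  have a := (cnt_par (T := o.tm) (P := fun q => W ϕ (el 2) q.out) o.c0 c0 fun r hr => ⟨fun a => ?_, fun a => ?_⟩).2 c4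
  · refine Nat.not_even_iff_odd.2 a ((par_fix (o.tm.pgl (o.tm.Kn_le (h := o.tm.sd)))
      (Y := {q : G ⧸ o.tm.md.K | W ϕ (el 2) q.out}) fun c k q b => ?_).1
      (tv2 (T := o.tm) ϕ (o.tm.cx.tp (Bool.eq_false_iff.2 c2) ▸ mem_top _) o.tm.tt))
    change W _ _ _
    rw [smul_eq, W_out]
    exact W.ml b (mem_cent1.1 (o.tm.S1_le k))
  · by_contra b
    exact even_of (o.c0.rw r hr) _ o.nb (fun i q j _ w => b (an_iff.2 ⟨i, (v r hr q j).1 w⟩)) a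
  · rw [an_iff] at a
    exact odd_of (o.c0.rw r hr) (yes_cj (o.c0.rw r hr) _ o.yb (((c3 r hr).resolve_left fun b => b a.1).resolve_left
      fun b => b a.2)) (rel_sz a.1) fun q j _ => (v r hr q j).2 a.2

theorem sp_s {mul : Mu} {s : St} {ys : List ℕ} {k1 : Kt} {L : Wl} {i : ℕ}
    (h : spK p mul s ys k1 L i = true) (a : r ∈ L) (b : rel p s.nb r = true) (c : ¬ bt (n1 r 2) 2 = true) :
    ∃ i, k1 i mul (s.sCu ⟨[2], [h0 r], ys, true, true, s.N⟩) = true := by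
  induction L generalizing i with
  | nil => cases a
  | cons r' L ih =>
    have k : sel (!rel p s.nb r' ||' bt (n1 r' 2) 2) (spK p mul s ys k1 L i) (force (h0 r') (fun y =>
      k1 i mul (s.sCu ⟨[2], [y], ys, true, true, s.N⟩)) &&' force (Nat.succ i) (spK p mul s ys k1 L)) = true := h
    rcases sel_iff.1 k with ⟨k0, k⟩ | ⟨-, k⟩
    · refine ih k ((List.mem_cons.1 a).resolve_left ?_)
      rintro rfl
      exact (oo_iff.1 k0).elim (fun e => nt_iff.1 e b) c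
    · rw [an_iff, force_eq, force_eq] at k
      rcases List.mem_cons.1 a with rfl | a
      exacts [⟨i, k.1⟩, ih k.2 a]

theorem sSPL : Snd.{u} rSPL := by
  intro G _ _ F p gl mul s A k1 k2 el hg h1 h2 o c
  simp only [rSPL, an_iff, Nat.blt_eq, ltA_iff] at c
  obtain ⟨c0, c1, c2, c3⟩ := c
  have T := o.tm
  obtain ⟨n, hn⟩ := T.pw
  by_cases d : 2 * s.N ∣ Nat.card G
  swap
  · exact h1 _ _ _ el c2 (o.sSy d)
  obtain ⟨P, p1, p2⟩ := Sylow.exists_subgroup_card_pow_succ (p := 2) (n := n) (by rwa [pow_succ', ← hn])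
    (T.card.trans hn)
  have ix : T.md.K.relIndex P = 2 := by
    have := card_mul_relIndex p2
    rw [p1, T.card.trans hn, pow_succ] at this
    exact Nat.eq_of_mul_eq_mul_left (by positivity) this
  have nm : ∀ g ∈ P, ∀ k ∈ T.md.K, g * k * g⁻¹ ∈ T.md.K := fun g a k b =>
    (normal_of_index_eq_two ix).conj_mem ⟨k, p2 b⟩ b ⟨g, a⟩
  have sq : ∀ g ∈ P, g * g ∈ T.md.K := fun g a => mul_self_mem_of_index_two ix ⟨g, a⟩
  have cK : ∀ g ∈ P, H19.cj g T.S1 = T.md.K ⊓ C[g * el 2 * g⁻¹] := fun g a => by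
    rw [← T.KC, cj_inf, cj_cent1, show H19.cj g T.md.K = _ from H25.cj_eq_of_le (H25.cj_le.2 (nm g a))]
  obtain ⟨g, gP, gK⟩ : ∃ g ∈ P, g ∉ T.md.K := by
    by_contra! j
    rw [relIndex_eq_one.2 j] at ix
    cases ix
  obtain ⟨y, hy, ey⟩ := nm g gP _ (T.md.mem T.l32 : el 2 ∈ _)
  have cy : IsConj (el 2) (el y) := isConj_iff.2 ⟨g, ey.symm⟩
  obtain ⟨r, hr, b⟩ := o.c0.cov c0 y hy hl0 (by
    obtain ⟨k, e⟩ := Nat.exists_eq_succ_of_ne_zero c0.ne'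
    rw [e, pow_succ', pow_mul, ey, conj_pow, pow_two, T.tt]; simp)
  have R := o.c0.rw r hr
  have rl : rel p s.nb r = true := by
    simp only [rel, an_iff, Nat.beq_eq, nt_iff]
    refine ⟨?_, ?_, fun d => o.no R.lt d (cy.trans (R.cj b).isConj.symm)⟩
    · rw [← R.bsz T b, T.cz_eq, show HL F 0 = ⊤ from if_pos rfl, inf_top_eq, ey, ← cK g gP, card_cj, T.card_Kn]
    · rw [← R.bod b, ey, oG_cj, T.oG_t]
  obtain ⟨i, c4⟩ := sp_s c3 hr rl fun j => by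
    obtain ⟨k, hk, e⟩ := (R.kj T b).symm.trans (R.kj T j)
    have : k * g ∈ T.S1 := (T.syl.eq_of_le (X := P ⊓ C[el 2]) ((IsPGroup.of_card p1).to_le inf_le_left)
      (le_inf (T.Kn_le.trans p2) T.S1_le) inf_le_right).le ⟨mul_mem (p2 hk.1) gP, mem_cent1.2 (by
        rw [← mul_inv_eq_iff_eq_mul]
        calc _ = k * (g * el 2 * g⁻¹) * k⁻¹ := by group
          _ = _ := by rw [← ey, e])⟩
    exact gK ((T.md.K.mul_mem_cancel_left hk.1).1 (T.Kn_le this))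
  obtain ⟨k, hk, e⟩ := (R.kj T b).symm
  have kP : k * g ∈ P := mul_mem (p2 hk.1) gP
  have e' : k * g * el 2 * (k * g)⁻¹ = el (h0 r) := by rw [← e, ey]; group
  obtain ⟨g', f1, f2⟩ := T.fix (k * g)
  have gP' : g' ∈ P := by
    rcases f2 with rfl | rfl
    exacts [kP, mul_mem kP (p2 (T.md.mem T.l32))]
  refine h2 _ _ _ el c4 (o.sCu ⟨dvd_rfl, g', fun _ => f1, .cons ⟨T.l32, R.lt, ?_⟩ .nil, fun y a => ⟨c1 y a, ?_⟩, fun _ => ?_⟩)
  · rcases f2 with rfl | rfl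
    exacts [e', by rw [← e']; group]
  · exact (nm g' gP' _ (T.md.mem (c1 y a))).imp fun _ j => ⟨j.1, j.2.symm⟩
  · exact (sq g' gP').imp fun _ j => ⟨j.1, j.2.symm⟩
theorem sSY : Snd.{u} rSY := by
  intro G _ _ F p gl mul s A k1 k2 el hg h1 h2 o c
  simp only [rSY, an_iff, Nat.ble_eq] at c
  obtain ⟨c2, c⟩ := c
  have T := o.tm
  obtain ⟨n, hn⟩ := T.pw
  refine h1 _ _ _ el c (o.sSy fun d => T.cx.bd ?_)
  rw [hn] at c2 d
  rw [← pow_succ', ← F.index_mul_card] at d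
  cases e : p.a <;> rw [e] at c2
  · rw [T.cx.tp e, index_top, one_mul, ← T.cx.tp e] at d
    exact (pow_dvd_pow 2 (Nat.succ_le_succ ((Nat.pow_le_pow_iff_right (a := 2) (n := 10) one_lt_two).1 c2))).trans d
  · rw [index_eq_two_iff.2 ⟨el 2, fun b => (em (b ∈ F)).elim (fun j => .inr ⟨j, fun i => T.tF e
      ((mul_mem_cancel_left j).1 i)⟩) fun j => .inl ⟨T.mul_t j, j⟩⟩, pow_succ'] at d
    exact (pow_dvd_pow 2 ((Nat.pow_le_pow_iff_right (a := 2) (n := 11) one_lt_two).1 c2)).trans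
      (Nat.dvd_of_mul_dvd_mul_left two_pos d)

end H12.TM
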