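import Cfsg.Agent.H12.TM1

/-! The certificate checker: the remaining programs and the list of rules. -/

set_option autoImplicit false

namespace H12.TM
open H16 H1.Am H24.SS

noncomputable section
/-- the value of a word -/
def wv (M : Mu) (l w : List ℕ) : ℕ := List.rec (nat_lit 0) (fun i _ ih => force ih fun x => M (n1 l i) x) w
def fw (f : List ℕ → ℕ) (L : Wl) : (List ℕ → Bool) → Bool :=
  List.rec (fun k => k []) (fun w _ ih k => force (f w) fun x => ih fun l => k (x :: l)) L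
def rls (M : Mu) (l : List ℕ) (R : List (List ℕ × List ℕ)) : Bool := allB (fun r => Nat.beq (wv M l r.1) (wv M l r.2)) R
def rKF : Rl := fun p _ mul s A _ _ => one (nth [] s.nf (nm A 0)) fun l ab => ev p s.ms l (ar A 1) &&'
  wk s.N (ff mul) s.ms (ar A 1) [h0 ab] fun u => Nat.beq (h0 u) (n1 ab 1)
def rW : List (List ℕ × List ℕ) := [([0, 0, 0, 0, 0, 0, 0, 0], []), ([1, 1], []), ([0, 1, 0, 1], [1, 0, 1, 0])]
/-- `z r s t u ω` -/
def rQ : List (List ℕ × List ℕ) := [([1, 1], [0]), ([2, 2], [0]), ([1, 2, 1], [2]), ([3, 3], []), ([3, 0], [0, 3]),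
  ([1, 3, 1, 3], [3, 1, 3, 1]), ([1, 3, 2, 3], [3, 2, 3, 1]), ([2, 3, 2, 3], [3, 2, 3, 2]), ([4, 1], [1, 4]),
  ([4, 3, 1, 3], [3, 1, 3, 4]), ([4, 2], [1, 2, 4]), ([4, 3, 2, 3], [3, 1, 2, 3, 4]), ([4, 4], [1, 3, 1, 3, 5]),
  ([3, 4, 3, 5], [4])]
def rS : List (List ℕ × List ℕ) := [([0, 0, 0, 0, 0, 0, 0, 0], []), ([1, 1], []), ([1, 0], [0, 0, 0, 1]),
  ([2, 2, 2, 2, 2, 2, 2, 2], []), ([3, 3], []), ([3, 2], [2, 2, 2, 3]), ([0, 2], [2, 0]), ([0, 3], [3, 0]), ([1, 2], [2, 1]),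
  ([1, 3], [3, 1])]
def rID : Rl := fun p _ mul s A _ _ => p.a &&' !p.b &&' s.sy &&' apK (rw2 A 0 1) [] fun l => ltA s.N l &&'
  allB (fun x => !fb p x) l &&' sel (Nat.beq (nm A 0) 0)
    (Nat.beq s.N 256 &&' rls (ff mul) l rW &&' !Nat.beq (wv (ff mul) l [1, 0, 0, 0, 0]) (wv (ff mul) l [0, 0, 0, 0, 1]))
    (sel (Nat.beq (nm A 0) 1)
      (Nat.beq s.N 256 &&' rls (ff mul) l rQ &&' !Nat.beq (n1 l 0) 0 &&' (Nat.beq (n1 l 5) 0 ||' Nat.beq (n1 l 5) (n1 l 0)) &&'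
        fw (wv (ff mul) [n1 l 1, n1 l 2, n1 l 3, n1 l 4]) (ar A 1) fun vs => sgK s.N (ff mul) vs fun B =>
          Nat.beq (cnt s.N (bt B)) 128)
      (Nat.beq s.N 512 &&' rls (ff mul) l rS &&' !Nat.beq (wv (ff mul) l [0, 0, 0, 0]) 0 &&'
        !Nat.beq (wv (ff mul) l [2, 2, 2, 2]) 0 &&' !Nat.beq (wv (ff mul) l [0, 0, 0, 0]) (wv (ff mul) l [2, 2, 2, 2])))
/-- `t z u v f a b x y` -/
def rP : List (List ℕ × List ℕ) := [([5, 5], [2]), ([6, 6], [2]), ([5, 6, 5], [6]), ([7, 7], [1]), ([8, 8], [1]), ([7, 8, 7], [8]),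
  ([5, 3, 5, 3], [3, 5, 3, 5]), ([5, 3, 6, 3], [3, 6, 3, 5]), ([6, 3, 6, 3], [3, 6, 3, 6]), ([5, 7], [7, 5]), ([5, 8], [8, 5]),
  ([6, 7], [7, 6]), ([6, 8], [8, 6]), ([3, 7], [7, 3]), ([3, 8], [8, 3]), ([5, 0, 5], [0]), ([0, 6], [5, 6, 0]),
  ([7, 0, 7], [0]), ([0, 8], [7, 8, 0]), ([4], [5, 3, 5, 3, 7]), ([3, 3], [])]
def psK (p : Par) (M : Mu) (s : St) (e : ℕ) (sk : List ℕ → Bool) (k : List Wl → Bool) (L : Wl) : List Wl → Bool := List.rec k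
  (fun r _ ih A => sel (sk r) (ih A) (two A fun a W' A => one a fun d W => nfc p M s 1 e (h0 r) d W W' &&' ih A)) L
def rPS : Rl := fun p _ mul s A _ _ => p.a &&' p.h &&' !p.b &&' s.sy &&' Nat.beq s.N 1024 &&' Nat.ble 2 s.co1 &&'
  wk s.N (ff mul) s.ms (ar A 1) [2, 1, 4, 8, 32] fun u => apK u (rw2 A 0 0) fun l => ltA s.N l &&'
  allB (fun i => !fb p (n1 l i)) [3, 5, 6, 7, 8] &&' rls (ff mul) l rP &&'
  force (n1 l 1) fun z => force (n1 l 7) fun x => force (n1 l 8) fun y => force (ff mul x y) fun xy =>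
  fw (wv (ff mul) [x, y]) [[], [0], [1], [0, 0], [0, 1], [1, 0], [0, 0, 0], [1, 1, 1]] fun Q =>
  aQ s.N (fun k => cmm (ff mul) k z &&' allB (fun a => force (ff mul k a) fun b => anyB (fun q => Nat.beq (ff mul q k) b) Q) [x, y]) &&'
  (fun sk : List ℕ → Bool => psK p (ff mul) s x sk (psK p (ff mul) s y sk (psK p (ff mul) s xy sk (fun _ => true) s.ct1) s.ct1)
    s.ct1 A.tail.tail) fun r => !Nat.beq (ff mul (h0 r) (h0 r)) z ||' mem Q (h0 r)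
def rules : List Rl := [rKN, rKR, rFUL, rKL, rCOS, rKNF, rEXT, rRF, rRHO, rPOS, rCCH, rSQR, rKA, rKI, rCLS, rLBL, rXT, rSPL,
  rZS, rKV, rKM, rKS, rKC, rCNT, rLAB, rEMB, rSY, rID, rPS, rKF]
end

end H12.TM
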