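import Cfsg.Agent.H12.TXDc0
import Cfsg.Agent.H12.TXDc1
import Cfsg.Agent.H12.TXDc2
import Cfsg.Agent.H12.TMG

/-! Assembly of the certificates. -/

set_option autoImplicit false
set_option maxRecDepth 100000
set_option Elab.async false
set_option linter.all false

namespace H12.TM.D
noncomputable section
universe u
theorem d38 (S : Sr.{u}) : Ds.{u} p g38 := ds S .nil .nil e38
theorem d39 (S : Sr.{u}) : Ds.{u} p g39 := ds S .nil .nil e39
theorem d40 (S : Sr.{u}) : Ds.{u} p g40 := ds S .nil .nil e40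
theorem d41 (S : Sr.{u}) : Ds.{u} p g41 := ds S .nil .nil e41
theorem d42 (S : Sr.{u}) : Ds.{u} p g42 := ds S .nil .nil e42
theorem d43 (S : Sr.{u}) : Ds.{u} p g43 := ds S .nil .nil e43
theorem d44 (S : Sr.{u}) : Ds.{u} p g44 := ds S .nil .nil e44
theorem d45 (S : Sr.{u}) : Ds.{u} p g45 := ds S .nil .nil e45
theorem d46 (S : Sr.{u}) : Ds.{u} p g46 := ds S .nil .nil e46
theorem d47 (S : Sr.{u}) : Ds.{u} p g47 := ds S .nil .nil e47
theorem d48 (S : Sr.{u}) : Ds.{u} p g48 := ds S .nil .nil e48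
theorem d49 (S : Sr.{u}) : Ds.{u} p g49 := ds S .nil .nil e49
theorem d50 (S : Sr.{u}) : Ds.{u} p g50 := ds S .nil .nil e50
theorem d51 (S : Sr.{u}) : Ds.{u} p g51 := ds S .nil .nil e51
theorem d52 (S : Sr.{u}) : Ds.{u} p g52 := ds S .nil .nil e52
theorem d53 (S : Sr.{u}) : Ds.{u} p g53 := ds S .nil .nil e53
theorem d54 (S : Sr.{u}) : Ds.{u} p g54 := ds S .nil .nil e54
theorem d12 (S : Sr.{u}) : Dd.{u} p g12 := dn S .nil (.cons (d38 S) (.cons (d39 S) (.cons (d40 S) (.cons (d41 S) (.cons (d42 S) (.cons (d43 S) (.cons (d44 S) (.cons (d45 S) (.cons (d46 S) (.cons (d47 S) (.cons (d48 S) (.cons (d49 S) (.cons (d50 S) (.cons (d51 S) (.cons (d52 S) (.cons (d53 S) (.cons (d54 S) .nil))))))))))))))))) e12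
theorem d2 (S : Sr.{u}) : Dd.{u} p g2 := dn S (.cons (d12 S) .nil) .nil e2
theorem d55 (S : Sr.{u}) : Ds.{u} p g55 := ds S .nil .nil e55
theorem d14 (S : Sr.{u}) : Dd.{u} p g14 := dn S .nil (.cons (d55 S) .nil) e14
theorem d56 (S : Sr.{u}) : Ds.{u} p g56 := ds S .nil .nil e56
theorem d15 (S : Sr.{u}) : Dd.{u} p g15 := dn S .nil (.cons (d56 S) .nil) e15
theorem d57 (S : Sr.{u}) : Ds.{u} p g57 := ds S .nil .nil e57
theorem d16 (S : Sr.{u}) : Dd.{u} p g16 := dn S .nil (.cons (d57 S) .nil) e16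
theorem d58 (S : Sr.{u}) : Ds.{u} p g58 := ds S .nil .nil e58
theorem d17 (S : Sr.{u}) : Dd.{u} p g17 := dn S .nil (.cons (d58 S) .nil) e17
theorem d59 (S : Sr.{u}) : Ds.{u} p g59 := ds S .nil .nil e59
theorem d18 (S : Sr.{u}) : Dd.{u} p g18 := dn S .nil (.cons (d59 S) .nil) e18
theorem d60 (S : Sr.{u}) : Ds.{u} p g60 := ds S .nil .nil e60
theorem d19 (S : Sr.{u}) : Dd.{u} p g19 := dn S .nil (.cons (d60 S) .nil) e19
theorem d61 (S : Sr.{u}) : Ds.{u} p g61 := ds S .nil .nil e61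
theorem d20 (S : Sr.{u}) : Dd.{u} p g20 := dn S .nil (.cons (d61 S) .nil) e20
theorem d62 (S : Sr.{u}) : Ds.{u} p g62 := ds S .nil .nil e62
theorem d21 (S : Sr.{u}) : Dd.{u} p g21 := dn S .nil (.cons (d62 S) .nil) e21
theorem d98 (S : Sr.{u}) : Ds.{u} p g98 := ds S .nil .nil e98
theorem d77 (S : Sr.{u}) : Dd.{u} p g77 := dn S .nil (.cons (d98 S) .nil) e77
theorem d99 (S : Sr.{u}) : Ds.{u} p g99 := ds S .nil .nil e99
theorem d78 (S : Sr.{u}) : Dd.{u} p g78 := dn S .nil (.cons (d99 S) .nil) e78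
theorem d100 (S : Sr.{u}) : Ds.{u} p g100 := ds S .nil .nil e100
theorem d79 (S : Sr.{u}) : Dd.{u} p g79 := dn S .nil (.cons (d100 S) .nil) e79
theorem d101 (S : Sr.{u}) : Ds.{u} p g101 := ds S .nil .nil e101
theorem d80 (S : Sr.{u}) : Dd.{u} p g80 := dn S .nil (.cons (d101 S) .nil) e80
theorem d76 (S : Sr.{u}) : Ds.{u} p g76 := ds S .nil .nil e76
theorem d81 (S : Sr.{u}) : Dd.{u} p g81 := dn S (.cons (d77 S) (.cons (d78 S) (.cons (d79 S) (.cons (d80 S) .nil)))) (.cons (d76 S) .nil) e81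
theorem d64 (S : Sr.{u}) : Dd.{u} p g64 := dn S (.cons (d77 S) (.cons (d78 S) (.cons (d79 S) (.cons (d80 S) (.cons (d81 S) .nil))))) (.cons (d76 S) .nil) e64
theorem d102 (S : Sr.{u}) : Ds.{u} p g102 := ds S .nil .nil e102
theorem d83 (S : Sr.{u}) : Dd.{u} p g83 := dn S .nil (.cons (d102 S) .nil) e83
theorem d103 (S : Sr.{u}) : Ds.{u} p g103 := ds S .nil .nil e103
theorem d84 (S : Sr.{u}) : Dd.{u} p g84 := dn S .nil (.cons (d103 S) .nil) e84
theorem d104 (S : Sr.{u}) : Ds.{u} p g104 := ds S .nil .nil e104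
theorem d85 (S : Sr.{u}) : Dd.{u} p g85 := dn S .nil (.cons (d104 S) .nil) e85
theorem d105 (S : Sr.{u}) : Ds.{u} p g105 := ds S .nil .nil e105
theorem d86 (S : Sr.{u}) : Dd.{u} p g86 := dn S .nil (.cons (d105 S) .nil) e86
theorem d106 (S : Sr.{u}) : Ds.{u} p g106 := ds S .nil .nil e106
theorem d87 (S : Sr.{u}) : Dd.{u} p g87 := dn S .nil (.cons (d106 S) .nil) e87
theorem d107 (S : Sr.{u}) : Ds.{u} p g107 := ds S .nil .nil e107
theorem d88 (S : Sr.{u}) : Dd.{u} p g88 := dn S .nil (.cons (d107 S) .nil) e88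
theorem d108 (S : Sr.{u}) : Ds.{u} p g108 := ds S .nil .nil e108
theorem d89 (S : Sr.{u}) : Dd.{u} p g89 := dn S .nil (.cons (d108 S) .nil) e89
theorem d109 (S : Sr.{u}) : Ds.{u} p g109 := ds S .nil .nil e109
theorem d90 (S : Sr.{u}) : Dd.{u} p g90 := dn S .nil (.cons (d109 S) .nil) e90
theorem d82 (S : Sr.{u}) : Ds.{u} p g82 := ds S .nil .nil e82
theorem d91 (S : Sr.{u}) : Dd.{u} p g91 := dn S (.cons (d83 S) (.cons (d84 S) (.cons (d85 S) (.cons (d86 S) (.cons (d87 S) (.cons (d88 S) (.cons (d89 S) (.cons (d90 S) .nil)))))))) (.cons (d82 S) .nil) e91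
theorem d65 (S : Sr.{u}) : Dd.{u} p g65 := dn S (.cons (d83 S) (.cons (d84 S) (.cons (d85 S) (.cons (d86 S) (.cons (d87 S) (.cons (d88 S) (.cons (d89 S) (.cons (d90 S) (.cons (d91 S) .nil))))))))) (.cons (d82 S) .nil) e65
theorem d92 (S : Sr.{u}) : Ds.{u} p g92 := ds S .nil .nil e92
theorem d66 (S : Sr.{u}) : Dd.{u} p g66 := dn S .nil (.cons (d92 S) .nil) e66
theorem d93 (S : Sr.{u}) : Ds.{u} p g93 := ds S .nil .nil e93
theorem d67 (S : Sr.{u}) : Dd.{u} p g67 := dn S .nil (.cons (d93 S) .nil) e67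
theorem d94 (S : Sr.{u}) : Ds.{u} p g94 := ds S .nil .nil e94
theorem d68 (S : Sr.{u}) : Dd.{u} p g68 := dn S .nil (.cons (d94 S) .nil) e68
theorem d95 (S : Sr.{u}) : Ds.{u} p g95 := ds S .nil .nil e95
theorem d69 (S : Sr.{u}) : Dd.{u} p g69 := dn S .nil (.cons (d95 S) .nil) e69
theorem d96 (S : Sr.{u}) : Ds.{u} p g96 := ds S .nil .nil e96
theorem d70 (S : Sr.{u}) : Dd.{u} p g70 := dn S .nil (.cons (d96 S) .nil) e70
theorem d97 (S : Sr.{u}) : Ds.{u} p g97 := ds S .nil .nil e97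
theorem d71 (S : Sr.{u}) : Dd.{u} p g71 := dn S .nil (.cons (d97 S) .nil) e71
theorem d63 (S : Sr.{u}) : Ds.{u} p g63 := ds S .nil .nil e63
theorem d22 (S : Sr.{u}) : Dd.{u} p g22 := dn S (.cons (d64 S) (.cons (d65 S) (.cons (d66 S) (.cons (d67 S) (.cons (d68 S) (.cons (d69 S) (.cons (d70 S) (.cons (d71 S) .nil)))))))) (.cons (d63 S) .nil) e22
theorem d13 (S : Sr.{u}) : Ds.{u} p g13 := ds S .nil .nil e13
theorem d23 (S : Sr.{u}) : Ds.{u} p g23 := ds S .nil .nil e23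
theorem d24 (S : Sr.{u}) : Ds.{u} p g24 := ds S .nil .nil e24
theorem d25 (S : Sr.{u}) : Ds.{u} p g25 := ds S .nil .nil e25
theorem d26 (S : Sr.{u}) : Ds.{u} p g26 := ds S .nil .nil e26
theorem d27 (S : Sr.{u}) : Ds.{u} p g27 := ds S .nil .nil e27
theorem d28 (S : Sr.{u}) : Ds.{u} p g28 := ds S .nil .nil e28
theorem d3 (S : Sr.{u}) : Dd.{u} p g3 := dn S (.cons (d14 S) (.cons (d15 S) (.cons (d16 S) (.cons (d17 S) (.cons (d18 S) (.cons (d19 S) (.cons (d20 S) (.cons (d21 S) (.cons (d22 S) .nil))))))))) (.cons (d13 S) (.cons (d23 S) (.cons (d24 S) (.cons (d25 S) (.cons (d26 S) (.cons (d27 S) (.cons (d28 S) .nil))))))) e3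
theorem d72 (S : Sr.{u}) : Ds.{u} p g72 := ds S .nil .nil e72
theorem d30 (S : Sr.{u}) : Dd.{u} p g30 := dn S .nil (.cons (d72 S) .nil) e30
theorem d73 (S : Sr.{u}) : Ds.{u} p g73 := ds S .nil .nil e73
theorem d31 (S : Sr.{u}) : Dd.{u} p g31 := dn S .nil (.cons (d73 S) .nil) e31
theorem d74 (S : Sr.{u}) : Ds.{u} p g74 := ds S .nil .nil e74
theorem d32 (S : Sr.{u}) : Dd.{u} p g32 := dn S .nil (.cons (d74 S) .nil) e32
theorem d75 (S : Sr.{u}) : Ds.{u} p g75 := ds S .nil .nil e75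
theorem d33 (S : Sr.{u}) : Dd.{u} p g33 := dn S .nil (.cons (d75 S) .nil) e33
theorem d29 (S : Sr.{u}) : Ds.{u} p g29 := ds S .nil .nil e29
theorem d6 (S : Sr.{u}) : Dd.{u} p g6 := dn S (.cons (d30 S) (.cons (d31 S) (.cons (d32 S) (.cons (d33 S) .nil)))) (.cons (d29 S) .nil) e6
theorem d34 (S : Sr.{u}) : Ds.{u} p g34 := ds S .nil .nil e34
theorem d8 (S : Sr.{u}) : Dd.{u} p g8 := dn S .nil (.cons (d34 S) .nil) e8
theorem d35 (S : Sr.{u}) : Ds.{u} p g35 := ds S .nil .nil e35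
theorem d9 (S : Sr.{u}) : Dd.{u} p g9 := dn S .nil (.cons (d35 S) .nil) e9
theorem d36 (S : Sr.{u}) : Ds.{u} p g36 := ds S .nil .nil e36
theorem d10 (S : Sr.{u}) : Dd.{u} p g10 := dn S .nil (.cons (d36 S) .nil) e10
theorem d37 (S : Sr.{u}) : Ds.{u} p g37 := ds S .nil .nil e37
theorem d11 (S : Sr.{u}) : Dd.{u} p g11 := dn S .nil (.cons (d37 S) .nil) e11
theorem d1 (S : Sr.{u}) : Ds.{u} p g1 := ds S .nil .nil e1
theorem d4 (S : Sr.{u}) : Ds.{u} p g4 := ds S .nil .nil e4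
theorem d5 (S : Sr.{u}) : Ds.{u} p g5 := ds S .nil .nil e5
theorem d7 (S : Sr.{u}) : Ds.{u} p g7 := ds S .nil .nil e7
theorem d0 (S : Sr.{u}) : Dd.{u} p g0 := dn S (.cons (d2 S) (.cons (d3 S) (.cons (d6 S) (.cons (d8 S) (.cons (d9 S) (.cons (d10 S) (.cons (d11 S) .nil))))))) (.cons (d1 S) (.cons (d4 S) (.cons (d5 S) (.cons (d7 S) .nil)))) e0
end
end H12.TM.D
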