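import Cfsg.Agent.H12.TXEc0
import Cfsg.Agent.H12.TXEc1
import Cfsg.Agent.H12.TXEc2
import Cfsg.Agent.H12.TXEc3
import Cfsg.Agent.H12.TXEc4
import Cfsg.Agent.H12.TXEc5
import Cfsg.Agent.H12.TXEc6
import Cfsg.Agent.H12.TXEc7
import Cfsg.Agent.H12.TXEc8
import Cfsg.Agent.H12.TXEc9
import Cfsg.Agent.H12.TXEc10
import Cfsg.Agent.H12.TXEc11
import Cfsg.Agent.H12.TXEc12
import Cfsg.Agent.H12.TXEc13
import Cfsg.Agent.H12.TXEc14
import Cfsg.Agent.H12.TXEc15
import Cfsg.Agent.H12.TXEc16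
import Cfsg.Agent.H12.TMG

/-! Assembly of the certificates. -/

set_option autoImplicit false
set_option maxRecDepth 100000
set_option Elab.async false
set_option linter.all false

namespace H12.TM.E
noncomputable section
universe u
theorem d51 (S : Sr.{u}) : Ds.{u} p g51 := ds S .nil .nil e51
theorem d126 (S : Sr.{u}) : Ds.{u} p g126 := ds S .nil .nil e126
theorem d127 (S : Sr.{u}) : Ds.{u} p g127 := ds S .nil .nil e127
theorem d128 (S : Sr.{u}) : Ds.{u} p g128 := ds S .nil .nil e128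
theorem d129 (S : Sr.{u}) : Ds.{u} p g129 := ds S .nil .nil e129
theorem d130 (S : Sr.{u}) : Ds.{u} p g130 := ds S .nil .nil e130
theorem d131 (S : Sr.{u}) : Ds.{u} p g131 := ds S .nil .nil e131
theorem d132 (S : Sr.{u}) : Ds.{u} p g132 := ds S .nil .nil e132
theorem d133 (S : Sr.{u}) : Ds.{u} p g133 := ds S .nil .nil e133
theorem d50 (S : Sr.{u}) : Dd.{u} p g50 := dn S .nil (.cons (d51 S) (.cons (d126 S) (.cons (d127 S) (.cons (d128 S) (.cons (d129 S) (.cons (d130 S) (.cons (d131 S) (.cons (d132 S) (.cons (d133 S) .nil))))))))) e50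
theorem d134 (S : Sr.{u}) : Ds.{u} p g134 := ds S .nil .nil e134
theorem d53 (S : Sr.{u}) : Dd.{u} p g53 := dn S .nil (.cons (d134 S) .nil) e53
theorem d362 (S : Sr.{u}) : Ds.{u} p g362 := ds S .nil .nil e362
theorem d225 (S : Sr.{u}) : Dd.{u} p g225 := dn S .nil (.cons (d362 S) .nil) e225
theorem d363 (S : Sr.{u}) : Ds.{u} p g363 := ds S .nil .nil e363
theorem d226 (S : Sr.{u}) : Dd.{u} p g226 := dn S .nil (.cons (d363 S) .nil) e226
theorem d364 (S : Sr.{u}) : Ds.{u} p g364 := ds S .nil .nil e364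
theorem d227 (S : Sr.{u}) : Dd.{u} p g227 := dn S .nil (.cons (d364 S) .nil) e227
theorem d365 (S : Sr.{u}) : Ds.{u} p g365 := ds S .nil .nil e365
theorem d232 (S : Sr.{u}) : Dd.{u} p g232 := dn S .nil (.cons (d365 S) .nil) e232
theorem d366 (S : Sr.{u}) : Ds.{u} p g366 := ds S .nil .nil e366
theorem d233 (S : Sr.{u}) : Dd.{u} p g233 := dn S .nil (.cons (d366 S) .nil) e233
theorem d367 (S : Sr.{u}) : Ds.{u} p g367 := ds S .nil .nil e367
theorem d234 (S : Sr.{u}) : Dd.{u} p g234 := dn S .nil (.cons (d367 S) .nil) e234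
theorem d368 (S : Sr.{u}) : Ds.{u} p g368 := ds S .nil .nil e368
theorem d236 (S : Sr.{u}) : Dd.{u} p g236 := dn S .nil (.cons (d368 S) .nil) e236
theorem d369 (S : Sr.{u}) : Ds.{u} p g369 := ds S .nil .nil e369
theorem d237 (S : Sr.{u}) : Dd.{u} p g237 := dn S .nil (.cons (d369 S) .nil) e237
theorem d370 (S : Sr.{u}) : Ds.{u} p g370 := ds S .nil .nil e370
theorem d238 (S : Sr.{u}) : Dd.{u} p g238 := dn S .nil (.cons (d370 S) .nil) e238
theorem d371 (S : Sr.{u}) : Ds.{u} p g371 := ds S .nil .nil e371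
theorem d239 (S : Sr.{u}) : Dd.{u} p g239 := dn S .nil (.cons (d371 S) .nil) e239
theorem d223 (S : Sr.{u}) : Ds.{u} p g223 := ds S .nil .nil e223
theorem d224 (S : Sr.{u}) : Ds.{u} p g224 := ds S .nil .nil e224
theorem d228 (S : Sr.{u}) : Ds.{u} p g228 := ds S .nil .nil e228
theorem d229 (S : Sr.{u}) : Ds.{u} p g229 := ds S .nil .nil e229
theorem d230 (S : Sr.{u}) : Ds.{u} p g230 := ds S .nil .nil e230
theorem d231 (S : Sr.{u}) : Ds.{u} p g231 := ds S .nil .nil e231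
theorem d235 (S : Sr.{u}) : Ds.{u} p g235 := ds S .nil .nil e235
theorem d135 (S : Sr.{u}) : Dd.{u} p g135 := dn S (.cons (d225 S) (.cons (d226 S) (.cons (d227 S) (.cons (d232 S) (.cons (d233 S) (.cons (d234 S) (.cons (d236 S) (.cons (d237 S) (.cons (d238 S) (.cons (d239 S) .nil)))))))))) (.cons (d223 S) (.cons (d224 S) (.cons (d228 S) (.cons (d229 S) (.cons (d230 S) (.cons (d231 S) (.cons (d235 S) .nil))))))) e135
theorem d241 (S : Sr.{u}) : Ds.{u} p g241 := ds S .nil .nil e241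
theorem d244 (S : Sr.{u}) : Dd.{u} p g244 := dn S .nil (.cons (d241 S) .nil) e244
theorem d240 (S : Sr.{u}) : Ds.{u} p g240 := ds S .nil .nil e240
theorem d245 (S : Sr.{u}) : Dd.{u} p g245 := dn S .nil (.cons (d240 S) .nil) e245
theorem d243 (S : Sr.{u}) : Ds.{u} p g243 := ds S .nil .nil e243
theorem d246 (S : Sr.{u}) : Dd.{u} p g246 := dn S .nil (.cons (d243 S) .nil) e246
theorem d242 (S : Sr.{u}) : Ds.{u} p g242 := ds S .nil .nil e242
theorem d247 (S : Sr.{u}) : Dd.{u} p g247 := dn S .nil (.cons (d242 S) .nil) e247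
theorem d372 (S : Sr.{u}) : Ds.{u} p g372 := ds S .nil .nil e372
theorem d248 (S : Sr.{u}) : Dd.{u} p g248 := dn S .nil (.cons (d372 S) .nil) e248
theorem d373 (S : Sr.{u}) : Ds.{u} p g373 := ds S .nil .nil e373
theorem d249 (S : Sr.{u}) : Dd.{u} p g249 := dn S .nil (.cons (d373 S) .nil) e249
theorem d374 (S : Sr.{u}) : Ds.{u} p g374 := ds S .nil .nil e374
theorem d251 (S : Sr.{u}) : Dd.{u} p g251 := dn S .nil (.cons (d374 S) .nil) e251
theorem d252 (S : Sr.{u}) : Dd.{u} p g252 := dn S .nil (.cons (d373 S) .nil) e252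
theorem d253 (S : Sr.{u}) : Dd.{u} p g253 := dn S .nil (.cons (d372 S) .nil) e253
theorem d254 (S : Sr.{u}) : Dd.{u} p g254 := dn S (.cons (d251 S) .nil) .nil e254
theorem d250 (S : Sr.{u}) : Ds.{u} p g250 := ds S .nil .nil e250
theorem d255 (S : Sr.{u}) : Dd.{u} p g255 := dn S .nil (.cons (d250 S) .nil) e255
theorem d136 (S : Sr.{u}) : Dd.{u} p g136 := dn S (.cons (d244 S) (.cons (d245 S) (.cons (d246 S) (.cons (d247 S) (.cons (d248 S) (.cons (d249 S) (.cons (d251 S) (.cons (d252 S) (.cons (d253 S) (.cons (d254 S) (.cons (d255 S) .nil))))))))))) (.cons (d223 S) (.cons (d240 S) (.cons (d241 S) (.cons (d242 S) (.cons (d243 S) (.cons (d250 S) .nil)))))) e136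
theorem d375 (S : Sr.{u}) : Ds.{u} p g375 := ds S .nil .nil e375
theorem d258 (S : Sr.{u}) : Dd.{u} p g258 := dn S .nil (.cons (d375 S) .nil) e258
theorem d256 (S : Sr.{u}) : Ds.{u} p g256 := ds S .nil .nil e256
theorem d257 (S : Sr.{u}) : Ds.{u} p g257 := ds S .nil .nil e257
theorem d259 (S : Sr.{u}) : Ds.{u} p g259 := ds S .nil .nil e259
theorem d137 (S : Sr.{u}) : Dd.{u} p g137 := dn S (.cons (d258 S) .nil) (.cons (d223 S) (.cons (d256 S) (.cons (d257 S) (.cons (d259 S) .nil)))) e137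
theorem d260 (S : Sr.{u}) : Ds.{u} p g260 := ds S .nil .nil e260
theorem d261 (S : Sr.{u}) : Dd.{u} p g261 := dn S .nil (.cons (d260 S) .nil) e261
theorem d262 (S : Sr.{u}) : Dd.{u} p g262 := dn S .nil (.cons (d260 S) .nil) e262
theorem d263 (S : Sr.{u}) : Dd.{u} p g263 := dn S .nil (.cons (d260 S) .nil) e263
theorem d264 (S : Sr.{u}) : Ds.{u} p g264 := ds S .nil .nil e264
theorem d265 (S : Sr.{u}) : Dd.{u} p g265 := dn S .nil (.cons (d264 S) .nil) e265
theorem d266 (S : Sr.{u}) : Dd.{u} p g266 := dn S .nil (.cons (d264 S) .nil) e266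
theorem d267 (S : Sr.{u}) : Ds.{u} p g267 := ds S .nil .nil e267
theorem d268 (S : Sr.{u}) : Dd.{u} p g268 := dn S .nil (.cons (d267 S) .nil) e268
theorem d269 (S : Sr.{u}) : Dd.{u} p g269 := dn S .nil (.cons (d267 S) .nil) e269
theorem d270 (S : Sr.{u}) : Dd.{u} p g270 := dn S .nil (.cons (d267 S) .nil) e270
theorem d376 (S : Sr.{u}) : Ds.{u} p g376 := ds S .nil .nil e376
theorem d271 (S : Sr.{u}) : Dd.{u} p g271 := dn S .nil (.cons (d376 S) .nil) e271
theorem d272 (S : Sr.{u}) : Dd.{u} p g272 := dn S (.cons (d271 S) .nil) .nil e272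
theorem d273 (S : Sr.{u}) : Dd.{u} p g273 := dn S (.cons (d271 S) .nil) .nil e273
theorem d274 (S : Sr.{u}) : Dd.{u} p g274 := dn S (.cons (d271 S) .nil) .nil e274
theorem d138 (S : Sr.{u}) : Dd.{u} p g138 := dn S (.cons (d261 S) (.cons (d262 S) (.cons (d263 S) (.cons (d265 S) (.cons (d266 S) (.cons (d268 S) (.cons (d269 S) (.cons (d270 S) (.cons (d271 S) (.cons (d272 S) (.cons (d273 S) (.cons (d274 S) .nil)))))))))))) (.cons (d223 S) (.cons (d260 S) (.cons (d264 S) (.cons (d267 S) .nil)))) e138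
theorem d443 (S : Sr.{u}) : Ds.{u} p g443 := ds S .nil .nil e443
theorem d378 (S : Sr.{u}) : Dd.{u} p g378 := dn S .nil (.cons (d443 S) .nil) e378
theorem d444 (S : Sr.{u}) : Ds.{u} p g444 := ds S .nil .nil e444
theorem d379 (S : Sr.{u}) : Dd.{u} p g379 := dn S .nil (.cons (d444 S) .nil) e379
theorem d445 (S : Sr.{u}) : Ds.{u} p g445 := ds S .nil .nil e445
theorem d381 (S : Sr.{u}) : Dd.{u} p g381 := dn S .nil (.cons (d445 S) .nil) e381
theorem d446 (S : Sr.{u}) : Ds.{u} p g446 := ds S .nil .nil e446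
theorem d382 (S : Sr.{u}) : Dd.{u} p g382 := dn S .nil (.cons (d446 S) .nil) e382
theorem d447 (S : Sr.{u}) : Ds.{u} p g447 := ds S .nil .nil e447
theorem d383 (S : Sr.{u}) : Dd.{u} p g383 := dn S .nil (.cons (d447 S) .nil) e383
theorem d448 (S : Sr.{u}) : Ds.{u} p g448 := ds S .nil .nil e448
theorem d384 (S : Sr.{u}) : Dd.{u} p g384 := dn S .nil (.cons (d448 S) .nil) e384
theorem d449 (S : Sr.{u}) : Ds.{u} p g449 := ds S .nil .nil e449
theorem d385 (S : Sr.{u}) : Dd.{u} p g385 := dn S .nil (.cons (d449 S) .nil) e385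
theorem d450 (S : Sr.{u}) : Ds.{u} p g450 := ds S .nil .nil e450
theorem d387 (S : Sr.{u}) : Dd.{u} p g387 := dn S .nil (.cons (d450 S) .nil) e387
theorem d451 (S : Sr.{u}) : Ds.{u} p g451 := ds S .nil .nil e451
theorem d390 (S : Sr.{u}) : Dd.{u} p g390 := dn S .nil (.cons (d451 S) .nil) e390
theorem d452 (S : Sr.{u}) : Ds.{u} p g452 := ds S .nil .nil e452
theorem d392 (S : Sr.{u}) : Dd.{u} p g392 := dn S .nil (.cons (d452 S) .nil) e392
theorem d277 (S : Sr.{u}) : Ds.{u} p g277 := ds S .nil .nil e277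
theorem d377 (S : Sr.{u}) : Ds.{u} p g377 := ds S .nil .nil e377
theorem d380 (S : Sr.{u}) : Ds.{u} p g380 := ds S .nil .nil e380
theorem d386 (S : Sr.{u}) : Ds.{u} p g386 := ds S .nil .nil e386
theorem d388 (S : Sr.{u}) : Ds.{u} p g388 := ds S .nil .nil e388
theorem d389 (S : Sr.{u}) : Ds.{u} p g389 := ds S .nil .nil e389
theorem d391 (S : Sr.{u}) : Ds.{u} p g391 := ds S .nil .nil e391
theorem d275 (S : Sr.{u}) : Dd.{u} p g275 := dn S (.cons (d378 S) (.cons (d379 S) (.cons (d381 S) (.cons (d382 S) (.cons (d383 S) (.cons (d384 S) (.cons (d385 S) (.cons (d387 S) (.cons (d390 S) (.cons (d392 S) .nil)))))))))) (.cons (d277 S) (.cons (d377 S) (.cons (d380 S) (.cons (d386 S) (.cons (d388 S) (.cons (d389 S) (.cons (d391 S) .nil))))))) e275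
theorem d453 (S : Sr.{u}) : Ds.{u} p g453 := ds S .nil .nil e453
theorem d393 (S : Sr.{u}) : Dd.{u} p g393 := dn S .nil (.cons (d453 S) .nil) e393
theorem d454 (S : Sr.{u}) : Ds.{u} p g454 := ds S .nil .nil e454
theorem d396 (S : Sr.{u}) : Dd.{u} p g396 := dn S .nil (.cons (d454 S) .nil) e396
theorem d394 (S : Sr.{u}) : Ds.{u} p g394 := ds S .nil .nil e394
theorem d397 (S : Sr.{u}) : Dd.{u} p g397 := dn S .nil (.cons (d394 S) .nil) e397
theorem d398 (S : Sr.{u}) : Dd.{u} p g398 := dn S .nil (.cons (d453 S) .nil) e398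
theorem d399 (S : Sr.{u}) : Dd.{u} p g399 := dn S .nil (.cons (d454 S) .nil) e399
theorem d395 (S : Sr.{u}) : Ds.{u} p g395 := ds S .nil .nil e395
theorem d400 (S : Sr.{u}) : Dd.{u} p g400 := dn S .nil (.cons (d395 S) .nil) e400
theorem d455 (S : Sr.{u}) : Ds.{u} p g455 := ds S .nil .nil e455
theorem d402 (S : Sr.{u}) : Dd.{u} p g402 := dn S .nil (.cons (d455 S) .nil) e402
theorem d456 (S : Sr.{u}) : Ds.{u} p g456 := ds S .nil .nil e456
theorem d404 (S : Sr.{u}) : Dd.{u} p g404 := dn S .nil (.cons (d456 S) .nil) e404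
theorem d405 (S : Sr.{u}) : Dd.{u} p g405 := dn S .nil (.cons (d455 S) .nil) e405
theorem d406 (S : Sr.{u}) : Dd.{u} p g406 := dn S .nil (.cons (d456 S) .nil) e406
theorem d403 (S : Sr.{u}) : Ds.{u} p g403 := ds S .nil .nil e403
theorem d407 (S : Sr.{u}) : Dd.{u} p g407 := dn S .nil (.cons (d403 S) .nil) e407
theorem d401 (S : Sr.{u}) : Ds.{u} p g401 := ds S .nil .nil e401
theorem d276 (S : Sr.{u}) : Dd.{u} p g276 := dn S (.cons (d393 S) (.cons (d396 S) (.cons (d397 S) (.cons (d398 S) (.cons (d399 S) (.cons (d400 S) (.cons (d402 S) (.cons (d404 S) (.cons (d405 S) (.cons (d406 S) (.cons (d407 S) .nil))))))))))) (.cons (d277 S) (.cons (d394 S) (.cons (d395 S) (.cons (d401 S) (.cons (d403 S) .nil))))) e276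
theorem d139 (S : Sr.{u}) : Dd.{u} p g139 := dn S (.cons (d275 S) (.cons (d276 S) .nil)) (.cons (d277 S) .nil) e139
theorem d56 (S : Sr.{u}) : Dd.{u} p g56 := dn S (.cons (d135 S) (.cons (d136 S) (.cons (d137 S) (.cons (d138 S) (.cons (d139 S) .nil))))) .nil e56
theorem d141 (S : Sr.{u}) : Dd.{u} p g141 := dn S .nil .nil e141
theorem d142 (S : Sr.{u}) : Dd.{u} p g142 := dn S .nil .nil e142
theorem d279 (S : Sr.{u}) : Dd.{u} p g279 := dn S .nil .nil e279
theorem d278 (S : Sr.{u}) : Ds.{u} p g278 := ds S .nil .nil e278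
theorem d143 (S : Sr.{u}) : Dd.{u} p g143 := dn S (.cons (d279 S) .nil) (.cons (d278 S) .nil) e143
theorem d140 (S : Sr.{u}) : Ds.{u} p g140 := ds S .nil .nil e140
theorem d57 (S : Sr.{u}) : Dd.{u} p g57 := dn S (.cons (d141 S) (.cons (d142 S) (.cons (d143 S) .nil))) (.cons (d140 S) .nil) e57
theorem d52 (S : Sr.{u}) : Ds.{u} p g52 := ds S .nil .nil e52
theorem d54 (S : Sr.{u}) : Ds.{u} p g54 := ds S .nil .nil e54
theorem d55 (S : Sr.{u}) : Ds.{u} p g55 := ds S .nil .nil e55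
theorem d18 (S : Sr.{u}) : Dd.{u} p g18 := dn S (.cons (d50 S) (.cons (d53 S) (.cons (d56 S) (.cons (d57 S) .nil)))) (.cons (d51 S) (.cons (d52 S) (.cons (d54 S) (.cons (d55 S) .nil)))) e18
theorem d58 (S : Sr.{u}) : Ds.{u} p g58 := ds S .nil .nil e58
theorem d22 (S : Sr.{u}) : Dd.{u} p g22 := dn S .nil (.cons (d58 S) .nil) e22
theorem d59 (S : Sr.{u}) : Ds.{u} p g59 := ds S .nil .nil e59
theorem d23 (S : Sr.{u}) : Dd.{u} p g23 := dn S .nil (.cons (d59 S) .nil) e23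
theorem d60 (S : Sr.{u}) : Ds.{u} p g60 := ds S .nil .nil e60
theorem d24 (S : Sr.{u}) : Dd.{u} p g24 := dn S .nil (.cons (d60 S) .nil) e24
theorem d61 (S : Sr.{u}) : Ds.{u} p g61 := ds S .nil .nil e61
theorem d25 (S : Sr.{u}) : Dd.{u} p g25 := dn S .nil (.cons (d61 S) .nil) e25
theorem d62 (S : Sr.{u}) : Ds.{u} p g62 := ds S .nil .nil e62
theorem d26 (S : Sr.{u}) : Dd.{u} p g26 := dn S .nil (.cons (d62 S) .nil) e26
theorem d63 (S : Sr.{u}) : Ds.{u} p g63 := ds S .nil .nil e63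
theorem d27 (S : Sr.{u}) : Dd.{u} p g27 := dn S .nil (.cons (d63 S) .nil) e27
theorem d64 (S : Sr.{u}) : Ds.{u} p g64 := ds S .nil .nil e64
theorem d28 (S : Sr.{u}) : Dd.{u} p g28 := dn S .nil (.cons (d64 S) .nil) e28
theorem d65 (S : Sr.{u}) : Ds.{u} p g65 := ds S .nil .nil e65
theorem d29 (S : Sr.{u}) : Dd.{u} p g29 := dn S .nil (.cons (d65 S) .nil) e29
theorem d280 (S : Sr.{u}) : Ds.{u} p g280 := ds S .nil .nil e280
theorem d281 (S : Sr.{u}) : Dd.{u} p g281 := dn S .nil (.cons (d280 S) .nil) e281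
theorem d147 (S : Sr.{u}) : Dd.{u} p g147 := dn S (.cons (d281 S) .nil) (.cons (d280 S) .nil) e147
theorem d282 (S : Sr.{u}) : Ds.{u} p g282 := ds S .nil .nil e282
theorem d283 (S : Sr.{u}) : Dd.{u} p g283 := dn S .nil (.cons (d282 S) .nil) e283
theorem d284 (S : Sr.{u}) : Dd.{u} p g284 := dn S .nil (.cons (d282 S) .nil) e284
theorem d285 (S : Sr.{u}) : Dd.{u} p g285 := dn S .nil (.cons (d282 S) .nil) e285
theorem d148 (S : Sr.{u}) : Dd.{u} p g148 := dn S (.cons (d283 S) (.cons (d284 S) (.cons (d285 S) .nil))) (.cons (d282 S) .nil) e148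
theorem d286 (S : Sr.{u}) : Ds.{u} p g286 := ds S .nil .nil e286
theorem d287 (S : Sr.{u}) : Dd.{u} p g287 := dn S .nil (.cons (d286 S) .nil) e287
theorem d288 (S : Sr.{u}) : Dd.{u} p g288 := dn S .nil (.cons (d286 S) .nil) e288
theorem d149 (S : Sr.{u}) : Dd.{u} p g149 := dn S (.cons (d287 S) (.cons (d288 S) .nil)) (.cons (d286 S) .nil) e149
theorem d289 (S : Sr.{u}) : Ds.{u} p g289 := ds S .nil .nil e289
theorem d290 (S : Sr.{u}) : Dd.{u} p g290 := dn S .nil (.cons (d289 S) .nil) e290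
theorem d150 (S : Sr.{u}) : Dd.{u} p g150 := dn S (.cons (d290 S) .nil) (.cons (d289 S) .nil) e150
theorem d69 (S : Sr.{u}) : Ds.{u} p g69 := ds S .nil .nil e69
theorem d144 (S : Sr.{u}) : Dd.{u} p g144 := dn S (.cons (d147 S) (.cons (d148 S) (.cons (d149 S) (.cons (d150 S) .nil)))) (.cons (d69 S) .nil) e144
theorem d291 (S : Sr.{u}) : Ds.{u} p g291 := ds S .nil .nil e291
theorem d151 (S : Sr.{u}) : Dd.{u} p g151 := dn S .nil (.cons (d291 S) .nil) e151
theorem d292 (S : Sr.{u}) : Ds.{u} p g292 := ds S .nil .nil e292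
theorem d152 (S : Sr.{u}) : Dd.{u} p g152 := dn S .nil (.cons (d292 S) .nil) e152
theorem d293 (S : Sr.{u}) : Ds.{u} p g293 := ds S .nil .nil e293
theorem d153 (S : Sr.{u}) : Dd.{u} p g153 := dn S .nil (.cons (d293 S) .nil) e153
theorem d294 (S : Sr.{u}) : Ds.{u} p g294 := ds S .nil .nil e294
theorem d154 (S : Sr.{u}) : Dd.{u} p g154 := dn S .nil (.cons (d294 S) .nil) e154
theorem d145 (S : Sr.{u}) : Dd.{u} p g145 := dn S (.cons (d151 S) (.cons (d152 S) (.cons (d153 S) (.cons (d154 S) .nil)))) (.cons (d69 S) .nil) e145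
theorem d155 (S : Sr.{u}) : Ds.{u} p g155 := ds S .nil .nil e155
theorem d70 (S : Sr.{u}) : Dd.{u} p g70 := dn S .nil (.cons (d155 S) .nil) e70
theorem d156 (S : Sr.{u}) : Ds.{u} p g156 := ds S .nil .nil e156
theorem d71 (S : Sr.{u}) : Dd.{u} p g71 := dn S .nil (.cons (d156 S) .nil) e71
theorem d157 (S : Sr.{u}) : Ds.{u} p g157 := ds S .nil .nil e157
theorem d72 (S : Sr.{u}) : Dd.{u} p g72 := dn S .nil (.cons (d157 S) .nil) e72
theorem d158 (S : Sr.{u}) : Ds.{u} p g158 := ds S .nil .nil e158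
theorem d73 (S : Sr.{u}) : Dd.{u} p g73 := dn S .nil (.cons (d158 S) .nil) e73
theorem d295 (S : Sr.{u}) : Ds.{u} p g295 := ds S .nil .nil e295
theorem d296 (S : Sr.{u}) : Dd.{u} p g296 := dn S .nil (.cons (d295 S) .nil) e296
theorem d159 (S : Sr.{u}) : Dd.{u} p g159 := dn S (.cons (d296 S) .nil) (.cons (d295 S) .nil) e159
theorem d297 (S : Sr.{u}) : Ds.{u} p g297 := ds S .nil .nil e297
theorem d298 (S : Sr.{u}) : Dd.{u} p g298 := dn S .nil (.cons (d297 S) .nil) e298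
theorem d299 (S : Sr.{u}) : Dd.{u} p g299 := dn S .nil (.cons (d297 S) .nil) e299
theorem d300 (S : Sr.{u}) : Dd.{u} p g300 := dn S .nil (.cons (d297 S) .nil) e300
theorem d160 (S : Sr.{u}) : Dd.{u} p g160 := dn S (.cons (d298 S) (.cons (d299 S) (.cons (d300 S) .nil))) (.cons (d297 S) .nil) e160
theorem d301 (S : Sr.{u}) : Ds.{u} p g301 := ds S .nil .nil e301
theorem d302 (S : Sr.{u}) : Dd.{u} p g302 := dn S .nil (.cons (d301 S) .nil) e302
theorem d303 (S : Sr.{u}) : Dd.{u} p g303 := dn S .nil (.cons (d301 S) .nil) e303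
theorem d161 (S : Sr.{u}) : Dd.{u} p g161 := dn S (.cons (d302 S) (.cons (d303 S) .nil)) (.cons (d301 S) .nil) e161
theorem d304 (S : Sr.{u}) : Ds.{u} p g304 := ds S .nil .nil e304
theorem d305 (S : Sr.{u}) : Dd.{u} p g305 := dn S .nil (.cons (d304 S) .nil) e305
theorem d162 (S : Sr.{u}) : Dd.{u} p g162 := dn S (.cons (d305 S) .nil) (.cons (d304 S) .nil) e162
theorem d146 (S : Sr.{u}) : Dd.{u} p g146 := dn S (.cons (d159 S) (.cons (d160 S) (.cons (d161 S) (.cons (d162 S) .nil)))) (.cons (d69 S) .nil) e146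
theorem d66 (S : Sr.{u}) : Dd.{u} p g66 := dn S (.cons (d144 S) (.cons (d145 S) (.cons (d70 S) (.cons (d71 S) (.cons (d72 S) (.cons (d73 S) (.cons (d146 S) .nil))))))) (.cons (d69 S) .nil) e66
theorem d67 (S : Sr.{u}) : Dd.{u} p g67 := dn S (.cons (d147 S) (.cons (d148 S) (.cons (d149 S) (.cons (d150 S) .nil)))) (.cons (d69 S) .nil) e67
theorem d68 (S : Sr.{u}) : Dd.{u} p g68 := dn S (.cons (d151 S) (.cons (d152 S) (.cons (d153 S) (.cons (d154 S) .nil)))) (.cons (d69 S) .nil) e68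
theorem d74 (S : Sr.{u}) : Dd.{u} p g74 := dn S (.cons (d159 S) (.cons (d160 S) (.cons (d161 S) (.cons (d162 S) .nil)))) (.cons (d69 S) .nil) e74
theorem d163 (S : Sr.{u}) : Dd.{u} p g163 := dn S (.cons (d147 S) (.cons (d148 S) (.cons (d149 S) (.cons (d150 S) .nil)))) (.cons (d69 S) .nil) e163
theorem d164 (S : Sr.{u}) : Dd.{u} p g164 := dn S (.cons (d151 S) (.cons (d152 S) (.cons (d153 S) (.cons (d154 S) .nil)))) (.cons (d69 S) .nil) e164
theorem d165 (S : Sr.{u}) : Dd.{u} p g165 := dn S (.cons (d159 S) (.cons (d160 S) (.cons (d161 S) (.cons (d162 S) .nil)))) (.cons (d69 S) .nil) e165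
theorem d306 (S : Sr.{u}) : Dd.{u} p g306 := dn S (.cons (d147 S) (.cons (d148 S) (.cons (d149 S) (.cons (d150 S) .nil)))) (.cons (d69 S) .nil) e306
theorem d307 (S : Sr.{u}) : Dd.{u} p g307 := dn S .nil (.cons (d291 S) .nil) e307
theorem d308 (S : Sr.{u}) : Dd.{u} p g308 := dn S .nil (.cons (d292 S) .nil) e308
theorem d309 (S : Sr.{u}) : Dd.{u} p g309 := dn S .nil (.cons (d293 S) .nil) e309
theorem d310 (S : Sr.{u}) : Dd.{u} p g310 := dn S .nil (.cons (d294 S) .nil) e310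
theorem d311 (S : Sr.{u}) : Dd.{u} p g311 := dn S .nil (.cons (d155 S) .nil) e311
theorem d312 (S : Sr.{u}) : Dd.{u} p g312 := dn S .nil (.cons (d156 S) .nil) e312
theorem d313 (S : Sr.{u}) : Dd.{u} p g313 := dn S .nil (.cons (d157 S) .nil) e313
theorem d314 (S : Sr.{u}) : Dd.{u} p g314 := dn S .nil (.cons (d158 S) .nil) e314
theorem d315 (S : Sr.{u}) : Dd.{u} p g315 := dn S (.cons (d159 S) (.cons (d160 S) (.cons (d161 S) (.cons (d162 S) .nil)))) (.cons (d69 S) .nil) e315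
theorem d166 (S : Sr.{u}) : Dd.{u} p g166 := dn S (.cons (d306 S) (.cons (d307 S) (.cons (d308 S) (.cons (d309 S) (.cons (d310 S) (.cons (d311 S) (.cons (d312 S) (.cons (d313 S) (.cons (d314 S) (.cons (d315 S) .nil)))))))))) (.cons (d69 S) .nil) e166
theorem d75 (S : Sr.{u}) : Dd.{u} p g75 := dn S (.cons (d163 S) (.cons (d164 S) (.cons (d70 S) (.cons (d71 S) (.cons (d72 S) (.cons (d73 S) (.cons (d165 S) (.cons (d166 S) .nil)))))))) (.cons (d69 S) .nil) e75
theorem d30 (S : Sr.{u}) : Dd.{u} p g30 := dn S (.cons (d66 S) (.cons (d67 S) (.cons (d68 S) (.cons (d70 S) (.cons (d71 S) (.cons (d72 S) (.cons (d73 S) (.cons (d74 S) (.cons (d75 S) .nil))))))))) (.cons (d69 S) .nil) e30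
theorem d31 (S : Sr.{u}) : Dd.{u} p g31 := dn S .nil .nil e31
theorem d76 (S : Sr.{u}) : Dd.{u} p g76 := dn S .nil .nil e76
theorem d32 (S : Sr.{u}) : Dd.{u} p g32 := dn S (.cons (d76 S) .nil) .nil e32
theorem d33 (S : Sr.{u}) : Dd.{u} p g33 := dn S .nil .nil e33
theorem d21 (S : Sr.{u}) : Ds.{u} p g21 := ds S .nil .nil e21
theorem d19 (S : Sr.{u}) : Dd.{u} p g19 := dn S (.cons (d22 S) (.cons (d23 S) (.cons (d24 S) (.cons (d25 S) (.cons (d26 S) (.cons (d27 S) (.cons (d28 S) (.cons (d29 S) (.cons (d30 S) (.cons (d31 S) (.cons (d32 S) (.cons (d33 S) .nil)))))))))))) (.cons (d21 S) .nil) e19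
theorem d20 (S : Sr.{u}) : Dd.{u} p g20 := dn S (.cons (d22 S) (.cons (d23 S) (.cons (d24 S) (.cons (d25 S) (.cons (d26 S) (.cons (d27 S) (.cons (d28 S) (.cons (d29 S) (.cons (d30 S) (.cons (d31 S) (.cons (d32 S) (.cons (d33 S) .nil)))))))))))) (.cons (d21 S) .nil) e20
theorem d167 (S : Sr.{u}) : Dd.{u} p g167 := dn S .nil .nil e167
theorem d168 (S : Sr.{u}) : Dd.{u} p g168 := dn S .nil .nil e168
theorem d78 (S : Sr.{u}) : Dd.{u} p g78 := dn S (.cons (d167 S) (.cons (d168 S) .nil)) .nil e78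
theorem d79 (S : Sr.{u}) : Dd.{u} p g79 := dn S .nil .nil e79
theorem d169 (S : Sr.{u}) : Dd.{u} p g169 := dn S .nil .nil e169
theorem d80 (S : Sr.{u}) : Dd.{u} p g80 := dn S (.cons (d169 S) .nil) .nil e80
theorem d81 (S : Sr.{u}) : Dd.{u} p g81 := dn S .nil .nil e81
theorem d77 (S : Sr.{u}) : Ds.{u} p g77 := ds S .nil .nil e77
theorem d34 (S : Sr.{u}) : Dd.{u} p g34 := dn S (.cons (d78 S) (.cons (d79 S) (.cons (d80 S) (.cons (d81 S) .nil)))) (.cons (d77 S) .nil) e34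
theorem d213 (S : Sr.{u}) : Dd.{u} p g213 := dn S .nil .nil e213
theorem d214 (S : Sr.{u}) : Dd.{u} p g214 := dn S .nil .nil e214
theorem d111 (S : Sr.{u}) : Dd.{u} p g111 := dn S (.cons (d213 S) (.cons (d214 S) .nil)) .nil e111
theorem d171 (S : Sr.{u}) : Dd.{u} p g171 := dn S .nil .nil e171
theorem d418 (S : Sr.{u}) : Ds.{u} p g418 := ds S .nil .nil e418
theorem d417 (S : Sr.{u}) : Dd.{u} p g417 := dn S .nil (.cons (d418 S) .nil) e417
theorem d419 (S : Sr.{u}) : Dd.{u} p g419 := dn S .nil (.cons (d418 S) .nil) e419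
theorem d420 (S : Sr.{u}) : Dd.{u} p g420 := dn S .nil (.cons (d418 S) .nil) e420
theorem d338 (S : Sr.{u}) : Dd.{u} p g338 := dn S (.cons (d417 S) (.cons (d419 S) (.cons (d420 S) .nil))) (.cons (d418 S) .nil) e338
theorem d421 (S : Sr.{u}) : Ds.{u} p g421 := ds S .nil .nil e421
theorem d339 (S : Sr.{u}) : Dd.{u} p g339 := dn S .nil (.cons (d421 S) .nil) e339
theorem d457 (S : Sr.{u}) : Ds.{u} p g457 := ds S .nil .nil e457
theorem d422 (S : Sr.{u}) : Ds.{u} p g422 := ds S .nil (.cons (d457 S) .nil) e422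
theorem d340 (S : Sr.{u}) : Dd.{u} p g340 := dn S .nil (.cons (d422 S) .nil) e340
theorem d423 (S : Sr.{u}) : Ds.{u} p g423 := ds S .nil .nil e423
theorem d341 (S : Sr.{u}) : Dd.{u} p g341 := dn S .nil (.cons (d423 S) .nil) e341
theorem d203 (S : Sr.{u}) : Ds.{u} p g203 := ds S .nil .nil e203
theorem d415 (S : Sr.{u}) : Dd.{u} p g415 := dn S (.cons (d338 S) (.cons (d339 S) (.cons (d340 S) (.cons (d341 S) .nil)))) (.cons (d203 S) .nil) e415
theorem d342 (S : Sr.{u}) : Ds.{u} p g342 := ds S .nil .nil e342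
theorem d204 (S : Sr.{u}) : Dd.{u} p g204 := dn S .nil (.cons (d342 S) .nil) e204
theorem d343 (S : Sr.{u}) : Ds.{u} p g343 := ds S .nil .nil e343
theorem d205 (S : Sr.{u}) : Dd.{u} p g205 := dn S .nil (.cons (d343 S) .nil) e205
theorem d344 (S : Sr.{u}) : Ds.{u} p g344 := ds S .nil .nil e344
theorem d206 (S : Sr.{u}) : Dd.{u} p g206 := dn S .nil (.cons (d344 S) .nil) e206
theorem d345 (S : Sr.{u}) : Ds.{u} p g345 := ds S .nil .nil e345
theorem d207 (S : Sr.{u}) : Dd.{u} p g207 := dn S .nil (.cons (d345 S) .nil) e207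
theorem d424 (S : Sr.{u}) : Ds.{u} p g424 := ds S .nil .nil e424
theorem d346 (S : Sr.{u}) : Dd.{u} p g346 := dn S .nil (.cons (d424 S) .nil) e346
theorem d425 (S : Sr.{u}) : Ds.{u} p g425 := ds S .nil .nil e425
theorem d347 (S : Sr.{u}) : Dd.{u} p g347 := dn S .nil (.cons (d425 S) .nil) e347
theorem d426 (S : Sr.{u}) : Ds.{u} p g426 := ds S .nil .nil e426
theorem d348 (S : Sr.{u}) : Dd.{u} p g348 := dn S .nil (.cons (d426 S) .nil) e348
theorem d427 (S : Sr.{u}) : Ds.{u} p g427 := ds S .nil .nil e427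
theorem d349 (S : Sr.{u}) : Dd.{u} p g349 := dn S .nil (.cons (d427 S) .nil) e349
theorem d428 (S : Sr.{u}) : Ds.{u} p g428 := ds S .nil .nil e428
theorem d350 (S : Sr.{u}) : Dd.{u} p g350 := dn S .nil (.cons (d428 S) .nil) e350
theorem d429 (S : Sr.{u}) : Ds.{u} p g429 := ds S .nil .nil e429
theorem d351 (S : Sr.{u}) : Dd.{u} p g351 := dn S .nil (.cons (d429 S) .nil) e351
theorem d431 (S : Sr.{u}) : Ds.{u} p g431 := ds S .nil .nil e431
theorem d430 (S : Sr.{u}) : Dd.{u} p g430 := dn S .nil (.cons (d431 S) .nil) e430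
theorem d432 (S : Sr.{u}) : Dd.{u} p g432 := dn S .nil (.cons (d431 S) .nil) e432
theorem d352 (S : Sr.{u}) : Dd.{u} p g352 := dn S (.cons (d430 S) (.cons (d432 S) .nil)) (.cons (d431 S) .nil) e352
theorem d434 (S : Sr.{u}) : Ds.{u} p g434 := ds S .nil .nil e434
theorem d433 (S : Sr.{u}) : Dd.{u} p g433 := dn S .nil (.cons (d434 S) .nil) e433
theorem d435 (S : Sr.{u}) : Dd.{u} p g435 := dn S .nil (.cons (d434 S) .nil) e435
theorem d436 (S : Sr.{u}) : Dd.{u} p g436 := dn S .nil (.cons (d434 S) .nil) e436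
theorem d353 (S : Sr.{u}) : Dd.{u} p g353 := dn S (.cons (d433 S) (.cons (d435 S) (.cons (d436 S) .nil))) (.cons (d434 S) .nil) e353
theorem d416 (S : Sr.{u}) : Dd.{u} p g416 := dn S (.cons (d350 S) (.cons (d351 S) (.cons (d352 S) (.cons (d353 S) .nil)))) (.cons (d203 S) .nil) e416
theorem d331 (S : Sr.{u}) : Dd.{u} p g331 := dn S (.cons (d415 S) (.cons (d204 S) (.cons (d205 S) (.cons (d206 S) (.cons (d207 S) (.cons (d346 S) (.cons (d347 S) (.cons (d348 S) (.cons (d349 S) (.cons (d416 S) .nil)))))))))) (.cons (d203 S) .nil) e331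
theorem d332 (S : Sr.{u}) : Dd.{u} p g332 := dn S (.cons (d338 S) (.cons (d339 S) (.cons (d340 S) (.cons (d341 S) .nil)))) (.cons (d203 S) .nil) e332
theorem d333 (S : Sr.{u}) : Dd.{u} p g333 := dn S (.cons (d346 S) (.cons (d347 S) (.cons (d348 S) (.cons (d349 S) .nil)))) (.cons (d203 S) .nil) e333
theorem d334 (S : Sr.{u}) : Dd.{u} p g334 := dn S (.cons (d350 S) (.cons (d351 S) (.cons (d352 S) (.cons (d353 S) .nil)))) (.cons (d203 S) .nil) e334
theorem d200 (S : Sr.{u}) : Dd.{u} p g200 := dn S (.cons (d331 S) (.cons (d332 S) (.cons (d204 S) (.cons (d205 S) (.cons (d206 S) (.cons (d207 S) (.cons (d333 S) (.cons (d334 S) .nil)))))))) (.cons (d203 S) .nil) e200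
theorem d335 (S : Sr.{u}) : Dd.{u} p g335 := dn S (.cons (d338 S) (.cons (d339 S) (.cons (d340 S) (.cons (d341 S) .nil)))) (.cons (d203 S) .nil) e335
theorem d336 (S : Sr.{u}) : Dd.{u} p g336 := dn S (.cons (d346 S) (.cons (d347 S) (.cons (d348 S) (.cons (d349 S) .nil)))) (.cons (d203 S) .nil) e336
theorem d337 (S : Sr.{u}) : Dd.{u} p g337 := dn S (.cons (d350 S) (.cons (d351 S) (.cons (d352 S) (.cons (d353 S) .nil)))) (.cons (d203 S) .nil) e337
theorem d201 (S : Sr.{u}) : Dd.{u} p g201 := dn S (.cons (d335 S) (.cons (d204 S) (.cons (d205 S) (.cons (d206 S) (.cons (d207 S) (.cons (d336 S) (.cons (d337 S) .nil))))))) (.cons (d203 S) .nil) e201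
theorem d202 (S : Sr.{u}) : Dd.{u} p g202 := dn S (.cons (d338 S) (.cons (d339 S) (.cons (d340 S) (.cons (d341 S) .nil)))) (.cons (d203 S) .nil) e202
theorem d208 (S : Sr.{u}) : Dd.{u} p g208 := dn S (.cons (d346 S) (.cons (d347 S) (.cons (d348 S) (.cons (d349 S) .nil)))) (.cons (d203 S) .nil) e208
theorem d209 (S : Sr.{u}) : Dd.{u} p g209 := dn S (.cons (d350 S) (.cons (d351 S) (.cons (d352 S) (.cons (d353 S) .nil)))) (.cons (d203 S) .nil) e209
theorem d437 (S : Sr.{u}) : Dd.{u} p g437 := dn S (.cons (d338 S) (.cons (d339 S) (.cons (d340 S) (.cons (d341 S) .nil)))) (.cons (d203 S) .nil) e437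
theorem d438 (S : Sr.{u}) : Dd.{u} p g438 := dn S (.cons (d346 S) (.cons (d347 S) (.cons (d348 S) (.cons (d349 S) .nil)))) (.cons (d203 S) .nil) e438
theorem d439 (S : Sr.{u}) : Dd.{u} p g439 := dn S (.cons (d350 S) (.cons (d351 S) (.cons (d352 S) (.cons (d353 S) .nil)))) (.cons (d203 S) .nil) e439
theorem d354 (S : Sr.{u}) : Dd.{u} p g354 := dn S (.cons (d437 S) (.cons (d204 S) (.cons (d205 S) (.cons (d206 S) (.cons (d207 S) (.cons (d438 S) (.cons (d439 S) .nil))))))) (.cons (d203 S) .nil) e354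
theorem d355 (S : Sr.{u}) : Dd.{u} p g355 := dn S (.cons (d338 S) (.cons (d339 S) (.cons (d340 S) (.cons (d341 S) .nil)))) (.cons (d203 S) .nil) e355
theorem d356 (S : Sr.{u}) : Dd.{u} p g356 := dn S (.cons (d346 S) (.cons (d347 S) (.cons (d348 S) (.cons (d349 S) .nil)))) (.cons (d203 S) .nil) e356
theorem d357 (S : Sr.{u}) : Dd.{u} p g357 := dn S (.cons (d350 S) (.cons (d351 S) (.cons (d352 S) (.cons (d353 S) .nil)))) (.cons (d203 S) .nil) e357
theorem d210 (S : Sr.{u}) : Dd.{u} p g210 := dn S (.cons (d354 S) (.cons (d355 S) (.cons (d204 S) (.cons (d205 S) (.cons (d206 S) (.cons (d207 S) (.cons (d356 S) (.cons (d357 S) .nil)))))))) (.cons (d203 S) .nil) e210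
theorem d440 (S : Sr.{u}) : Dd.{u} p g440 := dn S (.cons (d338 S) (.cons (d339 S) (.cons (d340 S) (.cons (d341 S) .nil)))) (.cons (d203 S) .nil) e440
theorem d441 (S : Sr.{u}) : Dd.{u} p g441 := dn S (.cons (d346 S) (.cons (d347 S) (.cons (d348 S) (.cons (d349 S) .nil)))) (.cons (d203 S) .nil) e441
theorem d442 (S : Sr.{u}) : Dd.{u} p g442 := dn S (.cons (d350 S) (.cons (d351 S) (.cons (d352 S) (.cons (d353 S) .nil)))) (.cons (d203 S) .nil) e442
theorem d358 (S : Sr.{u}) : Dd.{u} p g358 := dn S (.cons (d440 S) (.cons (d204 S) (.cons (d205 S) (.cons (d206 S) (.cons (d207 S) (.cons (d441 S) (.cons (d442 S) .nil))))))) (.cons (d203 S) .nil) e358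
theorem d359 (S : Sr.{u}) : Dd.{u} p g359 := dn S (.cons (d338 S) (.cons (d339 S) (.cons (d340 S) (.cons (d341 S) .nil)))) (.cons (d203 S) .nil) e359
theorem d360 (S : Sr.{u}) : Dd.{u} p g360 := dn S (.cons (d346 S) (.cons (d347 S) (.cons (d348 S) (.cons (d349 S) .nil)))) (.cons (d203 S) .nil) e360
theorem d361 (S : Sr.{u}) : Dd.{u} p g361 := dn S (.cons (d350 S) (.cons (d351 S) (.cons (d352 S) (.cons (d353 S) .nil)))) (.cons (d203 S) .nil) e361
theorem d211 (S : Sr.{u}) : Dd.{u} p g211 := dn S (.cons (d358 S) (.cons (d359 S) (.cons (d204 S) (.cons (d205 S) (.cons (d206 S) (.cons (d207 S) (.cons (d360 S) (.cons (d361 S) .nil)))))))) (.cons (d203 S) .nil) e211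
theorem d106 (S : Sr.{u}) : Dd.{u} p g106 := dn S (.cons (d200 S) (.cons (d201 S) (.cons (d202 S) (.cons (d204 S) (.cons (d205 S) (.cons (d206 S) (.cons (d207 S) (.cons (d208 S) (.cons (d209 S) (.cons (d210 S) (.cons (d211 S) .nil))))))))))) (.cons (d203 S) .nil) e106
theorem d172 (S : Sr.{u}) : Dd.{u} p g172 := dn S .nil .nil e172
theorem d170 (S : Sr.{u}) : Ds.{u} p g170 := ds S .nil .nil e170
theorem d82 (S : Sr.{u}) : Dd.{u} p g82 := dn S (.cons (d111 S) (.cons (d171 S) (.cons (d106 S) (.cons (d172 S) .nil)))) (.cons (d170 S) .nil) e82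
theorem d173 (S : Sr.{u}) : Dd.{u} p g173 := dn S .nil .nil e173
theorem d174 (S : Sr.{u}) : Dd.{u} p g174 := dn S .nil .nil e174
theorem d84 (S : Sr.{u}) : Dd.{u} p g84 := dn S (.cons (d173 S) (.cons (d174 S) .nil)) .nil e84
theorem d85 (S : Sr.{u}) : Dd.{u} p g85 := dn S .nil .nil e85
theorem d86 (S : Sr.{u}) : Dd.{u} p g86 := dn S .nil .nil e86
theorem d87 (S : Sr.{u}) : Dd.{u} p g87 := dn S .nil .nil e87
theorem d83 (S : Sr.{u}) : Ds.{u} p g83 := ds S .nil .nil e83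
theorem d35 (S : Sr.{u}) : Dd.{u} p g35 := dn S (.cons (d82 S) (.cons (d84 S) (.cons (d85 S) (.cons (d86 S) (.cons (d87 S) .nil))))) (.cons (d83 S) .nil) e35
theorem d175 (S : Sr.{u}) : Ds.{u} p g175 := ds S .nil .nil e175
theorem d89 (S : Sr.{u}) : Dd.{u} p g89 := dn S .nil (.cons (d175 S) .nil) e89
theorem d176 (S : Sr.{u}) : Ds.{u} p g176 := ds S .nil .nil e176
theorem d90 (S : Sr.{u}) : Dd.{u} p g90 := dn S .nil (.cons (d176 S) .nil) e90
theorem d177 (S : Sr.{u}) : Ds.{u} p g177 := ds S .nil .nil e177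
theorem d91 (S : Sr.{u}) : Dd.{u} p g91 := dn S .nil (.cons (d177 S) .nil) e91
theorem d178 (S : Sr.{u}) : Ds.{u} p g178 := ds S .nil .nil e178
theorem d92 (S : Sr.{u}) : Dd.{u} p g92 := dn S .nil (.cons (d178 S) .nil) e92
theorem d179 (S : Sr.{u}) : Ds.{u} p g179 := ds S .nil .nil e179
theorem d93 (S : Sr.{u}) : Dd.{u} p g93 := dn S .nil (.cons (d179 S) .nil) e93
theorem d180 (S : Sr.{u}) : Ds.{u} p g180 := ds S .nil .nil e180
theorem d94 (S : Sr.{u}) : Dd.{u} p g94 := dn S .nil (.cons (d180 S) .nil) e94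
theorem d181 (S : Sr.{u}) : Ds.{u} p g181 := ds S .nil .nil e181
theorem d95 (S : Sr.{u}) : Dd.{u} p g95 := dn S .nil (.cons (d181 S) .nil) e95
theorem d182 (S : Sr.{u}) : Ds.{u} p g182 := ds S .nil .nil e182
theorem d96 (S : Sr.{u}) : Dd.{u} p g96 := dn S .nil (.cons (d182 S) .nil) e96
theorem d183 (S : Sr.{u}) : Ds.{u} p g183 := ds S .nil .nil e183
theorem d97 (S : Sr.{u}) : Dd.{u} p g97 := dn S .nil (.cons (d183 S) .nil) e97
theorem d184 (S : Sr.{u}) : Ds.{u} p g184 := ds S .nil .nil e184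
theorem d98 (S : Sr.{u}) : Dd.{u} p g98 := dn S .nil (.cons (d184 S) .nil) e98
theorem d185 (S : Sr.{u}) : Ds.{u} p g185 := ds S .nil .nil e185
theorem d99 (S : Sr.{u}) : Dd.{u} p g99 := dn S .nil (.cons (d185 S) .nil) e99
theorem d186 (S : Sr.{u}) : Ds.{u} p g186 := ds S .nil .nil e186
theorem d100 (S : Sr.{u}) : Dd.{u} p g100 := dn S .nil (.cons (d186 S) .nil) e100
theorem d187 (S : Sr.{u}) : Ds.{u} p g187 := ds S .nil .nil e187
theorem d101 (S : Sr.{u}) : Dd.{u} p g101 := dn S .nil (.cons (d187 S) .nil) e101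
theorem d188 (S : Sr.{u}) : Ds.{u} p g188 := ds S .nil .nil e188
theorem d102 (S : Sr.{u}) : Dd.{u} p g102 := dn S .nil (.cons (d188 S) .nil) e102
theorem d189 (S : Sr.{u}) : Ds.{u} p g189 := ds S .nil .nil e189
theorem d103 (S : Sr.{u}) : Dd.{u} p g103 := dn S .nil (.cons (d189 S) .nil) e103
theorem d190 (S : Sr.{u}) : Ds.{u} p g190 := ds S .nil .nil e190
theorem d104 (S : Sr.{u}) : Dd.{u} p g104 := dn S .nil (.cons (d190 S) .nil) e104
theorem d411 (S : Sr.{u}) : Dd.{u} p g411 := dn S .nil (.cons (d292 S) .nil) e411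
theorem d412 (S : Sr.{u}) : Dd.{u} p g412 := dn S .nil (.cons (d291 S) .nil) e412
theorem d413 (S : Sr.{u}) : Dd.{u} p g413 := dn S .nil (.cons (d294 S) .nil) e413
theorem d414 (S : Sr.{u}) : Dd.{u} p g414 := dn S .nil (.cons (d293 S) .nil) e414
theorem d408 (S : Sr.{u}) : Dd.{u} p g408 := dn S (.cons (d411 S) (.cons (d412 S) (.cons (d413 S) (.cons (d414 S) .nil)))) (.cons (d69 S) .nil) e408
theorem d409 (S : Sr.{u}) : Dd.{u} p g409 := dn S (.cons (d148 S) (.cons (d147 S) (.cons (d149 S) (.cons (d150 S) .nil)))) (.cons (d69 S) .nil) e409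
theorem d410 (S : Sr.{u}) : Dd.{u} p g410 := dn S (.cons (d160 S) (.cons (d159 S) (.cons (d161 S) (.cons (d162 S) .nil)))) (.cons (d69 S) .nil) e410
theorem d320 (S : Sr.{u}) : Dd.{u} p g320 := dn S .nil (.cons (d156 S) .nil) e320
theorem d321 (S : Sr.{u}) : Dd.{u} p g321 := dn S .nil (.cons (d155 S) .nil) e321
theorem d322 (S : Sr.{u}) : Dd.{u} p g322 := dn S .nil (.cons (d157 S) .nil) e322
theorem d323 (S : Sr.{u}) : Dd.{u} p g323 := dn S .nil (.cons (d158 S) .nil) e323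
theorem d316 (S : Sr.{u}) : Dd.{u} p g316 := dn S (.cons (d408 S) (.cons (d409 S) (.cons (d410 S) (.cons (d320 S) (.cons (d321 S) (.cons (d322 S) (.cons (d323 S) .nil))))))) (.cons (d69 S) .nil) e316
theorem d317 (S : Sr.{u}) : Dd.{u} p g317 := dn S (.cons (d411 S) (.cons (d412 S) (.cons (d413 S) (.cons (d414 S) .nil)))) (.cons (d69 S) .nil) e317
theorem d318 (S : Sr.{u}) : Dd.{u} p g318 := dn S (.cons (d148 S) (.cons (d147 S) (.cons (d149 S) (.cons (d150 S) .nil)))) (.cons (d69 S) .nil) e318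
theorem d319 (S : Sr.{u}) : Dd.{u} p g319 := dn S (.cons (d160 S) (.cons (d159 S) (.cons (d161 S) (.cons (d162 S) .nil)))) (.cons (d69 S) .nil) e319
theorem d191 (S : Sr.{u}) : Dd.{u} p g191 := dn S (.cons (d316 S) (.cons (d317 S) (.cons (d318 S) (.cons (d319 S) (.cons (d320 S) (.cons (d321 S) (.cons (d322 S) (.cons (d323 S) .nil)))))))) (.cons (d69 S) .nil) e191
theorem d324 (S : Sr.{u}) : Dd.{u} p g324 := dn S (.cons (d411 S) (.cons (d412 S) (.cons (d413 S) (.cons (d414 S) .nil)))) (.cons (d69 S) .nil) e324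
theorem d325 (S : Sr.{u}) : Dd.{u} p g325 := dn S (.cons (d148 S) (.cons (d147 S) (.cons (d149 S) (.cons (d150 S) .nil)))) (.cons (d69 S) .nil) e325
theorem d326 (S : Sr.{u}) : Dd.{u} p g326 := dn S (.cons (d160 S) (.cons (d159 S) (.cons (d161 S) (.cons (d162 S) .nil)))) (.cons (d69 S) .nil) e326
theorem d192 (S : Sr.{u}) : Dd.{u} p g192 := dn S (.cons (d324 S) (.cons (d325 S) (.cons (d326 S) (.cons (d320 S) (.cons (d321 S) (.cons (d322 S) (.cons (d323 S) .nil))))))) (.cons (d69 S) .nil) e192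
theorem d327 (S : Sr.{u}) : Dd.{u} p g327 := dn S .nil (.cons (d292 S) .nil) e327
theorem d328 (S : Sr.{u}) : Dd.{u} p g328 := dn S .nil (.cons (d291 S) .nil) e328
theorem d329 (S : Sr.{u}) : Dd.{u} p g329 := dn S .nil (.cons (d294 S) .nil) e329
theorem d330 (S : Sr.{u}) : Dd.{u} p g330 := dn S .nil (.cons (d293 S) .nil) e330
theorem d193 (S : Sr.{u}) : Dd.{u} p g193 := dn S (.cons (d327 S) (.cons (d328 S) (.cons (d329 S) (.cons (d330 S) .nil)))) (.cons (d69 S) .nil) e193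
theorem d194 (S : Sr.{u}) : Dd.{u} p g194 := dn S (.cons (d148 S) (.cons (d147 S) (.cons (d149 S) (.cons (d150 S) .nil)))) (.cons (d69 S) .nil) e194
theorem d195 (S : Sr.{u}) : Dd.{u} p g195 := dn S (.cons (d160 S) (.cons (d159 S) (.cons (d161 S) (.cons (d162 S) .nil)))) (.cons (d69 S) .nil) e195
theorem d196 (S : Sr.{u}) : Dd.{u} p g196 := dn S .nil (.cons (d156 S) .nil) e196
theorem d197 (S : Sr.{u}) : Dd.{u} p g197 := dn S .nil (.cons (d155 S) .nil) e197
theorem d198 (S : Sr.{u}) : Dd.{u} p g198 := dn S .nil (.cons (d157 S) .nil) e198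
theorem d199 (S : Sr.{u}) : Dd.{u} p g199 := dn S .nil (.cons (d158 S) .nil) e199
theorem d105 (S : Sr.{u}) : Dd.{u} p g105 := dn S (.cons (d191 S) (.cons (d192 S) (.cons (d193 S) (.cons (d194 S) (.cons (d195 S) (.cons (d196 S) (.cons (d197 S) (.cons (d198 S) (.cons (d199 S) .nil))))))))) (.cons (d69 S) .nil) e105
theorem d88 (S : Sr.{u}) : Ds.{u} p g88 := ds S .nil .nil e88
theorem d107 (S : Sr.{u}) : Dd.{u} p g107 := dn S (.cons (d89 S) (.cons (d90 S) (.cons (d91 S) (.cons (d92 S) (.cons (d93 S) (.cons (d94 S) (.cons (d95 S) (.cons (d96 S) (.cons (d97 S) (.cons (d98 S) (.cons (d99 S) (.cons (d100 S) (.cons (d101 S) (.cons (d102 S) (.cons (d103 S) (.cons (d104 S) (.cons (d105 S) (.cons (d79 S) (.cons (d106 S) (.cons (d87 S) .nil)))))))))))))))))))) (.cons (d88 S) .nil) e107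
theorem d212 (S : Sr.{u}) : Dd.{u} p g212 := dn S (.cons (d89 S) (.cons (d90 S) (.cons (d91 S) (.cons (d92 S) (.cons (d93 S) (.cons (d94 S) (.cons (d95 S) (.cons (d96 S) (.cons (d97 S) (.cons (d98 S) (.cons (d99 S) (.cons (d100 S) (.cons (d101 S) (.cons (d102 S) (.cons (d103 S) (.cons (d104 S) (.cons (d105 S) (.cons (d79 S) (.cons (d106 S) (.cons (d87 S) .nil)))))))))))))))))))) (.cons (d88 S) .nil) e212
theorem d108 (S : Sr.{u}) : Dd.{u} p g108 := dn S (.cons (d212 S) (.cons (d89 S) (.cons (d90 S) (.cons (d91 S) (.cons (d92 S) (.cons (d93 S) (.cons (d94 S) (.cons (d95 S) (.cons (d96 S) (.cons (d97 S) (.cons (d98 S) (.cons (d99 S) (.cons (d100 S) (.cons (d101 S) (.cons (d102 S) (.cons (d103 S) (.cons (d104 S) (.cons (d105 S) (.cons (d79 S) (.cons (d106 S) (.cons (d87 S) .nil))))))))))))))))))))) (.cons (d88 S) .nil) e108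
theorem d36 (S : Sr.{u}) : Dd.{u} p g36 := dn S (.cons (d89 S) (.cons (d90 S) (.cons (d91 S) (.cons (d92 S) (.cons (d93 S) (.cons (d94 S) (.cons (d95 S) (.cons (d96 S) (.cons (d97 S) (.cons (d98 S) (.cons (d99 S) (.cons (d100 S) (.cons (d101 S) (.cons (d102 S) (.cons (d103 S) (.cons (d104 S) (.cons (d105 S) (.cons (d79 S) (.cons (d106 S) (.cons (d87 S) (.cons (d107 S) (.cons (d108 S) .nil)))))))))))))))))))))) (.cons (d88 S) .nil) e36
theorem d110 (S : Sr.{u}) : Ds.{u} p g110 := ds S .nil .nil e110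
theorem d109 (S : Sr.{u}) : Dd.{u} p g109 := dn S (.cons (d111 S) (.cons (d85 S) (.cons (d32 S) (.cons (d81 S) .nil)))) (.cons (d110 S) .nil) e109
theorem d37 (S : Sr.{u}) : Dd.{u} p g37 := dn S (.cons (d109 S) (.cons (d111 S) (.cons (d85 S) (.cons (d32 S) (.cons (d81 S) .nil))))) (.cons (d110 S) .nil) e37
theorem d2 (S : Sr.{u}) : Dd.{u} p g2 := dn S (.cons (d18 S) (.cons (d19 S) (.cons (d20 S) (.cons (d22 S) (.cons (d23 S) (.cons (d24 S) (.cons (d25 S) (.cons (d26 S) (.cons (d27 S) (.cons (d28 S) (.cons (d29 S) (.cons (d30 S) (.cons (d31 S) (.cons (d32 S) (.cons (d33 S) (.cons (d34 S) (.cons (d35 S) (.cons (d36 S) (.cons (d37 S) .nil))))))))))))))))))) (.cons (d21 S) .nil) e2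
theorem d112 (S : Sr.{u}) : Ds.{u} p g112 := ds S .nil .nil e112
theorem d215 (S : Sr.{u}) : Ds.{u} p g215 := ds S .nil .nil e215
theorem d216 (S : Sr.{u}) : Ds.{u} p g216 := ds S .nil .nil e216
theorem d217 (S : Sr.{u}) : Ds.{u} p g217 := ds S .nil .nil e217
theorem d218 (S : Sr.{u}) : Ds.{u} p g218 := ds S .nil .nil e218
theorem d219 (S : Sr.{u}) : Ds.{u} p g219 := ds S .nil .nil e219
theorem d220 (S : Sr.{u}) : Ds.{u} p g220 := ds S .nil .nil e220
theorem d221 (S : Sr.{u}) : Ds.{u} p g221 := ds S .nil .nil e221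
theorem d222 (S : Sr.{u}) : Ds.{u} p g222 := ds S .nil .nil e222
theorem d121 (S : Sr.{u}) : Dd.{u} p g121 := dn S .nil (.cons (d112 S) (.cons (d215 S) (.cons (d216 S) (.cons (d217 S) (.cons (d218 S) (.cons (d219 S) (.cons (d220 S) (.cons (d221 S) (.cons (d222 S) .nil))))))))) e121
theorem d113 (S : Sr.{u}) : Ds.{u} p g113 := ds S .nil .nil e113
theorem d114 (S : Sr.{u}) : Ds.{u} p g114 := ds S .nil .nil e114
theorem d115 (S : Sr.{u}) : Ds.{u} p g115 := ds S .nil .nil e115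
theorem d116 (S : Sr.{u}) : Ds.{u} p g116 := ds S .nil .nil e116
theorem d117 (S : Sr.{u}) : Ds.{u} p g117 := ds S .nil .nil e117
theorem d118 (S : Sr.{u}) : Ds.{u} p g118 := ds S .nil .nil e118
theorem d119 (S : Sr.{u}) : Ds.{u} p g119 := ds S .nil .nil e119
theorem d120 (S : Sr.{u}) : Ds.{u} p g120 := ds S .nil .nil e120
theorem d38 (S : Sr.{u}) : Dd.{u} p g38 := dn S (.cons (d121 S) .nil) (.cons (d112 S) (.cons (d113 S) (.cons (d114 S) (.cons (d115 S) (.cons (d116 S) (.cons (d117 S) (.cons (d118 S) (.cons (d119 S) (.cons (d120 S) .nil))))))))) e38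
theorem d122 (S : Sr.{u}) : Ds.{u} p g122 := ds S .nil .nil e122
theorem d45 (S : Sr.{u}) : Dd.{u} p g45 := dn S .nil (.cons (d122 S) .nil) e45
theorem d123 (S : Sr.{u}) : Ds.{u} p g123 := ds S .nil .nil e123
theorem d46 (S : Sr.{u}) : Dd.{u} p g46 := dn S .nil (.cons (d123 S) .nil) e46
theorem d124 (S : Sr.{u}) : Ds.{u} p g124 := ds S .nil .nil e124
theorem d47 (S : Sr.{u}) : Dd.{u} p g47 := dn S .nil (.cons (d124 S) .nil) e47
theorem d125 (S : Sr.{u}) : Ds.{u} p g125 := ds S .nil .nil e125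
theorem d48 (S : Sr.{u}) : Dd.{u} p g48 := dn S .nil (.cons (d125 S) .nil) e48
theorem d39 (S : Sr.{u}) : Ds.{u} p g39 := ds S .nil .nil e39
theorem d40 (S : Sr.{u}) : Ds.{u} p g40 := ds S .nil .nil e40
theorem d41 (S : Sr.{u}) : Ds.{u} p g41 := ds S .nil .nil e41
theorem d42 (S : Sr.{u}) : Ds.{u} p g42 := ds S .nil .nil e42
theorem d43 (S : Sr.{u}) : Ds.{u} p g43 := ds S .nil .nil e43
theorem d44 (S : Sr.{u}) : Ds.{u} p g44 := ds S .nil .nil e44
theorem d3 (S : Sr.{u}) : Dd.{u} p g3 := dn S (.cons (d38 S) (.cons (d45 S) (.cons (d46 S) (.cons (d47 S) (.cons (d48 S) .nil))))) (.cons (d39 S) (.cons (d40 S) (.cons (d41 S) (.cons (d42 S) (.cons (d43 S) (.cons (d44 S) .nil)))))) e3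
theorem d49 (S : Sr.{u}) : Ds.{u} p g49 := ds S .nil .nil e49
theorem d16 (S : Sr.{u}) : Dd.{u} p g16 := dn S .nil (.cons (d49 S) .nil) e16
theorem d1 (S : Sr.{u}) : Ds.{u} p g1 := ds S .nil .nil e1
theorem d4 (S : Sr.{u}) : Ds.{u} p g4 := ds S .nil .nil e4
theorem d5 (S : Sr.{u}) : Ds.{u} p g5 := ds S .nil .nil e5
theorem d6 (S : Sr.{u}) : Ds.{u} p g6 := ds S .nil .nil e6
theorem d7 (S : Sr.{u}) : Ds.{u} p g7 := ds S .nil .nil e7
theorem d8 (S : Sr.{u}) : Ds.{u} p g8 := ds S .nil .nil e8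
theorem d9 (S : Sr.{u}) : Ds.{u} p g9 := ds S .nil .nil e9
theorem d10 (S : Sr.{u}) : Ds.{u} p g10 := ds S .nil .nil e10
theorem d11 (S : Sr.{u}) : Ds.{u} p g11 := ds S .nil .nil e11
theorem d12 (S : Sr.{u}) : Ds.{u} p g12 := ds S .nil .nil e12
theorem d13 (S : Sr.{u}) : Ds.{u} p g13 := ds S .nil .nil e13
theorem d14 (S : Sr.{u}) : Ds.{u} p g14 := ds S .nil .nil e14
theorem d15 (S : Sr.{u}) : Ds.{u} p g15 := ds S .nil .nil e15
theorem d17 (S : Sr.{u}) : Ds.{u} p g17 := ds S .nil .nil e17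
theorem d0 (S : Sr.{u}) : Dd.{u} p g0 := dn S (.cons (d2 S) (.cons (d3 S) (.cons (d16 S) .nil))) (.cons (d1 S) (.cons (d4 S) (.cons (d5 S) (.cons (d6 S) (.cons (d7 S) (.cons (d8 S) (.cons (d9 S) (.cons (d10 S) (.cons (d11 S) (.cons (d12 S) (.cons (d13 S) (.cons (d14 S) (.cons (d15 S) (.cons (d17 S) .nil)))))))))))))) e0
end
end H12.TM.E
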