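import Cfsg.Agent.H1.GFitting

/-! The Thompson–Wielandt theorem for two conjugate core-free maximal subgroups. -/

set_option maxHeartbeats 400000
open Subgroup Cfsg
open scoped Pointwise

namespace H12

variable {G : Type*} [Group G]

local notation "𝐍" X:max => normalizer ((X : Subgroup G) : Set G)
local notation "𝐂" X:max => centralizer ((X : Subgroup G) : Set G)
local notation "O[" p "]" X:max => map (Subgroup.subtype X) (pCore p X)

/-- The largest subgroup of `X ⊓ M` normal in `M`. -/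
def coreIn (M X : Subgroup G) : Subgroup G := (X.subgroupOf M).normalCore.map M.subtype

theorem coreIn_le (M X : Subgroup G) : coreIn M X ≤ X :=
  H1.map_subtype_le_iff.2 (normalCore_le _)

theorem coreIn_le' (M X : Subgroup G) : coreIn M X ≤ M := map_subtype_le _

theorem le_normalizer_coreIn (M X : Subgroup G) : M ≤ 𝐍 (coreIn M X) :=
  H1.le_normalizer_map_subtype _

theorem le_coreIn {M X Y : Subgroup G} (h : Y ≤ X) (h' : Y ≤ M) (hn : M ≤ 𝐍 Y) : Y ≤ coreIn M X :=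
  have := (normal_subgroupOf_iff_le_normalizer h').2 hn
  H1.le_map_subtype_iff.2 ⟨h', normal_le_normalCore.2 (comap_mono h)⟩

theorem mem_coreIn {M X : Subgroup G} {x : G} :
    x ∈ coreIn M X ↔ x ∈ M ∧ ∀ m ∈ M, m * x * m⁻¹ ∈ X :=
  ⟨fun ⟨y, h, e⟩ => e ▸ ⟨y.2, fun m hm => h ⟨m, hm⟩⟩, fun ⟨h, h'⟩ => ⟨⟨x, h⟩, fun m => h' m m.2, rfl⟩⟩

variable [Finite G]

/-- Two conjugate subgroups each of which is the normaliser of its non-trivial normal subgroups. -/
structure TW (M N : Subgroup G) : Prop where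
  ne : M ≠ N
  left : ∀ X ≠ ⊥, X ≤ M → M ≤ 𝐍 X → 𝐍 X ≤ M
  right : ∀ X ≠ ⊥, X ≤ N → N ≤ 𝐍 X → 𝐍 X ≤ N
  conj : ∃ g : G, N = MulAut.conj g • M

variable {M N : Subgroup G}

theorem TW.of_isCoatom (h : IsCoatom M) (hc : M.normalCore = ⊥) {g : G}
    (hg : N = MulAut.conj g • M) (hne : M ≠ N) : TW M N := by
  have h1 : ∀ X ≠ ⊥, X ≤ M → M ≤ 𝐍 X → 𝐍 X ≤ M := fun X h0 h1 h2 =>
    ((h.le_iff.1 h2).resolve_left fun e => have := normalizer_eq_top_iff.1 e
      h0 (eq_bot_iff.2 (hc ▸ normal_le_normalCore.2 h1))).le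
  refine ⟨hne, h1, fun X h0 h2 h3 => ?_, g, hg⟩
  subst hg
  rw [← H1.conj_smul_conj_inv_smul g X, ← H1.conj_smul_normalizer] at h3 ⊢
  rw [← H1.conj_smul_conj_inv_smul g X] at h2 h0
  rw [pointwise_smul_le_pointwise_smul_iff] at *
  exact h1 _ (fun e => h0 (by rw [e, smul_bot])) h2 h3

omit [Finite G] in
theorem TW.symm (h : TW M N) : TW N M :=
  ⟨h.ne.symm, h.right, h.left, h.conj.elim fun g e => ⟨g⁻¹, by rw [e, H1.conj_inv_smul_conj_smul]⟩⟩

omit [Finite G] in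
theorem TW.eq_bot (h : TW M N) {X : Subgroup G} (h1 : X ≤ M) (h2 : X ≤ N) (h3 : M ≤ 𝐍 X)
    (h4 : N ≤ 𝐍 X) : X = ⊥ :=
  by_contra fun e => h.ne (le_antisymm (h3.trans (h.right X e h2 h4)) (h4.trans (h.left X e h1 h3)))

theorem TW.pCore_eq_bot_of_le (h : TW M N) {p : ℕ} (hle : O[p] M ≤ O[p] N) : O[p] M = ⊥ := by
  obtain ⟨g, e⟩ := h.conj
  have h1 := eq_of_le_of_card_ge hle (by rw [e, ← H1.conj_smul_pCoreOf, H1.card_conj_smul])
  exact h.eq_bot (map_subtype_le _) (h1 ▸ map_subtype_le _) (H1.le_normalizer_pCoreOf _)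
    (h1 ▸ H1.le_normalizer_pCoreOf _)

theorem mem_of_coprime {p : ℕ} [Fact p.Prime] {T L : Subgroup G} (hT : IsPGroup p T) (h : T ≤ 𝐍 L)
    {y : G} (hy : y ∈ T ⊔ L) (hc : (orderOf y).Coprime p) : y ∈ L := by
  have := normal_subgroupOf_of_le_normalizer (sup_le h le_normalizer)
  obtain ⟨k, hk⟩ := hT.index (L.subgroupOf T)
  have h1 : y ^ L.relIndex (T ⊔ L) ∈ L := (L.subgroupOf (T ⊔ L)).pow_index_mem ⟨y, hy⟩
  rw [H1.relIndex_sup_of_le_normalizer h, relIndex, hk] at h1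
  exact zpowers_le.2 h1 (mem_zpowers_pow_iff.2 (hc.symm.pow_left k))

/-- The key step: a normal subgroup of `M` inside the `N`-core of `M ⊓ N` is a `p`-group for every
prime `p` with `O_p(M) ≠ 1`. -/
theorem TW.isPGroup (h : TW M N) {p : ℕ} [Fact p.Prime] (hp : O[p] M ≠ ⊥) {X : Subgroup G}
    (hX : X ≤ coreIn N (M ⊓ N)) (hn : M ≤ 𝐍 X) : IsPGroup p X := by
  set B := coreIn N (M ⊓ N)
  have hB : B ≤ M := (coreIn_le _ _).trans inf_le_left
  have hNB : N ≤ 𝐍 B := le_normalizer_coreIn _ _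
  have hNT : N ≤ 𝐍 (O[p] B) := hNB.trans (H1.normalizer_le_normalizer_pCoreOf B)
  let L := closure {x | x ∈ X ∧ (orderOf x).Coprime p}
  have hL : ∀ c : G, (∀ x ∈ X, (orderOf x).Coprime p → c * x * c⁻¹ ∈ L) → c ∈ 𝐍 L := fun c hc =>
    H1.mem_normalizer_of_conj_smul_le (by
      rw [H1.conj_smul_eq_map, MonoidHom.map_closure, closure_le]
      rintro _ ⟨x, hx, rfl⟩
      exact hc x hx.1 hx.2)
  have ho : ∀ c x : G, orderOf (c * x * c⁻¹) = orderOf x := fun c x => (MulAut.conj c).orderOf_eq x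
  have hML : M ≤ 𝐍 L := fun m hm => hL m fun x hx hc =>
    subset_closure ⟨H1.conj_mem_of_mem_normalizer (hn hm) hx, by rwa [ho]⟩
  have hLX : L ≤ X := (closure_le _).2 fun _ h => h.1
  by_contra hc
  have hL0 : L ≠ ⊥ := fun e => hc fun x => by
    obtain ⟨k, m, h1, h2⟩ := Nat.exists_eq_pow_mul_and_not_dvd (orderOf_pos x).ne' p
      (Fact.out : p.Prime).ne_one
    refine ⟨k, Subtype.ext (e.le (subset_closure ⟨(x ^ p ^ k).2, ?_⟩))⟩
    rw [orderOf_coe, orderOf_pow_of_dvd (NeZero.ne _) (h2 ▸ dvd_mul_right _ _), h2,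
      Nat.mul_div_cancel_left _ (NeZero.pos _)]
    exact ((Nat.Prime.coprime_iff_not_dvd Fact.out).2 h1).symm
  let C : Subgroup G :=
    { carrier := {c | c ∈ N ∧ ∀ x ∈ B, c * x * c⁻¹ * x⁻¹ ∈ O[p] B}
      one_mem' := ⟨one_mem _, fun x _ => by simp⟩
      mul_mem' := fun {c d} hc hd => ⟨mul_mem hc.1 hd.1, fun x hx => by
        simpa [mul_assoc] using mul_mem (H1.conj_mem_of_mem_normalizer (hNT hc.1) (hd.2 x hx))
          (hc.2 x hx)⟩
      inv_mem' := fun {c} hc => ⟨inv_mem hc.1, fun x hx => by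
        simpa [mul_assoc] using H1.conj_mem_of_mem_normalizer' (hNT hc.1) (inv_mem (hc.2 x hx))⟩ }
  have hCM : C ≤ M := le_trans (fun c hc => hL c fun x hx hx' => mem_of_coprime
    (H1.pCoreOf_isPGroup B) ((map_subtype_le _).trans (hB.trans hML)) (by
      simpa using mul_mem_sup (hc.2 x (hX hx)) (subset_closure ⟨hx, hx'⟩ : x ∈ L)) (by rwa [ho]))
    (h.left L hL0 (hLX.trans (hX.trans hB)) hML)
  have hCB : C ≤ B := le_coreIn (le_inf hCM fun _ h => h.1) (fun _ h => h.1) fun n hn =>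
    H1.mem_normalizer_of_conj_mem fun c hc => ⟨mul_mem (mul_mem hn hc.1) (inv_mem hn), fun x hx => by
      simpa [mul_assoc] using H1.conj_mem_of_mem_normalizer (hNT hn)
        (hc.2 _ (H1.conj_mem_of_mem_normalizer' (hNB hn) hx))⟩
  have h1 : ∀ K : Subgroup G, B ≤ K → O[p] K ⊓ N ≤ C := fun K hK c hc => ⟨hc.2, fun x hx =>
    H1.pCoreOf_inf_le_pCoreOf hK ⟨by
      simpa [mul_assoc] using mul_mem hc.1 (H1.conj_mem_of_mem_normalizer
        (H1.le_normalizer_pCoreOf K (hK hx)) ((O[p] K).inv_mem hc.1)),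
      B.mul_mem (H1.conj_mem_of_mem_normalizer (hNB hc.2) hx) (B.inv_mem hx)⟩⟩
  have h2 : O[p] N ≤ M := (le_inf le_rfl (map_subtype_le _)).trans ((h1 N (coreIn_le' _ _)).trans hCM)
  have h3 : O[p] M ⊓ N ≤ O[p] N := (le_inf inf_le_left ((h1 M hB).trans hCB)).trans
    ((H1.pCoreOf_inf_le_pCoreOf hB).trans (H1.pCoreOf_mono (coreIn_le' _ _) hNB))
  have h4 := h2.trans (H1.le_normalizer_pCoreOf (p := p) M)
  refine hp (h.pCore_eq_bot_of_le (by_contra fun e => ?_))
  obtain ⟨y, ⟨h5, h6⟩, h7⟩ := SetLike.exists_of_lt ((H1.SubnIn.of_isPGroup le_sup_left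
    ((H1.pCoreOf_isPGroup N).to_sup_of_normal_right' (H1.pCoreOf_isPGroup M) h4)).lt_normalizer_inf
      fun e' => e (e' ▸ le_sup_right))
  obtain ⟨s, hs, r, hr, rfl⟩ := (H1.mem_sup_of_le_normalizer h4).1 h6
  refine h7 (mul_mem hs (h3 ⟨hr, (mul_mem_cancel_left (map_subtype_le _ hs)).1
    (h.right _ (fun e' => hp ?_) (map_subtype_le _) (H1.le_normalizer_pCoreOf _) h5)⟩))
  obtain ⟨g, rfl⟩ := h.conj
  rwa [← H1.conj_smul_pCoreOf, smul_eq_iff_eq_inv_smul, smul_bot] at e'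

theorem TW.layer_le (h : TW M N) {A B : Subgroup G} (hA : A ≠ ⊥) (hB : B ≠ ⊥)
    (hA1 : A ≤ coreIn M (M ⊓ N) ⊓ coreIn N (M ⊓ N)) (hB1 : B ≤ coreIn M (M ⊓ N) ⊓ coreIn N (M ⊓ N))
    (hAn : M ≤ 𝐍 A) (hBn : N ≤ 𝐍 B) :
    (layer N).map N.subtype ≤ (layer M).map M.subtype := by
  refine H1.layerOf_le_iff.2 fun K hK hq => H1.le_layerOf ?_ hq
  have h1 := h.left A hA ((hA1.trans inf_le_left).trans (coreIn_le' _ _)) hAn
  have h2 := h.right B hB ((hB1.trans inf_le_right).trans (coreIn_le' _ _)) hBn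
  have h3 : K ≤ M := by
    rcases H1.le_or_commutator_eq_bot_of_subnIn hq hK ((H1.SubnIn.of_le_normalizer
      (hA1.trans inf_le_right) (((coreIn_le _ _).trans inf_le_left).trans hAn)).trans
      (.of_le_normalizer (coreIn_le' _ _) (le_normalizer_coreIn _ _))) with e | e
    · exact e.trans (le_normalizer.trans h1)
    · exact (H1.le_centralizer_of_commutator_eq_bot e).trans ((centralizer_le_normalizer _).trans h1)
  have h4 := hK.mono (le_inf h3 hK.le) inf_le_right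
  refine (h4.mono ?_ (coreIn_le M _)).trans
    (.of_le_normalizer (coreIn_le' _ _) (le_normalizer_coreIn _ _))
  rcases H1.le_or_commutator_eq_bot_of_subnIn hq h4 (.of_le_normalizer (coreIn_le M _)
    (inf_le_left.trans (le_normalizer_coreIn _ _))) with e | e
  · exact e
  have h5 := (H1.centralizer_anti (hA1.trans inf_le_left)).trans
    ((centralizer_le_normalizer _).trans h1)
  exact (H1.le_centralizer_of_commutator_eq_bot e).trans (le_coreIn (le_inf h5
    ((H1.centralizer_anti (hB1.trans inf_le_left)).trans ((centralizer_le_normalizer _).trans h2))) h5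
    (H1.le_normalizer_centralizer (le_normalizer_coreIn _ _)))

/-- **Thompson–Wielandt**. -/
theorem TW.main (h : TW M N) {A B : Subgroup G} (hA : A ≠ ⊥) (hB : B ≠ ⊥)
    (hA1 : A ≤ coreIn M (M ⊓ N) ⊓ coreIn N (M ⊓ N)) (hB1 : B ≤ coreIn M (M ⊓ N) ⊓ coreIn N (M ⊓ N))
    (hAn : M ≤ 𝐍 A) (hBn : N ≤ 𝐍 B) : ∃ p : ℕ, p.Prime ∧ IsPGroup p A ∧ IsPGroup p B ∧
      generalizedFittingSubgroup M = pCore p M ∧ generalizedFittingSubgroup N = pCore p N := by
  have h1 := (h.layer_le hA hB hA1 hB1 hAn hBn).antisymm (h.symm.layer_le hB hA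
    (by rwa [inf_comm N, inf_comm]) (by rwa [inf_comm N, inf_comm]) hBn hAn)
  have h2 := h.eq_bot (map_subtype_le (layer M)) (h1 ▸ map_subtype_le _)
    (H1.le_normalizer_map_subtype _) (h1 ▸ H1.le_normalizer_map_subtype _)
  have h3 := H1.gf_eq_fitting_iff.2 (H1.map_subtype_eq_bot_iff.1 h2)
  have h4 := H1.gf_eq_fitting_iff.2 (H1.map_subtype_eq_bot_iff.1 (h1.trans h2))
  have h5 : ∀ p : ℕ, pCore p M = ⊥ ↔ pCore p N = ⊥ := fun p => by
    obtain ⟨g, rfl⟩ := h.conj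
    rw [← H1.map_subtype_eq_bot_iff, ← H1.map_subtype_eq_bot_iff (H := MulAut.conj g • M),
      ← H1.conj_smul_pCoreOf, smul_eq_iff_eq_inv_smul, smul_bot]
  have : Nontrivial M := (nontrivial_iff_ne_bot M).2 fun e =>
    hA (eq_bot_iff.2 (e ▸ (hA1.trans inf_le_left).trans (coreIn_le' _ _)))
  obtain ⟨p, _, hp⟩ : ∃ (p : ℕ) (_ : Fact p.Prime), pCore p M ≠ ⊥ := by
    simpa using mt (H1.fitting_le_iff (H := ⊥)).2 (mt eq_bot_iff.2 (h3 ▸ H1.gf_ne_bot))
  have h6 : ∀ (q : ℕ) [Fact q.Prime], pCore q M ≠ ⊥ → IsPGroup q A := fun q _ hq =>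
    h.isPGroup (mt H1.map_subtype_eq_bot_iff.1 hq) (hA1.trans inf_le_right) hAn
  have h7 : ∀ (q : ℕ) [Fact q.Prime], q ≠ p → pCore q M = ⊥ := fun q _ hq => by_contra fun e =>
    hA (IsPGroup.disjoint_of_ne q p hq _ _ (h6 q e) (h6 p hp)).eq_bot_of_self
  refine ⟨p, Fact.out, h6 p hp, h.symm.isPGroup (mt H1.map_subtype_eq_bot_iff.1 (mt (h5 p).2 hp))
    (inf_comm N M ▸ hB1.trans inf_le_left) hBn, h3.trans (le_antisymm (H1.fitting_le_iff.2 fun q _ => ?_)
      H1.pCore_le_fitting), h4.trans (le_antisymm (H1.fitting_le_iff.2 fun q _ => ?_)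
        H1.pCore_le_fitting)⟩ <;> by_cases e : q = p <;> simp [e, h7, ← h5, (h5 q).1]

theorem TW.pCore_inf_eq_bot (h : TW M N) {p : ℕ} [Fact p.Prime]
    (hP : O[p] (M ⊓ N : Subgroup G) ≤ coreIn M (M ⊓ N)) : O[p] (M ⊓ N : Subgroup G) = ⊥ := by
  have h1 := H1.pCoreOf_eq_inf (p := p) (coreIn_le M (M ⊓ N)) (inf_le_left.trans (le_normalizer_coreIn M _))
  rw [inf_eq_left.2 hP] at h1
  have h2 : M ≤ 𝐍 (O[p] (M ⊓ N : Subgroup G)) :=
    h1 ▸ (le_normalizer_coreIn M _).trans (H1.normalizer_le_normalizer_pCoreOf _)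
  have h3 := H1.le_pCoreOf ((map_subtype_le _).trans inf_le_left) h2 (H1.pCoreOf_isPGroup (p := p) _)
  have h4 := (map_subtype_le (pCore p ↥(M ⊓ N))).trans
    (inf_le_right.trans (H1.le_normalizer_pCoreOf (p := p) N))
  by_contra h0
  have h5 : O[p] N ≤ O[p] (M ⊓ N : Subgroup G) := by_contra fun e => by
    obtain ⟨y, ⟨h5, h6⟩, h7⟩ := SetLike.exists_of_lt ((H1.SubnIn.of_isPGroup le_sup_left
      ((H1.pCoreOf_isPGroup _).to_sup_of_normal_right' (H1.pCoreOf_isPGroup N) h4)).lt_normalizer_inf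
        fun e' => e (e' ▸ le_sup_right))
    obtain ⟨s, hs, r, hr, rfl⟩ := (H1.mem_sup_of_le_normalizer h4).1 h6
    exact h7 (mul_mem hs (H1.pCoreOf_inf_le_pCoreOf inf_le_right ⟨hr, (M.mul_mem_cancel_left
      (map_subtype_le _ hs).1).1 (h.left _ h0 ((map_subtype_le _).trans inf_le_left) h2 h5),
        map_subtype_le _ hr⟩))
  have h6 := h.symm.pCore_eq_bot_of_le (h5.trans h3)
  obtain ⟨g, rfl⟩ := h.conj
  rw [← H1.conj_smul_pCoreOf, smul_eq_iff_eq_inv_smul, smul_bot] at h6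
  exact h0 (eq_bot_iff.2 (h6 ▸ h3))

theorem index_iInf_dvd {ι : Type*} [Fintype ι] (K : ι → Subgroup G) [∀ i, (K i).Normal] :
    (⨅ i, K i).index ∣ ∏ i, (K i).index := by
  have : (Pi.monoidHom fun i => QuotientGroup.mk' (K i)).ker = ⨅ i, K i := by
    ext x; simp [mem_iInf, funext_iff, Pi.monoidHom]
  rw [← this, index_ker]
  exact (card_subgroup_dvd_card _).trans (Nat.card_pi.dvd)

theorem relIndex_coreIn_dvd (M N : Subgroup G) :
    (coreIn M (M ⊓ N)).relIndex M ∣ (N.relIndex M).factorial := by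
  rw [relIndex, coreIn, H1.map_subtype_subgroupOf, normalCore_eq_ker, index_ker, ← inf_relIndex_left,
    relIndex, index, ← Nat.card_perm]
  exact card_subgroup_dvd_card _

theorem relIndex_coreIn_two_dvd {d : ℕ} (h1 : N.relIndex M = d) (h2 : M.relIndex N = d) :
    (coreIn M (coreIn M (M ⊓ N) ⊓ coreIn N (M ⊓ N))).relIndex M ∣
      d.factorial * (d - 1).factorial ^ d := by
  set A := coreIn M (M ⊓ N)
  set B := coreIn N (M ⊓ N)
  have hA : A ≤ M := coreIn_le' _ _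
  have hMA : M ≤ 𝐍 A := le_normalizer_coreIn _ _
  have hB : M ⊓ N ≤ 𝐍 B := inf_le_right.trans (le_normalizer_coreIn _ _)
  rw [← relIndex_mul_relIndex _ A M ((coreIn_le _ _).trans inf_le_left) hA, mul_comm]
  refine mul_dvd_mul (h1 ▸ relIndex_coreIn_dvd M N) ?_
  have h3 : B.relIndex (M ⊓ N) ∣ (d - 1).factorial := by
    have := inf_comm N M ▸ relIndex_coreIn_dvd N M
    have h0 : d ≠ 0 := h2 ▸ index_ne_zero_of_finite
    rw [← relIndex_mul_relIndex _ (M ⊓ N) N (coreIn_le _ _) inf_le_right, inf_relIndex_right, h2,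
      ← Nat.mul_factorial_pred h0, mul_comm d] at this
    exact Nat.dvd_of_mul_dvd_mul_right (Nat.pos_of_ne_zero h0) this
  have := normal_subgroupOf_of_le_normalizer hB
  replace h3 := (relIndex_subgroupOf (coreIn_le M _) ▸ relIndex_dvd_index_of_normal
    (B.subgroupOf (M ⊓ N)) (A.subgroupOf _)).trans h3
  have := Fintype.ofFinite (M ⧸ N.subgroupOf M)
  let K := fun q : M ⧸ N.subgroupOf M => (MulAut.conj (q.out : G) • B).subgroupOf A
  have h4 : ∀ m ∈ M, MulAut.conj m • A = A := fun m hm => H1.conj_smul_eq_of_mem_normalizer (hMA hm)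
  have : ∀ q, (K q).Normal := fun q => normal_subgroupOf_of_le_normalizer (by
    rw [← H1.conj_smul_normalizer, ← h4 _ q.out.2,
      pointwise_smul_le_pointwise_smul_iff]
    exact (coreIn_le _ _).trans hB)
  refine (index_dvd_of_le (H := ⨅ q, K q) (K := (coreIn M (A ⊓ B)).subgroupOf A) ?_).trans
    ((index_iInf_dvd K).trans ?_)
  · refine fun x hx => mem_coreIn.2 ⟨hA x.2, fun m hm =>
      mem_inf.2 ⟨H1.conj_mem_of_mem_normalizer (hMA hm) x.2, ?_⟩⟩
    obtain ⟨k, hk⟩ := QuotientGroup.mk_out_eq_mul (N.subgroupOf M) ⟨m, hm⟩⁻¹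
    have := H1.mem_conj_smul_iff.1 (mem_iInf.1 hx (QuotientGroup.mk ⟨m, hm⟩⁻¹))
    rw [hk] at this
    simpa [mul_assoc] using H1.conj_mem_of_mem_normalizer (hB ⟨k.1.2, k.2⟩) this
  refine (Finset.prod_dvd_prod_of_dvd _ (fun _ => (d - 1).factorial) fun q _ => ?_).trans (by
    rw [Finset.prod_const, Finset.card_univ, ← Nat.card_eq_fintype_card, ← h1]; rfl)
  have := relIndex_map_map_of_injective B A (f := (MulAut.conj (q.out : G)).toMonoidHom)
    (MulAut.conj _).injective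
  rw [← H1.conj_smul_eq_map, ← H1.conj_smul_eq_map, h4 _ q.out.2] at this
  exact this.dvd.trans h3

open MulAction

variable {Ω : Type*} [MulAction G Ω] [FaithfulSMul G Ω] [IsPreprimitive G Ω] {a b : Ω}

theorem relIndex_stabilizer_symm : (stabilizer G a).relIndex (stabilizer G b) =
    (stabilizer G b).relIndex (stabilizer G a) := by
  have := relIndex_mul_index (inf_le_left : stabilizer G a ⊓ stabilizer G b ≤ _)
  rw [← relIndex_mul_index (inf_le_right : stabilizer G a ⊓ stabilizer G b ≤ _), inf_relIndex_left,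
    inf_relIndex_right, index_stabilizer_of_transitive G b, ← index_stabilizer_of_transitive G a] at this
  exact Nat.eq_of_mul_eq_mul_right (Nat.pos_of_ne_zero index_ne_zero_of_finite) this.symm

theorem TW.of_isPreprimitive (h : 2 ≤ Nat.card (orbit (stabilizer G a) b)) :
    TW (stabilizer G a) (stabilizer G b) := by
  have h1 : stabilizer G a ≠ stabilizer G b := fun e => by
    have h1 : (stabilizer G b).relIndex (stabilizer G a) = Nat.card (orbit (stabilizer G a) b) :=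
      index_stabilizer (stabilizer G a) b
    rw [← h1, relIndex_eq_one.2 e.le] at h
    omega
  have : Nontrivial Ω := ⟨a, b, by rintro rfl; exact h1 rfl⟩
  obtain ⟨g, rfl⟩ := exists_smul_eq G a b
  refine .of_isCoatom (IsPreprimitive.isCoatom_stabilizer_of_isPreprimitive G a) (eq_bot_iff.2
    fun x hx => eq_of_smul_eq_smul (α := Ω) fun c => ?_) (stabilizer_smul_eq_stabilizer_map_conj g a) h1
  obtain ⟨k, rfl⟩ := exists_smul_eq G a c
  simpa [mul_smul, inv_smul_eq_iff] using hx k⁻¹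

/-- Either the point stabiliser is small or the Thompson–Wielandt conclusion holds. -/
theorem card_dvd_or {d : ℕ} (hd : Nat.card (orbit (stabilizer G a) b) = d) (h2 : 2 ≤ d) :
    Nat.card (stabilizer G a) ∣ d.factorial * (d - 1).factorial ^ d ∨ ∃ p : ℕ, p.Prime ∧
      generalizedFittingSubgroup (stabilizer G a) = pCore p (stabilizer G a) ∧
      ∃ P : Subgroup G, P ≠ ⊥ ∧ IsPGroup p P ∧ P ≤ stabilizer G a ⊓ stabilizer G b ∧
        stabilizer G a ≤ 𝐍 P ∧ P.relIndex (stabilizer G a) ∣ d.factorial * (d - 1).factorial ^ d := by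
  have h1 : (stabilizer G b).relIndex (stabilizer G a) = d :=
    (index_stabilizer (stabilizer G a) b).trans hd
  have h3 := relIndex_coreIn_two_dvd h1 (relIndex_stabilizer_symm.trans h1)
  have h4 := relIndex_coreIn_two_dvd (relIndex_stabilizer_symm.trans h1) h1
  rw [inf_comm (stabilizer G b), inf_comm (coreIn _ _)] at h4
  refine or_iff_not_imp_left.2 fun h => ?_
  have h5 : coreIn (stabilizer G a) (coreIn (stabilizer G a) (stabilizer G a ⊓ stabilizer G b) ⊓
      coreIn (stabilizer G b) (stabilizer G a ⊓ stabilizer G b)) ≠ ⊥ := fun e => h (by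
    rwa [e, relIndex_bot_left] at h3)
  obtain ⟨p, hp, h6, -, h7, -⟩ := (TW.of_isPreprimitive (hd ▸ h2)).main h5 (fun e => h (by
    obtain ⟨g, rfl⟩ := exists_smul_eq G a b
    rwa [e, relIndex_bot_left, stabilizer_smul_eq_stabilizer_map_conj, H1.card_map_conj] at h4))
    (coreIn_le _ _) (coreIn_le _ _) (le_normalizer_coreIn _ _) (le_normalizer_coreIn _ _)
  exact ⟨p, hp, h7, _, h5, h6, (coreIn_le _ _).trans (inf_le_left.trans (coreIn_le _ _)),
    le_normalizer_coreIn _ _, h3⟩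

end H12
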