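import Cfsg.Agent.H12.TMD

/-! Data for the certificate checker. -/

set_option autoImplicit false
set_option maxRecDepth 100000
set_option Elab.async false
set_option linter.all false

namespace H12.TM.A
noncomputable section
def p : Par := ⟨false, false, false⟩
def g0 : Gl := TM.g0 false
def t0 : Tw := .x (nat_lit 32) (nat_lit 0x1e01f01d01c01a01b01901801601701501401201301101000e00f00d00c00a00b009008006007005004002003001000) (nat_lit 0) .b
def g1 : Gl := ⟨t0, [⟨[1, 2, 4], [4, 2, 5], 4096, true⟩], nat_lit 0x332, nat_lit 0x4⟩
end
end H12.TM.A
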