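/-
The 2-fusion system of a simple group without strongly closed abelian subgroups is almost simple.
-/
import Cfsg.Agent.H12.WP6
import Cfsg.Agent.H25.Comp

set_option autoImplicit false
set_option linter.unusedSectionVars false
set_option linter.dupNamespace false

namespace H12.WP
open Cfsg Subgroup H25 H25.FS

variable {M : ℕ} {F E C D : FS (Univ M)} {H S P X : Subgroup (Univ M)} {a g x : Univ M} {J : Set (Subgroup (Univ M))}

/-- the Sylow subgroups of the components -/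
def CS (F : FS (Univ M)) : Set (Subgroup (Univ M)) := {X | ∃ C : FS (Univ M), C.Cmp F 2 ∧ C.S = X}

section
variable (hB : Big F.S) (h0 : F.core = ⊥) (hE : E.Lay F 2)

include h0 in
theorem cmp_center (hC : C.Cmp F 2) : C.center = ⊥ :=
  eq_bot_iff.2 ((center_le_core C).trans (hC.1.core_le.trans h0.le))

include h0 in
theorem cmp_nc (hC : C.Cmp F 2) : ¬ H25.PF.IC Set.univ C.S := fun h => by
  have k : ∀ x ∈ C.S, x * x = 1 → ∀ y ∈ C.S, y * y = 1 → x * y = y * x := fun x x1 x2 y y1 y2 => by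
    by_cases e1 : x = 1
    · simp [e1]
    by_cases e2 : y = 1
    · simp [e2]
    exact h x trivial x1 (H17.GS.ord2_of x2 e1) y trivial y1 (H17.GS.ord2_of y2 e2)
  let Q : Subgroup (Univ M) :=
    { carrier := {x | x ∈ C.S ∧ x * x = 1}
      one_mem' := ⟨one_mem _, one_mul 1⟩
      mul_mem' := fun {x y} hx hy => ⟨mul_mem hx.1 hy.1, H3.ZD.sq_mul_comm hx.2 hy.2 (k x hx.1 hx.2 y hy.1 hy.2)⟩
      inv_mem' := fun {x} hx => ⟨inv_mem hx.1, by rw [← mul_inv_rev, hx.2, inv_one]⟩ }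
  obtain ⟨t, t1, t2⟩ := H17.GS.exists_inv_pg (.of_isPGroup Nat.prime_two hC.2.sat.pg) fun e => hC.2.ne (e.le.trans bot_le)
  exact hC.2.sat.core_ne_bot_iff.2 ⟨Q, H19.ne_bot_of_mem (show t ∈ Q from ⟨t1, H17.GS.mul_self_of_ord2 t2⟩)
    (H17.GS.ne_one_of_ord2 t2), fun x hx => mem_cz'.2 fun y hy => k y hy.1 hy.2 x hx.1 hx.2, fun _ h => h.1,
    fun P g H x x1 x2 => ⟨H.conj_mem x1, H17.GS.conj_sq x2.2 g⟩⟩ (eq_bot_iff.2 (hC.1.core_le.trans h0.le))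

include hB hE

theorem sc_TT (hJ : J ⊆ CS F) : E.SC (TT id J) := by
  rw [show TT id J = sSup J from sSup_eq_iSup.symm]
  exact sSup_induction_fin (X := E.SC) E.sc_bot (fun _ _ => hE.nml.sat.sc_sup) fun _ k =>
    let ⟨_, h1, h2⟩ := hJ k; h2 ▸ (h1.nml_lay hB hE).sc

theorem cj_CS (ha : a ∈ F.A E.S) (h : X ∈ CS F) : cj a X ∈ CS F :=
  let ⟨C, h1, h2⟩ := h
  ⟨_, h1.cjs_of_T hE.nml.satF hB ((T_of_mem_A hE.nml.S_le ha).mono (S_le_of_le (hE.le C h1))), h2 ▸ rfl⟩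

theorem cj_TT (ha : a ∈ F.A E.S) (hx : x ∈ TT id (CS F \ {X})) : a * x * a⁻¹ ∈ TT id (CS F \ {cj a X}) :=
  cj_le.1 (cj_le_iff.2 (TT_le.2 fun Y hY => cj_le_iff.1 (le_TT (T := id) (J := CS F \ {cj a X})
    ⟨cj_CS hB hE ha hY.1, fun e => hY.2 (cj_inj.1 e)⟩))) x hx

theorem perm_TT (hP : P ≤ TT id (CS F)) (H : F.T P g) : ∃ a ∈ F.A E.S, ∀ x ∈ P, g * x * g⁻¹ ∈ TT id (CS F) ∧
    ∀ X, (x ∈ TT id (CS F \ {X}) ↔ g * x * g⁻¹ ∈ TT id (CS F \ {cj a X})) := by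
  obtain ⟨a, ha, H'⟩ := hE.nml.inv.fratt P g (hP.trans (sc_TT hB hE le_rfl).le) H
  refine ⟨a, ha, fun x hx => ⟨?_, fun X => ⟨fun k => ?_, fun k => (sc_TT hB hE Set.diff_subset).mem_of_conj_mem H' hx ?_⟩⟩⟩
  · simpa [mul_assoc] using cj_le.1 (cj_le_iff.2 (TT_le.2 fun Y hY => cj_le_iff.1 (le_TT (T := id) (cj_CS hB hE ha hY))))
      _ ((sc_TT hB hE le_rfl).conj_mem H' hx (hP hx))
  · simpa [mul_assoc] using cj_TT hB hE ha ((sc_TT hB hE Set.diff_subset).conj_mem H' hx k)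
  · simpa [mul_assoc] using cj_TT hB hE (inv_mem ha) k

include h0

theorem cmp_cz (hC : C.Cmp F 2) (hD : D.Cmp F 2) (ne : C ≠ D) : E.Cz C D.S :=
  (Cmp.or_cz ⟨(hC.nml_lay hB hE).subn, hC.2⟩ (hB.mono hE.nml.S_le) (hD.nml_lay hB hE).wn).resolve_left fun h =>
    (hD.2.wn C ((hC.nml_lay hB hE).wn.of_le hD.2.sat h.le (hE.le D hD))).elim
      (fun e => hC.2.ne ((e.trans (cmp_center h0 hD).le).trans bot_le)) ne

theorem ind_TT (h : X ∈ CS F) : X ⊓ TT id (CS F \ {X}) = ⊥ := by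
  obtain ⟨C, hC, rfl⟩ := h
  exact eq_bot_iff.2 ((((((hC.nml_lay hB hE).cz_cse (hB.mono hE.nml.S_le)).mono (inf_le_right.trans ((TT_le (J := CS F \ {C.S})).2
    fun _ ⟨⟨D, hD, e⟩, k⟩ => e ▸ (cmp_cz hB h0 hE hC hD fun e' => k (e' ▸ e).symm).le_cse))).cen hC.2.sat
    inf_le_left).le_center).trans (cmp_center h0 hC).le)

end

theorem cmp_unique (hH : H17.GS.Sim H) (hp : IsPGroup 2 S) (hs : Syl 2 S H) (hB : Big S)
    (h0 : (ofSub H S).core = ⊥) (hC : C.Cmp (ofSub H S) 2) (hD : D.Cmp (ofSub H S) 2) : C = D := by_contra fun ne => by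
  obtain ⟨E, hE⟩ := (sat_ofSub hp hs).exists_lay hB
  have k0 : TT id (CS (ofSub H S)) ≤ S := (sc_TT hB hE le_rfl).le.trans hE.nml.S_le
  refine hC.2.not_cz (cmp_cz hB h0 hE hC hD ne) (single' (T := id) hH (Set.toFinite _)
    (H17.GS.SCl.of_syl (H19.syl_mk hs.1 (.of_isPGroup Nat.prime_two hp) hs.2) k0 fun x hx g hg e => ?_)
    (fun _ ⟨C, h1, e1⟩ _ ⟨D, h2, e2⟩ e => e1 ▸ e2 ▸ (cmp_cz hB h0 hE h2 h1 fun e' => e (e1 ▸ e2 ▸ e' ▸ rfl)).le_cz)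
    (fun _ => ind_TT hB h0 hE) (fun x hx y hy g hg e1 e2 => ?_) (fun _ ⟨C, h1, e1⟩ => e1 ▸ cmp_nc h0 h1)
    ⟨C, hC, rfl⟩ ⟨D, hD, rfl⟩).le
  · obtain ⟨a, -, k⟩ := perm_TT hB hE (zpowers_le.2 hx) (ofSub_T_of_mem (zpowers_le.2 (k0 hx)) hg
      (by rw [cj_zpowers]; exact zpowers_le.2 e))
    exact (k x (mem_zpowers x)).1
  · have k1 := sup_le (zpowers_le.2 hx) (zpowers_le.2 hy)
    obtain ⟨a, ha, k⟩ := perm_TT hB hE k1 (ofSub_T_of_mem (k1.trans k0) hg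
      (by rw [cj_sup, cj_zpowers, cj_zpowers]; exact sup_le (zpowers_le.2 (k0 e1)) (zpowers_le.2 (k0 e2))))
    exact ⟨cj a, ⟨fun _ => cj_CS hB hE ha, fun _ _ _ _ => cj_inj.1, fun Y hY =>
      ⟨_, cj_CS hB hE (inv_mem ha) hY, cj_cj_inv a Y⟩⟩, fun X _ => ⟨(card_cj a X).symm,
      (k x (mem_sup_left (mem_zpowers x))).2 X, (k y (mem_sup_right (mem_zpowers y))).2 X⟩⟩

theorem almost_simple (hH : H17.GS.Sim H) (hp : IsPGroup 2 S) (hs : Syl 2 S H) (hB : Big S)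
    (h0 : (ofSub H S).core = ⊥) (hS : S ≠ ⊥) : ∃ C : FS (Univ M), C.Nml (ofSub H S) 2 ∧ 2 < Nat.card C.S ∧
      C.Simple 2 ∧ ∀ D : FS (Univ M), D.Nml (ofSub H S) 2 → D.S ≠ ⊥ → C ≤ D := by
  have hF := sat_ofSub hp hs
  have k : ∀ D : FS (Univ M), D.Nml (ofSub H S) 2 → D.S ≠ ⊥ → ∃ C : FS (Univ M), C.Cmp D 2 := fun D hD e =>
    hD.sat.exists_cmp fun h => e (eq_bot_iff.2 ((le_inf le_rfl (le_cz_comm.1 ((hD.wn.core_le.trans h0.le).trans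
      bot_le))).trans (h.centric_core.C_le.trans (hD.wn.core_le.trans h0.le))))
  obtain ⟨C, hC⟩ := k _ hF.nml_refl hS
  obtain ⟨E, hE⟩ := hF.exists_lay hB
  refine ⟨C, (hC.nml_lay hB hE).trans_aut hE.nml hB fun a ha => cmp_unique hH hp hs hB h0 (hC.cjs_of_T hF hB
    ((T_of_mem_A hE.nml.S_le ha).mono (S_le_of_le (hE.le C hC)))) hC, ?_, ⟨hC.2.sat, fun e => hC.2.ne (e.le.trans bot_le),
    fun D hD => (hC.2.wn D hD.wn).imp_left fun e => eq_bot_iff.2 (e.trans (cmp_center h0 hC).le)⟩, fun D hD e =>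
    let ⟨C', h⟩ := k D hD e; cmp_unique hH hp hs hB h0 (h.step hD) hC ▸ h.le⟩
  have := cmp_nc h0 hC
  simp only [H25.PF.IC, not_forall] at this
  obtain ⟨s, -, s2, s3, t, -, t2, t3, e⟩ := this
  exact (Set.two_lt_ncard (s := (C.S : Set (Univ M)))).2 ⟨1, one_mem _, s, s2, t, t2, (H17.GS.ne_one_of_ord2 s3).symm,
    (H17.GS.ne_one_of_ord2 t3).symm, fun e' => e (e' ▸ rfl)⟩

end H12.WP
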